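import Mathlib

/-! Basic facts on permutation groups: 3-cycles from commutators, Bochert's bound,
intransitive subgroups of small index. -/

set_option autoImplicit false

namespace H46

open Equiv Equiv.Perm MulAction
open scoped Pointwise

theorem choose_gt (n k : ℕ) (h1 : 2 ≤ k) (h2 : k + 2 ≤ n) : n < n.choose k := by
  induction n generalizing k with
  | zero => omega
  | succ m ih =>
    obtain ⟨j, rfl⟩ : ∃ j, k = j + 1 := ⟨k - 1, by omega⟩
    rw [Nat.choose_succ_succ']
    rcases lt_or_ge (j + 1 + 2) (m + 1) with h | h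
    · have := ih (j + 1) h1 (by omega)
      have : 1 ≤ m.choose j := Nat.choose_pos (by omega)
      omega
    · have hj : j + 1 + 2 = m + 1 := by omega
      rcases Nat.lt_or_ge j 2 with hj2 | hj2
      · have : m = 3 := by omega
        have : j = 1 := by omega
        subst_vars
        decide
      · have := ih j hj2 (by omega)
        have : 1 ≤ m.choose (j + 1) := Nat.choose_pos (by omega)
        omega

theorem choose_mono_left_half (n i j : ℕ) (hij : i ≤ j) (hj : 2 * j ≤ n) :
    n.choose i ≤ n.choose j := by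
  induction j, hij using Nat.le_induction with
  | base => rfl
  | succ j hj' ih => exact le_trans (ih (by omega)) (Nat.choose_le_succ_of_lt_half_left (by omega))

theorem choose_two_le (n k : ℕ) (h1 : 2 ≤ k) (h2 : k + 2 ≤ n) : n.choose 2 ≤ n.choose k := by
  rcases Nat.lt_or_ge n (2 * k) with h | h
  · rw [← Nat.choose_symm (show k ≤ n by omega)]
    exact choose_mono_left_half n 2 (n - k) (by omega) (by omega)
  · exact choose_mono_left_half n 2 k h1 h

theorem eq_of_le_of_index_eq {G : Type*} [Group G] [Finite G] {H K : Subgroup G} (h : H ≤ K)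
    (he : H.index = K.index) : H = K := by
  apply Subgroup.eq_of_le_of_card_ge h
  have h1 := H.card_mul_index
  have h2 := K.card_mul_index
  rw [he] at h1
  exact le_of_eq (Nat.eq_of_mul_eq_mul_right (Nat.pos_of_ne_zero K.index_ne_zero_of_finite) (h2.trans h1.symm))

variable {α : Type*} [Fintype α] [DecidableEq α]

/-- If the supports of two permutations meet in a single point, their commutator is a 3-cycle. -/
theorem isThreeCycle_commutator (g h : Perm α) (x : α)
    (hx : g.support ∩ h.support = {x}) :
    (g * h * g⁻¹ * h⁻¹).IsThreeCycle := by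
  have hx' : x ∈ g.support ∩ h.support := by rw [hx]; exact Finset.mem_singleton_self x
  rw [Finset.mem_inter, Perm.mem_support, Perm.mem_support] at hx'
  obtain ⟨hgx, hhx⟩ := hx'
  have only : ∀ y, g y ≠ y → h y ≠ y → y = x := by
    intro y h1 h2
    have : y ∈ g.support ∩ h.support := by simp [h1, h2]
    rw [hx] at this
    exact Finset.mem_singleton.1 this
  have hg : ∀ y, y ≠ x → h y ≠ y → g y = y := fun y h1 h2 => by
    by_contra h3; exact h1 (only y h3 h2)
  have hh : ∀ y, y ≠ x → g y ≠ y → h y = y := fun y h1 h2 => by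
    by_contra h3; exact h1 (only y h2 h3)
  have hgg : g (g x) ≠ g x := fun e => hgx (g.injective e)
  have hhh : h (h x) ≠ h x := fun e => hhx (h.injective e)
  have e1 : h (g x) = g x := hh _ hgx hgg
  have e2 : g (h x) = h x := hg _ hhx hhh
  -- value of the commutator at a point given by its preimages
  have ev : ∀ y z w, h z = y → g w = z → (g * h * g⁻¹ * h⁻¹) y = g (h w) := by
    intro y z w hz hw
    subst hz; subst hw
    simp [Perm.mul_apply, Perm.inv_def]
  obtain ⟨a, ha⟩ := g.surjective x
  obtain ⟨b, hb⟩ := h.surjective x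
  have hax : a ≠ x := fun e => hgx (by rw [e] at ha; exact ha)
  have hbx : b ≠ x := fun e => hhx (by rw [e] at hb; exact hb)
  have ha' : h a = a := hh a hax (by rw [ha]; exact hax.symm)
  have hb' : g b = b := hg b hbx (by rw [hb]; exact hbx.symm)
  have v1 : (g * h * g⁻¹ * h⁻¹) x = g x := by rw [ev x b b hb hb', hb]
  have v2 : (g * h * g⁻¹ * h⁻¹) (h x) = x := by rw [ev (h x) x a rfl ha, ha', ha]
  have v3 : (g * h * g⁻¹ * h⁻¹) (g x) = h x := by rw [ev (g x) (g x) x e1 rfl, e2]
  have hne : g x ≠ h x := fun e => hgg (by rw [e]; exact e2)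
  have v4 : ∀ y, y ≠ x → y ≠ g x → y ≠ h x → (g * h * g⁻¹ * h⁻¹) y = y := by
    intro y h1 h2 h3
    by_cases hy : h y = y
    · obtain ⟨w, hw⟩ := g.surjective y
      have hwx : w ≠ x := fun e => h2 (by rw [← hw, e])
      rw [ev y y w hy hw]
      by_cases hgy : g y = y
      · have hwy : w = y := g.injective (hw.trans hgy.symm)
        rw [hwy, hy, hgy]
      · have : g w ≠ w := fun e => hgy (by rw [hw] at e; exact e.symm ▸ hw)
        rw [hh w hwx this, hw]
    · obtain ⟨z, hz⟩ := h.surjective y
      have hzx : z ≠ x := fun e => h3 (by rw [← hz, e])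
      have hmv : h z ≠ z := fun e => hy (by rw [hz] at e; exact e.symm ▸ hz)
      rw [ev y z z hz (hg z hzx hmv), hz, hg y h1 hy]
  rw [← card_support_eq_three_iff]
  have hsup : (g * h * g⁻¹ * h⁻¹).support = {x, g x, h x} := by
    ext y
    simp only [Perm.mem_support, Finset.mem_insert, Finset.mem_singleton]
    constructor
    · intro hy
      by_contra hc
      push Not at hc
      exact hy (v4 y hc.1 hc.2.1 hc.2.2)
    · rintro (rfl | rfl | rfl)
      · rw [v1]; exact hgx
      · rw [v3]; exact hne.symm
      · rw [v2]; exact hhx.symm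
  rw [hsup, Finset.card_eq_three]
  exact ⟨x, g x, h x, hgx.symm, hhx.symm, hne, rfl⟩

/-- A subgroup which meets the symmetric group of a set trivially has large index. -/
theorem factorial_le_index (G : Subgroup (Perm α)) (Γ : Finset α)
    (hΓ : ∀ g ∈ G, g.support ⊆ Γ → g = 1) :
    Γ.card.factorial ≤ G.index := by
  classical
  let φ : Perm {x // x ∈ Γ} →* Perm α := Perm.ofSubtype
  have hsupp : ∀ σ, (φ σ).support ⊆ Γ := fun σ y hy => by
    by_contra hn
    exact (Perm.mem_support.1 hy) (ofSubtype_apply_of_not_mem σ hn)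
  let F : Perm {x // x ∈ Γ} → Perm α ⧸ G := fun σ => QuotientGroup.mk (φ σ)
  have hF : Function.Injective F := by
    intro σ τ h
    have hmem : φ (σ⁻¹ * τ) ∈ G := by
      rw [map_mul, map_inv]; exact QuotientGroup.eq.1 h
    have := hΓ _ hmem (hsupp _)
    rw [← map_one φ] at this
    exact inv_mul_eq_one.1 (Perm.ofSubtype_injective this)
  have := Nat.card_le_card_of_injective F hF
  rw [Nat.card_perm, Nat.card_eq_fintype_card, Fintype.card_coe] at this
  exact this

/-- Key step in Bochert's theorem. -/
theorem exists_large_trivial_meet (G : Subgroup (Perm α)) [IsPreprimitive G α]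
    (hA : ¬ alternatingGroup α ≤ G) :
    ∃ Γ : Finset α, Fintype.card α ≤ 2 * Γ.card ∧ ∀ g ∈ G, g.support ⊆ Γ → g = 1 := by
  classical
  let S : Finset (Finset α) := Finset.univ.filter (fun Γ => ∀ g ∈ G, g.support ⊆ Γ → g = 1)
  obtain ⟨Γ, hΓ, hmax⟩ := S.exists_max_image Finset.card ⟨∅, Finset.mem_filter.2 ⟨Finset.mem_univ _,
    fun g _ hs => Perm.support_eq_empty_iff.1 (Finset.subset_empty.1 hs)⟩⟩
  simp only [S, Finset.mem_filter, Finset.mem_univ, true_and] at hΓ hmax
  refine ⟨Γ, ?_, hΓ⟩
  by_contra hlt
  push Not at hlt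
  have : ¬ ∀ g ∈ G, g.support ⊆ Γᶜ → g = 1 := fun h => by
    have := hmax _ h
    rw [Finset.card_compl] at this
    omega
  push Not at this
  obtain ⟨g, hgG, hgs, hg1⟩ := this
  obtain ⟨x, hx⟩ : g.support.Nonempty := by
    rw [Finset.nonempty_iff_ne_empty]; exact fun h => hg1 (Perm.support_eq_empty_iff.1 h)
  have hxΓ : x ∉ Γ := Finset.mem_compl.1 (hgs hx)
  have : ¬ ∀ k ∈ G, k.support ⊆ insert x Γ → k = 1 := fun h => by
    have := hmax _ h
    rw [Finset.card_insert_of_notMem hxΓ] at this
    omega
  push Not at this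
  obtain ⟨k, hkG, hks, hk1⟩ := this
  have hxk : x ∈ k.support := by
    by_contra hxk
    exact hk1 (hΓ k hkG (fun y hy => (Finset.mem_insert.1 (hks hy)).resolve_left
      (fun e => hxk (e ▸ hy))))
  have hint : g.support ∩ k.support = {x} := by
    apply Finset.Subset.antisymm
    · intro y hy
      rw [Finset.mem_inter] at hy
      rw [Finset.mem_singleton]
      exact (Finset.mem_insert.1 (hks hy.2)).resolve_right (Finset.mem_compl.1 (hgs hy.1))
    · simp only [Finset.singleton_subset_iff, Finset.mem_inter]
      exact ⟨hx, hxk⟩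
  exact hA (alternatingGroup_le_of_isPreprimitive_of_isThreeCycle_mem inferInstance
    (isThreeCycle_commutator g k x hint)
    (G.mul_mem (G.mul_mem (G.mul_mem hgG hkG) (G.inv_mem hgG)) (G.inv_mem hkG)))

/-- Bochert's bound on the index of a primitive group not containing the alternating group. -/
theorem bochert_index (G : Subgroup (Perm α)) [IsPreprimitive G α]
    (hA : ¬ alternatingGroup α ≤ G) :
    ((Fintype.card α + 1) / 2).factorial ≤ G.index := by
  obtain ⟨Γ, h1, h2⟩ := exists_large_trivial_meet G hA
  exact le_trans (Nat.factorial_le (by omega)) (factorial_le_index G Γ h2)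

theorem index_stabilizer_inf {G X : Type*} [Group G] [MulAction G X] (K : Subgroup G) (x : X) :
    (stabilizer G x ⊓ K).index = (MulAction.orbit K x).ncard * K.index := by
  rw [← index_stabilizer, ← Subgroup.relIndex_mul_index (inf_le_right : stabilizer G x ⊓ K ≤ K),
    Subgroup.inf_relIndex_right, Subgroup.relIndex]
  congr 2

/-- The setwise stabilizer of a `k`-subset has index `n.choose k`. -/
theorem index_stabilizer_set (s : Set α) :
    (stabilizer (Perm α) s).index = (Fintype.card α).choose s.ncard := by
  classical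
  rw [index_stabilizer]
  have : MulAction.orbit (Perm α) s = {t : Set α | t.ncard = s.ncard} := by
    ext t
    constructor
    · rintro ⟨g, rfl⟩
      exact Set.ncard_image_of_injective s (MulAction.injective g)
    · intro ht
      obtain ⟨e⟩ : Nonempty (s ≃ t) := Finite.card_eq.1 (by
        rw [Nat.card_coe_set_eq, Nat.card_coe_set_eq]; exact ht.symm)
      refine ⟨e.extendSubtype, ?_⟩
      apply Set.eq_of_subset_of_ncard_le
      · rintro _ ⟨y, hy, rfl⟩
        exact e.extendSubtype_mem y hy
      · exact le_of_eq (ht.trans (Set.ncard_image_of_injective s (MulAction.injective _)).symm)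
      · exact Set.toFinite _
  rw [this, ← Finset.card_univ, ← Finset.card_powersetCard, ← Set.ncard_coe_finset]
  apply Set.ncard_congr (fun t _ => t.toFinset)
  · intro t ht
    simp only [Finset.mem_coe, Finset.mem_powersetCard, Finset.subset_univ, true_and]
    rw [← Set.ncard_eq_toFinset_card', ht]
  · intro a b _ _ h
    exact Set.toFinset_inj.1 h
  · intro b hb
    simp only [Finset.mem_coe, Finset.mem_powersetCard, Finset.subset_univ, true_and] at hb
    exact ⟨(b : Set α), by simp [hb], by simp⟩

/-- A subgroup of index at most `n = |α|` with all transitivity failing fixes a point, n ≥ 1. -/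
theorem eq_stabilizer_of_index_eq_card_of_not_transitive (H : Subgroup (Perm α))
    (hH : H.index = Fintype.card α) (hnt : ¬ IsPretransitive H α) :
    ∃ x : α, H = stabilizer (Perm α) x := by
  classical
  obtain ⟨x₀⟩ : Nonempty α := by
    rcases isEmpty_or_nonempty α with h | h
    · exact absurd ⟨fun x => (h.false x).elim⟩ hnt
    · exact h
  set s : Set α := MulAction.orbit H x₀ with hs
  have hle : H ≤ stabilizer (Perm α) s := fun g hg => by
    rw [mem_stabilizer_iff]
    exact MulAction.smul_orbit (⟨g, hg⟩ : H) x₀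
  have hsc : sᶜ.Nonempty := by
    by_contra hne
    rw [Set.not_nonempty_iff_eq_empty, Set.compl_empty_iff] at hne
    apply hnt
    rw [isPretransitive_iff_base (G := H) x₀]
    intro y
    have : y ∈ s := hne ▸ Set.mem_univ y
    exact this
  have hsn : s.Nonempty := ⟨x₀, mem_orbit_self x₀⟩
  -- index of the set stabilizer
  have hdiv := Subgroup.index_dvd_of_le hle
  rw [hH] at hdiv
  have hn2 : 2 ≤ Fintype.card α := by
    obtain ⟨y, hy⟩ := hsc
    exact Fintype.one_lt_card_iff.2 ⟨y, x₀, fun e => hy (e ▸ mem_orbit_self x₀)⟩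
  have hidx : (stabilizer (Perm α) s).index = (Fintype.card α).choose s.ncard := by
    exact index_stabilizer_set s
  rw [hidx] at hdiv
  have hk1 : 1 ≤ s.ncard := (Set.ncard_pos (Set.toFinite _)).2 hsn
  have hk2 : 1 ≤ sᶜ.ncard := (Set.ncard_pos (Set.toFinite _)).2 hsc
  have hadd : s.ncard + sᶜ.ncard = Fintype.card α := by
    rw [Set.ncard_add_ncard_compl, Nat.card_eq_fintype_card]
  have hkk : s.ncard = 1 ∨ sᶜ.ncard = 1 := by
    by_contra hc
    push Not at hc
    have := choose_gt (Fintype.card α) s.ncard (by omega) (by omega)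
    have := Nat.le_of_dvd (by omega) hdiv
    omega
  have key : ∀ (t : Set α), t.ncard = 1 → H ≤ stabilizer (Perm α) t → ∃ x : α, H = stabilizer (Perm α) x := by
    intro t ht htle
    obtain ⟨x, rfl⟩ := Set.ncard_eq_one.1 ht
    rw [stabilizer_singleton] at htle
    refine ⟨x, ?_⟩
    apply eq_of_le_of_index_eq
    · exact htle
    · rw [hH, index_stabilizer_of_transitive, Nat.card_eq_fintype_card]
  rcases hkk with h | h
  · exact key s h hle
  · exact key sᶜ h (by rw [stabilizer_compl]; exact hle)

/-- A transitive but imprimitive group of index `|α|` does not exist. -/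
theorem isPreprimitive_of_index_eq_card (H : Subgroup (Perm α)) [IsPretransitive H α]
    (hH : H.index = Fintype.card α) (hn : 5 ≤ Fintype.card α) : IsPreprimitive H α := by
  refine IsPreprimitive.mk ?_
  intro B hB
  by_contra hnt
  unfold IsTrivialBlock at hnt
  push Not at hnt
  obtain ⟨hBns, hBu⟩ := hnt
  obtain ⟨x, hx⟩ := hBns.nonempty
  have hdvd := hB.ncard_dvd_card ⟨x, hx⟩
  rw [Nat.card_eq_fintype_card] at hdvd
  have ha2 : 2 ≤ B.ncard := Set.one_lt_ncard_iff_nontrivial.2 hBns
  have haN : B.ncard < Fintype.card α := by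
    rw [← Nat.card_eq_fintype_card, ← Set.ncard_univ]
    exact Set.ncard_lt_ncard (Set.ssubset_univ_iff.2 hBu) (Set.toFinite _)
  obtain ⟨b, hb⟩ := hdvd
  have hb2 : 2 ≤ b := by
    rcases b with _ | _ | b <;> simp_all
  have hle : stabilizer (Perm α) x ⊓ H ≤ stabilizer (Perm α) x ⊓ stabilizer (Perm α) B := by
    rintro g ⟨h1, h2⟩
    refine ⟨h1, ?_⟩
    have h3 : (⟨g, h2⟩ : H) • x = x := h1
    show g • B = B
    have : ((⟨g, h2⟩ : H) • B) = B := by
      rcases (isBlock_iff_smul_eq_or_disjoint.1 hB) ⟨g, h2⟩ with h | h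
      · exact h
      · exact absurd hx (Set.disjoint_left.1 h ⟨x, hx, h3⟩)
    exact this
  have h := Subgroup.index_dvd_of_le hle
  rw [index_stabilizer_inf, index_stabilizer_inf, hH, orbit_eq_univ H, Set.ncard_univ,
    Nat.card_eq_fintype_card, index_stabilizer_set] at h
  have horb : MulAction.orbit (stabilizer (Perm α) B) x = B := by
    apply Set.Subset.antisymm
    · rintro _ ⟨g, rfl⟩
      have : (g : Perm α) • B = B := g.2
      exact this.subset ⟨x, hx, rfl⟩
    · intro y hy
      exact ⟨⟨Equiv.swap x y, Equiv.Perm.swap_mem_stabilizer hx hy⟩, Equiv.swap_apply_left x y⟩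
  rw [horb] at h
  set n := Fintype.card α with hn'
  set a := B.ncard with ha'
  obtain ⟨m, hm⟩ : ∃ m, n = m + 1 := ⟨n - 1, by omega⟩
  obtain ⟨a', ha''⟩ : ∃ a', a = a' + 1 := ⟨a - 1, by omega⟩
  have e := Nat.add_one_mul_choose_eq m a'
  rw [hm, ha'', mul_comm (a' + 1), ← e] at h
  have h' : m.choose a' ∣ m + 1 := (Nat.mul_dvd_mul_iff_left (Nat.succ_pos m)).1 h
  rcases Nat.lt_or_ge a' 2 with h1 | h1
  · have : a' = 1 := by omega
    subst this
    rw [Nat.choose_one_right] at h'
    have := Nat.le_of_dvd (by omega) ((Nat.dvd_add_right (dvd_refl m)).1 h')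
    omega
  · have h2 : a' + 2 ≤ m := by
      have : a * 2 ≤ a * b := Nat.mul_le_mul_left a hb2
      omega
    have h3 := choose_gt m a' h1 h2
    rcases Nat.lt_or_ge (m + 1) (m.choose a') with h4 | h4
    · have := Nat.le_of_dvd (by omega) h'
      omega
    · have h5 : m.choose a' = m + 1 := by omega
      -- `a' ≥ 2` and `m ≥ 2 a' + 1 ≥ 5`
      have : a * 2 ≤ a * b := Nat.mul_le_mul_left a hb2
      have h6 : m.choose 2 ≤ m.choose a' := choose_two_le m a' h1 h2
      rw [Nat.choose_two_right, h5] at h6
      have h7 : m * 4 ≤ m * (m - 1) := Nat.mul_le_mul_left m (by omega)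
      omega

/-- For `n ≠ 6` a subgroup of index `n` in `S_n` is intransitive or everything. -/
theorem not_transitive_of_index_eq_card (H : Subgroup (Perm α)) (hH : H.index = Fintype.card α)
    (h2 : 2 ≤ Fintype.card α) (h6 : Fintype.card α ≠ 6) : ¬ IsPretransitive H α := by
  intro htr
  obtain ⟨x⟩ : Nonempty α := Fintype.card_pos_iff.1 (by omega)
  have hdiv : Fintype.card α ∣ Nat.card H := by
    have := index_stabilizer_of_transitive H x
    rw [← Nat.card_eq_fintype_card (α := α), ← this]
    exact Subgroup.index_dvd_card _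
  have hc := H.card_mul_index
  rw [hH, Nat.card_perm, Nat.card_eq_fintype_card (α := α)] at hc
  obtain ⟨c, hcc⟩ := hdiv
  rw [hcc] at hc
  by_cases hsmall : Fintype.card α ≤ 5
  · obtain ⟨n, hn⟩ : ∃ n, Fintype.card α = n := ⟨_, rfl⟩
    rw [hn] at hc h2 hsmall
    interval_cases n <;> simp [Nat.factorial] at hc <;> omega
  · have := isPreprimitive_of_index_eq_card H hH (by omega)
    have : Nontrivial α := Fintype.one_lt_card_iff_nontrivial.1 (by omega)
    by_cases hA : alternatingGroup α ≤ H
    · have h' := Subgroup.index_dvd_of_le hA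
      rw [hH, alternatingGroup.index_eq_two] at h'
      have := Nat.le_of_dvd two_pos h'
      omega
    · have h' := bochert_index H hA
      rw [hH] at h'
      have h8 : ∀ j, 4 ≤ j → 2 * j < j.factorial := by
        intro j hj
        induction j, hj using Nat.le_induction with
        | base => decide
        | succ j hj ih => rw [Nat.factorial_succ]; nlinarith
      have := h8 ((Fintype.card α + 1) / 2) (by omega)
      omega

end H46
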