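import Cfsg.Agent.H46.ClsKron

/-!
An adjoint-closed subalgebra normalised by an irreducible group of similitudes gives a geometric
structure unless it is trivial.
-/

set_option autoImplicit false
set_option linter.style.haveILetI false
set_option linter.unusedSectionVars false
set_option maxHeartbeats 1000000

open Cfsg.Geo
open scoped Matrix Kronecker MatrixGroups

namespace H46

variable {ι : Type} [Fintype ι] [DecidableEq ι] {F : Type*} [Field F] [Fintype F]
variable {σ : F ≃+* F} {M : Matrix ι ι F}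

/-- An adjoint-closed normalised algebra with scalar centre. -/
theorem ClsGeometric.of_scalar_centre [Nonempty ι] (hM : CF σ M)
    {G : Subgroup (GL ι F)}
    (hGM : G ≤ similarityGroup (frm σ M)) (hirr : ActsIrreducibly (matrixSet G))
    {A : Subalgebra F (Matrix ι ι F)} (hA : ∀ g ∈ G, ∀ X ∈ A, glConj g X ∈ A)
    (hadj : ∀ X ∈ A, adj σ M X ∈ A) (hbot : A ≠ ⊥) (htop : A ≠ ⊤)
    (hc : ∀ z ∈ A, (∀ x ∈ A, z * x = x * z) → ∃ c : F, z = c • (1 : Matrix ι ι F)) :
    ClsGeometric σ M G := by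
  haveI := isSemisimpleRing_of_normalized hirr A hA
  obtain ⟨a, m, e, P, ha, hm, hmem⟩ := exists_coords_of_central A hc
  have ha2 : 2 ≤ a := by
    by_contra hlt
    obtain rfl : a = 1 := by omega
    apply hbot
    rw [eq_bot_iff]
    intro X hX
    obtain ⟨Y, rfl⟩ := (hmem X).1 hX
    have : Y = algebraMap F _ (Y 0 0) := by
      ext i j
      fin_cases i; fin_cases j
      simp [Matrix.algebraMap_matrix_apply]
    rw [this, AlgHom.commutes, AlgEquiv.commutes]
    exact Subalgebra.algebraMap_mem _ _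
  have hm2 : 2 ≤ m := by
    by_contra hlt
    obtain rfl : m = 1 := by omega
    apply htop
    rw [eq_top_iff]
    intro X _
    refine (hmem X).2 ⟨Matrix.of fun i j => (matCoords e P).symm X (i, 0) (j, 0), ?_⟩
    rw [← AlgEquiv.symm_apply_eq]
    ext ⟨i, u⟩ ⟨j, v⟩
    obtain rfl : u = 0 := Subsingleton.elim _ _
    obtain rfl : v = 0 := Subsingleton.elim _ _
    simp [kronOne_apply]
  have hG : ∀ g ∈ G, ∃ (x : GL (Fin a) F) (y : GL (Fin m) F), g = glCoords e P (glKron x y) :=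
    fun g hg => exists_glKron_of_normalizes ha hm e P g fun Y => by
      obtain ⟨Y', hY'⟩ := (hmem _).1 (hA g hg _ ((hmem _).2 ⟨Y, rfl⟩))
      exact ⟨Y', hY'⟩
  have hcf := hM.coordGram e P
  obtain ⟨U, hU⟩ := hcf.unit
  haveI : Nonempty (Fin a × Fin m) := ⟨⟨⟨0, ha⟩, ⟨0, hm⟩⟩⟩
  obtain ⟨x, y, hxy⟩ := exists_glKron_of_normalizes ha hm (Equiv.refl (Fin a × Fin m))
    (1 : GL (Fin a × Fin m) F) U⁻¹ fun Y => by
      -- the inverse Gram matrix maps the algebra into itself
      have hid : ∀ Z : Matrix (Fin a × Fin m) (Fin a × Fin m) F,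
          matCoords (Equiv.refl (Fin a × Fin m)) (1 : GL (Fin a × Fin m) F) Z = Z := fun Z => by
        simp [matCoords, glConj_one]
      obtain ⟨Z, hZ⟩ := (hmem _).1 (hadj _ ((hmem _).2 ⟨Yᵀ, rfl⟩))
      refine ⟨Z.map σ, ?_⟩
      rw [hid, hid, glConj_apply, inv_inv]
      have h1 := hM.adj_coords e P (kronOne (Fin a) (Fin m) F Yᵀ)
      rw [hZ, AlgEquiv.symm_apply_apply, adj] at h1
      have h2 := congrArg (fun W : Matrix (Fin a × Fin m) (Fin a × Fin m) F => W.map σ) h1
      rw [← hU] at h2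
      have hk : (kronOne (Fin a) (Fin m) F Yᵀ)ᵀ = kronOne (Fin a) (Fin m) F Y := by
        ext ⟨i, u⟩ ⟨j, v⟩
        simp [kronOne_apply, Matrix.one_apply, eq_comm]
      have hk2 : (kronOne (Fin a) (Fin m) F Z).map σ = kronOne (Fin a) (Fin m) F (Z.map σ) := by
        ext ⟨i, u⟩ ⟨j, v⟩
        simp [kronOne_apply, Matrix.one_apply, apply_ite σ]
      simp only [hk, hk2] at h2
      rw [← h2, Matrix.coe_units_inv]
      ext i j
      simp only [Matrix.map_apply, hM.inv]
  refine .of_kron hM hGM hirr ha2 hm2 e P hG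
    (A := ((x⁻¹ : GL (Fin a) F) : Matrix (Fin a) (Fin a) F))
    (B := ((y⁻¹ : GL (Fin m) F) : Matrix (Fin m) (Fin m) F)) ?_
  have hU' : U = glKron x⁻¹ y⁻¹ := by
    have h1 : U⁻¹ = glKron x y := by
      rw [hxy]
      apply Units.ext
      rw [glCoords_val]
      simp [matCoords, glConj_one]
    rw [← inv_inv U, h1, inv_eq_iff_mul_eq_one]
    apply Units.ext
    rw [Units.val_mul, glKron_val, glKron_val, ← Matrix.mul_kronecker_mul]
    simp
  rw [← hU, hU', glKron_val]

/-- An adjoint-closed normalised algebra other than the scalars and everything. -/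
theorem ClsGeometric.of_normalized_algebra [Nonempty ι] (hM : CF σ M)
    {G : Subgroup (GL ι F)}
    (hGM : G ≤ similarityGroup (frm σ M)) (hirr : ActsIrreducibly (matrixSet G))
    {A : Subalgebra F (Matrix ι ι F)} (hA : ∀ g ∈ G, ∀ X ∈ A, glConj g X ∈ A)
    (hadj : ∀ X ∈ A, adj σ M X ∈ A) (hbot : A ≠ ⊥) (htop : A ≠ ⊤) : ClsGeometric σ M G := by
  set Z : Subalgebra F (Matrix ι ι F) := A ⊓ Subalgebra.centralizer F (A : Set (Matrix ι ι F))
    with hZ
  have hmemZ : ∀ z, z ∈ Z ↔ z ∈ A ∧ ∀ x ∈ A, x * z = z * x := fun z => by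
    simp [hZ, Subalgebra.mem_centralizer_iff]
  rcases eq_or_ne Z ⊥ with hZb | hZb
  · refine .of_scalar_centre hM hGM hirr hA hadj hbot htop fun z hz hzc => ?_
    have hzZ : z ∈ Z := (hmemZ z).2 ⟨hz, fun x hx => (hzc x hx).symm⟩
    rw [hZb, Algebra.mem_bot] at hzZ
    obtain ⟨c, rfl⟩ := hzZ
    exact ⟨c, Algebra.algebraMap_eq_smul_one c⟩
  refine .of_comm hM hGM hirr Z (fun x hx y hy => ((hmemZ y).1 hy).2 x ((hmemZ x).1 hx).1) hZb ?_ ?_
  · intro g hg X hX
    obtain ⟨hXA, hXc⟩ := (hmemZ X).1 hX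
    refine (hmemZ _).2 ⟨hA g hg X hXA, fun x hx => ?_⟩
    have := congrArg (glConj g) (hXc _ (hA g⁻¹ (inv_mem hg) x hx))
    rwa [map_mul, map_mul, ← glConj_mul, mul_inv_cancel, glConj_one] at this
  · intro X hX
    obtain ⟨hXA, hXc⟩ := (hmemZ X).1 hX
    refine (hmemZ _).2 ⟨hadj X hXA, fun x hx => ?_⟩
    have h1 := congrArg (adj σ M) (hXc _ (hadj x hx))
    rw [hM.adj_mul, hM.adj_mul, hM.adj_adj] at h1
    exact h1.symm

end H46
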