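import Cfsg.Agent.H46.ClsAbelian
import Cfsg.Agent.H46.ClsAlgebra
import Cfsg.Agent.H46.AschLinear

/-!
The structure theorem for groups of similitudes of a symplectic or Hermitian form.
-/

set_option autoImplicit false
set_option linter.style.haveILetI false
set_option linter.unusedSectionVars false
set_option maxHeartbeats 1000000

open Cfsg.Geo
open scoped Matrix Kronecker MatrixGroups commutatorElement

namespace H46

variable {ι : Type} [Fintype ι] [DecidableEq ι] {F : Type*} [Field F] [Fintype F]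

/-- Core data for a group of similitudes. -/
structure ClsCore (σ : F ≃+* F) (G P : Subgroup (GL ι F)) : Prop where
  le : P ≤ ⁅G, G⁆
  normal : ∀ g ∈ G, ∀ x ∈ P, g * x * g⁻¹ ∈ P
  perfect : ⁅P, P⁆ = P
  simple : IsSimpleGroup (P ⧸ (scalars ι F).subgroupOf P)
  nonabelian : ¬ IsMulCommutative (P ⧸ (scalars ι F).subgroupOf P)
  centralizer_scalar : ∀ g ∈ G, (∀ x ∈ P, g * x * g⁻¹ * x⁻¹ ∈ scalars ι F) → g ∈ scalars ι F
  absIrred : ActsAbsolutelyIrreducibly (matrixSet P)
  no_subfield : ∀ F₀ : Subfield F, F₀ ≠ ⊤ → ¬ RealisableOver F₀ (matrixSet P)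
  no_quad : ¬ ∃ Q : (ι → F) → F, IsNondegenerateQuadraticForm Q ∧ FixesQuadForm (matrixSet P) Q
  no_symp : σ ≠ RingEquiv.refl F →
    ¬ ∃ f : (ι → F) → (ι → F) → F, IsSymplecticForm f ∧ FixesForm (matrixSet P) f
  no_unit : σ = RingEquiv.refl F → ¬ ∃ (τ : F ≃+* F) (f : (ι → F) → (ι → F) → F),
    IsUnitaryForm τ f ∧ FixesForm (matrixSet P) f

/-- Scalars are similitudes. -/
theorem scalars_le_similarity {σ : F ≃+* F} (M : Matrix ι ι F) :
    scalars ι F ≤ similarityGroup (frm σ M) := by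
  intro g hg
  obtain ⟨u, rfl⟩ := exists_scl hg
  refine ⟨Units.mk0 ((u : F) * σ (u : F)) (mul_ne_zero u.ne_zero ((map_ne_zero σ).2 u.ne_zero)), fun a b => ?_⟩
  rw [scl_val, Matrix.smul_mulVec, Matrix.smul_mulVec, Matrix.one_mulVec, Matrix.one_mulVec,
    frm_smul_left, frm_smul_right, Units.val_mk0, mul_assoc]

/-- The simple case. -/
theorem clsGeometric_or_core_simple {σ : F ≃+* F} {Mf : Matrix ι ι F} (hMf : CF σ Mf)
    (hn : 3 ≤ Fintype.card ι) {G N : Subgroup (GL ι F)}
    (hNG : N ≤ G) (hnorm : ∀ g ∈ G, ∀ x ∈ N, g * x * g⁻¹ ∈ N)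
    (hZN : scalars ι F ≤ N) (hPN : ⁅N, N⁆ ⊔ scalars ι F = N)
    (hPs : ¬ ⁅N, N⁆ ≤ scalars ι F)
    (hspanP : Algebra.adjoin F (matrixSet ⁅N, N⁆) = ⊤)
    (hsimple : ∀ M : Subgroup (GL ι F), scalars ι F ≤ M → M ≤ N →
      (∀ x ∈ N, ∀ y ∈ M, x * y * x⁻¹ ∈ M) → M = scalars ι F ∨ M = N) :
    (hGM : G ≤ similarityGroup (frm σ Mf)) →
    ClsGeometric σ Mf G ∨ ∃ P, ClsCore σ G P := by
  intro hGM
  classical
  haveI : Nonempty ι := Fintype.card_pos_iff.1 (by omega)
  set P := ⁅N, N⁆ with hP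
  have hperf : ⁅P, P⁆ = P := by rw [← commutator_sup_scalars P, hPN]
  have hPle : P ≤ N := le_sup_left.trans hPN.le
  have hPn : ∀ g ∈ G, ∀ x ∈ P, g * x * g⁻¹ ∈ P := fun g hg => conj_mem_commutator (hnorm g hg)
  have hset := glConj_matrixSet hPn
  have hPG : P ≤ ⁅G, G⁆ := Subgroup.commutator_mono hNG hNG
  have hiso : InvGram σ Mf (matrixSet P) := by
    rintro _ ⟨x, hx, rfl⟩
    have h1 := isometry_of_mem_commutator hMf.nondeg hGM (hPG hx)
    have h2 := gram_of_similar (σ := σ) (M := Mf) (g := x) (c := 1) fun u v => by rw [one_mul]; exact h1 u v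
    rwa [one_smul] at h2
  -- fixed forms
  by_cases hS : σ ≠ RingEquiv.refl F ∧
      ∃ f : (ι → F) → (ι → F) → F, IsSymplecticForm f ∧ FixesForm (matrixSet P) f
  · obtain ⟨hσ, f, hf, hfix⟩ := hS
    left
    have hfg : f = formOfGram (RingEquiv.refl F : F → F) (gramMatrix f) :=
      eq_formOfGram (RingEquiv.refl F) f hf.bilinear.add_left hf.bilinear.smul_left
        hf.bilinear.add_right (fun c v x => hf.bilinear.smul_right c v x)
    rw [hfg] at hfix
    have hu := isUnit_gram_of_nondegenerate (RingEquiv.refl F) _ (hfg ▸ hf.nondegenerate)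
    exact .of_two_grams hMf hspanP hPn hiso (Ne.symm hσ) (fun _ => rfl) (Or.inr rfl) hu
      (invGram_of_fixesForm _ hfix)
  by_cases hU : σ = RingEquiv.refl F ∧ ∃ (τ : F ≃+* F) (f : (ι → F) → (ι → F) → F),
      IsUnitaryForm τ f ∧ FixesForm (matrixSet P) f
  · obtain ⟨hσ, τ, f, hf, hfix⟩ := hU
    left
    have hfg : f = formOfGram (τ : F → F) (gramMatrix f) := by
      refine eq_formOfGram τ f hf.add_left hf.smul_left (fun v x y => ?_) (fun c v x => ?_)
      · rw [hf.herm v, hf.add_left, map_add, ← hf.herm, ← hf.herm]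
      · rw [hf.herm v, hf.smul_left, map_mul, ← hf.herm]
    rw [hfg] at hfix
    have hu := isUnit_gram_of_nondegenerate τ _ (hfg ▸ hf.nondegenerate)
    exact .of_two_grams hMf hspanP hPn hiso (hσ ▸ hf.ne_refl) hf.involutive (Or.inl hσ) hu
      (invGram_of_fixesForm _ hfix)
  by_cases hQ : ∃ Q : (ι → F) → F, IsNondegenerateQuadraticForm Q ∧ FixesQuadForm (matrixSet P) Q
  · obtain ⟨Q, hQ, hfix⟩ := hQ
    left
    have hfixp : FixesForm (matrixSet P) (QuadraticMap.polar Q) := fun s hs u v => by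
      simp only [QuadraticMap.polar, ← Matrix.mulVec_add, hfix s hs]
    have hfg : QuadraticMap.polar Q =
        formOfGram (RingEquiv.refl F : F → F) (gramMatrix (QuadraticMap.polar Q)) :=
      eq_formOfGram (RingEquiv.refl F) _ hQ.polar_bilinear.add_left hQ.polar_bilinear.smul_left
        hQ.polar_bilinear.add_right (fun c v x => hQ.polar_bilinear.smul_right c v x)
    rw [hfg] at hfixp
    have hu := isUnit_gram_of_nondegenerate (RingEquiv.refl F) _ (hfg ▸ hQ.nondegenerate)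
    by_cases hσ : σ = RingEquiv.refl F
    swap
    · exact .of_two_grams hMf hspanP hPn hiso (Ne.symm hσ) (fun _ => rfl) (Or.inr rfl) hu
        (invGram_of_fixesForm _ hfixp)
    subst hσ
    obtain ⟨c, hc⟩ := invGram_unique hspanP hMf.unit hiso (invGram_of_fixesForm _ hfixp)
    have hc0 : c ≠ 0 := fun h => hu.ne_zero (by rw [hc, h, zero_smul])
    have hpol : ∀ u v, QuadraticMap.polar Q u v = c * frm (RingEquiv.refl F) Mf u v := fun u v => by
      rw [congrFun (congrFun hfg u) v, hc, formOfGram_smul_gram]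
    have h2 : (2 : F) = 0 := by
      by_contra h2
      obtain ⟨v, hv⟩ : ∃ v : ι → F, v ≠ 0 := exists_ne 0
      obtain ⟨w, hw⟩ := (hMf.nondeg v hv).2
      have h1 := hpol v w
      rw [QuadraticMap.polar_comm, hpol, (hMf.symplectic rfl).skew w v] at h1
      exact h2 ((mul_eq_zero.1 (show (2 : F) * (c * frm (RingEquiv.refl F) Mf v w) = 0 by
        linear_combination -h1)).resolve_right (mul_ne_zero hc0 hw))
    have heven : ¬ Odd (Fintype.card F) := fun h => two_ne_zero_iff_odd.2 h h2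
    have hpol' : ∀ u v, QuadraticMap.polar (fun v => c⁻¹ * Q v) u v = frm (RingEquiv.refl F) Mf u v := by
      intro u v
      show c⁻¹ * Q (u + v) - c⁻¹ * Q u - c⁻¹ * Q v = _
      rw [← mul_sub, ← mul_sub, show Q (u + v) - Q u - Q v = _ from hpol u v, ← mul_assoc,
        inv_mul_cancel₀ hc0, one_mul]
    have hQ' : IsNondegenerateQuadraticForm (fun v => c⁻¹ * Q v) := by
      have hfun : QuadraticMap.polar (fun v => c⁻¹ * Q v) = frm (RingEquiv.refl F) Mf :=
        funext fun u => funext (hpol' u)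
      refine ⟨fun a v => by rw [hQ.smul]; ring, ?_, ?_⟩
      · rw [hfun]; exact (hMf.symplectic rfl).bilinear
      · rw [hfun]; exact hMf.nondeg
    refine .quad _ rfl heven hQ' hpol' fun g hg => ?_
    obtain ⟨d, hd⟩ := hGM hg
    exact mem_quadSimilarity_of_normalizes (by omega) heven hQ' hspanP
      (fun s hs v => congrArg (fun z => c⁻¹ * z) (hfix s hs v)) (hPn g hg) (c := d) (fun u v => by
        rw [hpol', hpol']; exact hd u v)
  by_cases hR : ∃ F₀ : Subfield F, F₀ ≠ ⊤ ∧ RealisableOver F₀ (matrixSet P)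
  · obtain ⟨F₀, hF₀, B, hB⟩ := hR
    left
    refine .of_rational hMf hspanP hPn F₀ hF₀ ?_ fun x hx =>
      ⟨1, F₀.one_mem, fun u v => by rw [one_mul]; exact isometry_of_mem_commutator hMf.nondeg hGM (hPG hx) u v⟩
    let L : Matrix ι ι F₀ →ₗ[F₀] Matrix ι ι F :=
      { toFun := fun Y => glConj B⁻¹ (Y.map Subtype.val)
        map_add' := fun Y Y' => by rw [← map_add]; rfl
        map_smul' := fun c Y => by
          rw [show (c • Y).map Subtype.val = (c : F) • Y.map Subtype.val from rfl, map_smul]; rfl }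
    refine ((Submodule.finrank_mono (Submodule.span_le.2 ?_)).trans L.finrank_range_le).trans ?_
    · intro s hs
      refine ⟨fun i j => ⟨glConj B s i j, hB s hs i j⟩, ?_⟩
      show glConj B⁻¹ (glConj B s) = s
      rw [← glConj_mul, inv_mul_cancel, glConj_one]
    · rw [Module.finrank_matrix]; simp
  right
  refine ⟨P, Subgroup.commutator_mono hNG hNG, hPn, hperf, ?_, ?_, ?_,
    actsAbsolutelyIrreducibly_of_adjoin hspanP, fun F₀ h h' => hR ⟨F₀, h, h'⟩, hQ, fun h => ?_, fun h => ?_⟩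
  · refine isSimpleGroup_quotient_of_max P (scalars ι F) hPs fun K hKP hK => ?_
    have hMn : ∀ x ∈ N, ∀ y ∈ K ⊔ scalars ι F, x * y * x⁻¹ ∈ K ⊔ scalars ι F := by
      intro x hx y hy
      rw [← hPN] at hx
      obtain ⟨p, hp, z, hz, rfl⟩ := Subgroup.mem_sup_of_normal_right.1 hx
      have hpy := conj_mem_sup_scalars (hK p hp) y hy
      rwa [mul_inv_rev, show p * z * y * (z⁻¹ * p⁻¹) = p * y * p⁻¹ by
        rw [mul_assoc p z, scalars_mul_comm hz y]; group]
    rcases hsimple _ le_sup_right (sup_le (hKP.trans hPle) hZN) hMn with h | h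
    · exact Or.inl (le_sup_left.trans h.le)
    · right
      rw [hP, ← h, commutator_sup_scalars]
      exact Subgroup.commutator_le_self K
  · intro hc
    apply hPs
    rw [← hperf, Subgroup.commutator_le]
    intro x hx y hy
    have h1 : (QuotientGroup.mk' ((scalars ι F).subgroupOf P)) ⁅(⟨x, hx⟩ : P), ⟨y, hy⟩⁆ = 1 := by
      rw [map_commutatorElement, commutatorElement_eq_one_iff_mul_comm]
      exact hc.is_comm.comm _ _
    exact Subgroup.mem_subgroupOf.1 ((QuotientGroup.eq_one_iff _).1 h1)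
  · exact fun g _ hg => mem_scalars_of_commute hspanP (commute_of_perfect hperf hg)
  · exact fun hf => hS ⟨h, hf⟩
  · exact fun hu => hU ⟨h, hu⟩

/-- The structure theorem for groups containing the scalars. -/
theorem clsGeometric_or_core {σ : F ≃+* F} {Mf : Matrix ι ι F} (hMf : CF σ Mf) (hn : 3 ≤ Fintype.card ι)
    {G : Subgroup (GL ι F)}
    (hGM : G ≤ similarityGroup (frm σ Mf)) (hZG : scalars ι F ≤ G) :
    ClsGeometric σ Mf G ∨ ∃ P, ClsCore σ G P := by
  classical
  haveI : Nonempty ι := Fintype.card_pos_iff.1 (by omega)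
  haveI : Nontrivial ι := Fintype.one_lt_card_iff_nontrivial.1 (by omega)
  by_cases hirr : ActsIrreducibly (matrixSet G)
  swap
  · obtain ⟨W, hb, ht, h⟩ := exists_invariant_of_not_irreducible hirr
    exact Or.inl (.of_invariant hMf hGM hb ht h)
  by_cases hGZ : G ≤ scalars ι F
  · exfalso
    obtain ⟨i, j, hij⟩ := exists_pair_ne ι
    have := hirr (Submodule.span F {Pi.single i 1}) (by
      rintro _ ⟨g, hg, rfl⟩
      obtain ⟨c, rfl⟩ := exists_scl (hGZ hg)
      rintro _ ⟨v, hv, rfl⟩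
      show Matrix.toLin' ((scl ι c : GL ι F) : Matrix ι ι F) v ∈ _
      rw [Matrix.toLin'_apply, scl_val, Matrix.smul_mulVec, Matrix.one_mulVec]
      exact Submodule.smul_mem _ _ hv)
    rcases this with h | h
    · rw [Submodule.span_singleton_eq_bot] at h
      exact one_ne_zero (Pi.single_eq_zero_iff.1 h)
    · have hmem : (Pi.single j 1 : ι → F) ∈ Submodule.span F {Pi.single i (1 : F)} := h ▸ Submodule.mem_top
      obtain ⟨c, hc⟩ := Submodule.mem_span_singleton.1 hmem
      have := congrFun hc j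
      simp [Pi.single_eq_of_ne (Ne.symm hij)] at this
  by_cases hspan : ∀ N : Subgroup (GL ι F), N ≤ G → (∀ g ∈ G, ∀ x ∈ N, g * x * g⁻¹ ∈ N) →
      ¬ N ≤ scalars ι F → Algebra.adjoin F (matrixSet N) = ⊤
  swap
  · simp only [not_forall] at hspan
    obtain ⟨N, hNG, hnorm, hns, htop⟩ := hspan
    exact Or.inl (.of_normalized_algebra hMf hGM hirr
      (adjoin_normalized (glConj_matrixSet hnorm))
      (fun X hX => hMf.adj_mem_adjoin (hNG.trans hGM) hX) (adjoin_ne_bot_of_not_scalar hns) htop)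
  -- a minimal normal subgroup over the scalars
  haveI : Finite (Subgroup (GL ι F)) := inferInstance
  have hGne : G ∈ {N : Subgroup (GL ι F) | scalars ι F ≤ N ∧ N ≤ G ∧
      (∀ g ∈ G, ∀ x ∈ N, g * x * g⁻¹ ∈ N) ∧ N ≠ scalars ι F} :=
    ⟨hZG, le_rfl, fun g hg x hx => mul_mem (mul_mem hg hx) (inv_mem hg), fun h => hGZ h.le⟩
  obtain ⟨N, hN⟩ := (Set.toFinite {N : Subgroup (GL ι F) | scalars ι F ≤ N ∧ N ≤ G ∧
      (∀ g ∈ G, ∀ x ∈ N, g * x * g⁻¹ ∈ N) ∧ N ≠ scalars ι F}).exists_minimal ⟨G, hGne⟩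
  obtain ⟨⟨hZN, hNG, hnorm, hNne⟩, hNmin⟩ := hN
  have hns : ¬ N ≤ scalars ι F := fun h => hNne (le_antisymm h hZN)
  have hmin : ∀ M : Subgroup (GL ι F), scalars ι F ≤ M → M ≤ N →
      (∀ g ∈ G, ∀ x ∈ M, g * x * g⁻¹ ∈ M) → M = scalars ι F ∨ M = N := by
    intro M hZM hMN hM
    by_cases h : M = scalars ι F
    · exact Or.inl h
    · exact Or.inr (le_antisymm hMN (hNmin ⟨hZM, hMN.trans hNG, hM, h⟩ hMN))
  by_cases hab : ⁅N, N⁆ ≤ scalars ι F
  · exact Or.inl (.of_abelian hMf hn hGM hspan hNG hZN hnorm hns hmin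
      fun x hx y hy => hab (Subgroup.commutator_mem_commutator hx hy))
  have hPN : ⁅N, N⁆ ⊔ scalars ι F = N := by
    refine (hmin _ le_sup_right (sup_le (Subgroup.commutator_le_self N) hZN) ?_).resolve_left
      fun h => hab (le_sup_left.trans h.le)
    exact fun g hg => conj_mem_sup_scalars (conj_mem_commutator (hnorm g hg))
  by_cases hsimple : ∀ M : Subgroup (GL ι F), scalars ι F ≤ M → M ≤ N →
      (∀ x ∈ N, ∀ y ∈ M, x * y * x⁻¹ ∈ M) → M = scalars ι F ∨ M = N
  · exact clsGeometric_or_core_simple hMf hn hNG hnorm hZN hPN hab (hspan _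
      ((Subgroup.commutator_le_self N).trans hNG) (fun g hg => conj_mem_commutator (hnorm g hg)) hab) hsimple hGM
  · simp only [not_forall, not_or] at hsimple
    obtain ⟨M, h1, h2, h3, h4, h5⟩ := hsimple
    obtain ⟨k, a, φ, hk, ha, hc, hgen, hadj, hperm, htrans, hfix⟩ :=
      tensor_data_of_not_simple hMf hnorm hNG hZN hmin hab (hspan N hNG hnorm hns)
        ⟨M, h1, h2, h3, h4, h5⟩ hGM
    exact Or.inl (.of_tensor hMf (R := ⁅N, N⁆) (by rw [← commutator_sup_scalars, hPN]) hGM
      (hspan _ ((Subgroup.commutator_le_self N).trans hNG) (fun g hg => conj_mem_commutator (hnorm g hg)) hab)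
      (fun g hg => conj_mem_commutator (hnorm g hg)) (Subgroup.commutator_mono hNG hNG) hk ha φ hc hgen
      hadj hperm htrans fun x hx => hfix x (Subgroup.commutator_le_self N hx))


/-- Every group of similitudes is geometric or in the residual class of its form. -/
theorem clsGeometric_or_residual_all {σ : F ≃+* F} {Mf : Matrix ι ι F} (hMf : CF σ Mf)
    (hn : 3 ≤ Fintype.card ι) (H : Subgroup (GL ι F))
    (hH : H ≤ similarityGroup (frm σ Mf)) :
    ClsGeometric σ Mf H ∨ (σ = RingEquiv.refl F ∧ InSymplecticResidualClass H) ∨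
      (σ ≠ RingEquiv.refl F ∧ InUnitaryResidualClass H) := by
  rcases clsGeometric_or_core hMf hn (G := H ⊔ scalars ι F)
      (sup_le hH (scalars_le_similarity Mf)) le_sup_right with h | ⟨P, hP⟩
  · exact Or.inl (h.mono le_sup_left)
  have hle : P ≤ H := hP.le.trans (by rw [commutator_sup_scalars]; exact Subgroup.commutator_le_self H)
  have hcore : IsResidualCore H P := ⟨hle, fun h hh => hP.normal h (Subgroup.mem_sup_left hh), hP.perfect,
    hP.simple, hP.nonabelian, fun h hh => hP.centralizer_scalar h (Subgroup.mem_sup_left hh), hP.absIrred,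
    hP.no_subfield⟩
  right
  by_cases hσ : σ = RingEquiv.refl F
  · exact Or.inl ⟨hσ, P, hcore, hP.no_quad, hP.no_unit hσ⟩
  · exact Or.inr ⟨hσ, P, hcore, hP.no_quad, hP.no_symp hσ⟩

/-- The structure theorem with the dimension bound that some lists state. -/
theorem clsGeometric_or_residual {σ : F ≃+* F} {Mf : Matrix ι ι F} (hMf : CF σ Mf)
    (hn : 3 ≤ Fintype.card ι) (_hn12 : σ = RingEquiv.refl F → Fintype.card ι ≤ 12)
    (H : Subgroup (GL ι F)) (hH : H ≤ similarityGroup (frm σ Mf)) :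
    ClsGeometric σ Mf H ∨ (σ = RingEquiv.refl F ∧ InSymplecticResidualClass H) ∨
      (σ ≠ RingEquiv.refl F ∧ InUnitaryResidualClass H) :=
  clsGeometric_or_residual_all hMf hn H hH

end H46
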