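import Cfsg.Agent.H46.ClsOutcome
import Cfsg.Agent.H38.WittHerm

/-!
Finite fields with an involution, and fields of operators self-adjoint for an alternating form.
-/

set_option autoImplicit false
set_option linter.style.haveILetI false
set_option linter.unusedSectionVars false
set_option maxHeartbeats 800000

open Cfsg.Geo
open scoped Matrix MatrixGroups

namespace H46

/-- Membership in a subfield of a finite field. -/
theorem subfield_mem_iff_pow {E : Type*} [Field E] [Fintype E] (F₁ : Subfield E) {Q : ℕ}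
    (hQ : Nat.card F₁ = Q) (x : E) : x ∈ F₁ ↔ x ^ Q = x := by
  classical
  haveI : Fintype F₁ := Fintype.ofFinite F₁
  rw [Nat.card_eq_fintype_card] at hQ
  subst hQ
  have h1 : 1 < Fintype.card F₁ := Fintype.one_lt_card
  have hne := FiniteField.X_pow_card_sub_X_ne_zero E h1
  set S : Finset E := (Polynomial.X ^ Fintype.card F₁ - Polynomial.X : Polynomial E).roots.toFinset
    with hS
  have hmem : ∀ y : E, y ∈ S ↔ y ^ Fintype.card F₁ = y := fun y => by
    simp [hS, hne, sub_eq_zero]
  have hsub : Finset.univ.image (Subtype.val : F₁ → E) ⊆ S := by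
    intro y hy
    obtain ⟨z, -, rfl⟩ := Finset.mem_image.1 hy
    rw [hmem, ← SubmonoidClass.coe_pow, FiniteField.pow_card]
  have heq : Finset.univ.image (Subtype.val : F₁ → E) = S := by
    refine Finset.eq_of_subset_of_card_le hsub ?_
    rw [Finset.card_image_of_injective _ Subtype.val_injective, Finset.card_univ]
    refine (Multiset.toFinset_card_le _).trans ?_
    exact (Polynomial.card_roots' _).trans (FiniteField.X_pow_card_sub_X_natDegree_eq E h1).le
  rw [← hmem, ← heq]
  simp

/-- The fixed field of an involution has square-root order. -/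
theorem card_fixed_sq {E : Type*} [Field E] [Fintype E] (τ : E →+* E) (hτ : τ ≠ RingHom.id E)
    (hτ2 : ∀ a, τ (τ a) = a) :
    Nat.card (τ.eqLocusField (RingHom.id E)) ^ 2 = Fintype.card E := by
  set Z₀ := τ.eqLocusField (RingHom.id E)
  have hmem : ∀ a, a ∈ Z₀ ↔ τ a = a := fun a => Iff.rfl
  let tr : E →+ Z₀ :=
    { toFun := fun a => ⟨a + τ a, by rw [hmem, map_add, hτ2, add_comm]⟩
      map_zero' := Subtype.ext (by simp)
      map_add' := fun a b => Subtype.ext (by simp [add_add_add_comm]) }
  have hsurj : Function.Surjective tr := fun t => by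
    obtain ⟨c, hc⟩ := H38.exists_trace_eq hτ hτ2 (t := (t : E)) ((hmem _).1 t.2)
    exact ⟨c, Subtype.ext hc⟩
  obtain ⟨ξ, hξ, hξ0⟩ : ∃ ξ : E, τ ξ = -ξ ∧ ξ ≠ 0 := by
    by_contra hcon
    simp only [not_exists, not_and, not_not] at hcon
    apply hτ
    refine RingHom.ext fun a => ?_
    have := hcon (a - τ a) (by rw [map_sub, hτ2]; ring)
    exact (sub_eq_zero.1 this).symm
  let ker : tr.ker ≃ Z₀ :=
    { toFun := fun a => ⟨(a : E) / ξ, by
        have ha : (a : E) + τ a = 0 := congrArg Subtype.val (AddMonoidHom.mem_ker.1 a.2)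
        rw [hmem, map_div₀, hξ, show τ (a : E) = -(a : E) by linear_combination ha, neg_div_neg_eq]⟩
      invFun := fun t => ⟨(t : E) * ξ, AddMonoidHom.mem_ker.2 (Subtype.ext (by
        show (t : E) * ξ + τ ((t : E) * ξ) = 0
        rw [map_mul, hξ, (hmem _).1 t.2]; ring))⟩
      left_inv := fun a => Subtype.ext (div_mul_cancel₀ _ hξ0)
      right_inv := fun t => Subtype.ext (mul_div_cancel_right₀ _ hξ0) }
  rw [← Nat.card_eq_fintype_card, AddSubgroup.card_eq_card_quotient_mul_card_addSubgroup tr.ker,
    Nat.card_congr ker, sq]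
  congr 1
  exact (Nat.card_congr (QuotientAddGroup.quotientKerEquivOfSurjective tr hsurj).toEquiv).symm

/-- The subextension of prime degree. -/
theorem exists_subalgebra_degree {F E : Type*} [Field F] [Fintype F] [Field E] [Finite E]
    [Algebra F E] {r : ℕ} (hr : r ∣ Module.finrank F E) :
    ∃ L : Subalgebra F E, Module.finrank F L = r ∧
      (∀ x, x ∈ L ↔ x ^ Fintype.card F ^ r = x) ∧ ∀ x ∈ L, x⁻¹ ∈ L := by
  haveI : Module.Finite F E := Module.Finite.of_finite
  set d := Module.finrank F E with hd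
  have hd0 : 0 < d := Module.finrank_pos
  have hr0 : 0 < r := Nat.pos_of_ne_zero (fun h => by
    rw [h] at hr; exact hd0.ne' (Nat.eq_zero_of_zero_dvd hr))
  set φ := FiniteField.frobeniusAlgEquivOfAlgebraic F E with hφ
  have hord : orderOf φ = d := FiniteField.orderOf_frobeniusAlgEquivOfAlgebraic F E
  set L := IntermediateField.fixedField (Subgroup.zpowers (φ ^ r)) with hL
  have hLr : Module.finrank F L = r := by
    have h1 : Module.finrank L E = d / r := by
      rw [IntermediateField.finrank_fixedField_eq_card, Nat.card_zpowers, orderOf_pow, hord,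
        Nat.gcd_eq_right hr]
    have h2 := Module.finrank_mul_finrank F L E
    rw [h1, ← hd] at h2
    conv_rhs at h2 => rw [← Nat.mul_div_cancel' hr]
    exact Nat.eq_of_mul_eq_mul_right (Nat.div_pos (Nat.le_of_dvd hd0 hr) hr0) h2
  have hpow : ∀ (n : ℕ) (x : E), (φ ^ n) x = x ^ Fintype.card F ^ n := by
    intro n
    induction n with
    | zero => intro x; simp
    | succ n ih =>
      intro x
      rw [pow_succ', AlgEquiv.mul_apply, ih, hφ, FiniteField.coe_frobeniusAlgEquivOfAlgebraic,
        pow_succ, pow_mul]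
  refine ⟨L.toSubalgebra, hLr, fun x => ?_, fun x hx => L.inv_mem hx⟩
  show x ∈ L ↔ _
  rw [hL, IntermediateField.mem_fixedField_iff]
  constructor
  · intro h
    have := h (φ ^ r) (Subgroup.mem_zpowers _)
    rwa [hpow] at this
  · intro h f hf
    haveI : Finite (E ≃ₐ[F] E) := Finite.of_injective (fun f => (f : E → E)) DFunLike.coe_injective
    obtain ⟨k, rfl⟩ := (mem_powers_iff_mem_zpowers.2 hf : f ∈ Submonoid.powers (φ ^ r))
    clear hf
    induction k with
    | zero => simp
    | succ k ih =>
      show (((φ ^ r) ^ (k + 1) : E ≃ₐ[F] E)) x = x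
      rw [pow_succ, AlgEquiv.mul_apply, hpow, h]
      exact ih

variable {ι : Type} [Fintype ι] [DecidableEq ι] {F : Type*} [Field F] [Fintype F]

/-- An alternating form with self-adjoint field of operators is the trace of an alternating form
over the field, so twice the degree divides the dimension. -/
theorem two_mul_dvd_of_selfAdjoint [Nonempty ι] {σ : F ≃+* F} {M : Matrix ι ι F} (hM : CF σ M)
    (hσ : σ = RingEquiv.refl F) {r : ℕ} {K : Subalgebra F (Matrix ι ι F)}
    (hK : IsFieldSubalgebra r K) (hsa : IsSelfAdjointFor (frm σ M) K)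
    (halt : ∀ k ∈ K, ∀ v, frm σ M (k *ᵥ v) v = 0) : 2 * r ∣ Fintype.card ι := by
  subst hσ
  haveI : Nontrivial K := ⟨⟨0, 1, fun h => zero_ne_one (α := Matrix ι ι F) (congrArg Subtype.val h)⟩⟩
  have hfld : IsField K :=
    { exists_pair_ne := exists_pair_ne _
      mul_comm := fun a b => Subtype.ext (hK.comm _ a.2 _ b.2)
      mul_inv_cancel := fun {a} ha => by
        obtain ⟨y, hy, h⟩ := hK.inv a.1 a.2 (fun h => ha (Subtype.ext h))
        exact ⟨⟨y, hy⟩, Subtype.ext h⟩ }
  letI : Field K := hfld.toField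
  letI : Module K (ι → F) := Module.compHom (ι → F)
    ((Matrix.toLinAlgEquiv' (R := F) (n := ι)).toAlgHom.comp K.val).toRingHom
  have hsmul : ∀ (y : K) (v : ι → F), y • v = (y : Matrix ι ι F) *ᵥ v :=
    fun y v => Matrix.toLin'_apply _ v
  haveI : IsScalarTower F K (ι → F) := ⟨fun c y v => by
    rw [hsmul, hsmul, Subalgebra.coe_smul, Matrix.smul_mulVec]⟩
  -- a functional
  obtain ⟨τ, hτ⟩ : ∃ τ : K →ₗ[F] F, τ 1 ≠ 0 := by
    by_contra hcon
    simp only [not_exists, not_not] at hcon
    exact one_ne_zero ((Module.forall_dual_apply_eq_zero_iff F (1 : K)).1 hcon)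
  let Ψ : K →ₗ[F] (K →ₗ[F] F) := LinearMap.mk₂ F (fun x y => τ (x * y))
    (fun a b c => by rw [add_mul, map_add]) (fun c a b => by rw [smul_mul_assoc, map_smul])
    (fun a b c => by rw [mul_add, map_add]) (fun c a b => by rw [mul_smul_comm, map_smul])
  have hΨi : Function.Injective Ψ := by
    rw [injective_iff_map_eq_zero]
    intro x hx
    by_contra h0
    apply hτ
    have := LinearMap.congr_fun hx x⁻¹
    simpa [Ψ, mul_inv_cancel₀ h0] using this
  let ΨE := LinearEquiv.ofBijective Ψ ⟨hΨi,
    (LinearMap.injective_iff_surjective_of_finrank_eq_finrank (Subspace.dual_finrank_eq).symm).1 hΨi⟩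
  let φ : (ι → F) → (ι → F) → (K →ₗ[F] F) := fun u v =>
    { toFun := fun y => frm (RingEquiv.refl F) M ((y : Matrix ι ι F) *ᵥ u) v
      map_add' := fun a b => by rw [Subalgebra.coe_add, Matrix.add_mulVec, frm_add_left]
      map_smul' := fun c a => by
        rw [Subalgebra.coe_smul, Matrix.smul_mulVec, frm_smul_left, RingHom.id_apply, smul_eq_mul] }
  let B : (ι → F) → (ι → F) → K := fun u v => ΨE.symm (φ u v)
  have hB : ∀ u v y, τ (B u v * y) = frm (RingEquiv.refl F) M ((y : Matrix ι ι F) *ᵥ u) v := by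
    intro u v y
    exact LinearMap.congr_fun (ΨE.apply_symm_apply (φ u v)) y
  have hext : ∀ a b : K, (∀ y, τ (a * y) = τ (b * y)) → a = b := fun a b h =>
    hΨi (LinearMap.ext h)
  let Bl : (ι → F) →ₗ[K] (ι → F) →ₗ[K] K := LinearMap.mk₂ K B
    (fun a b c => hext _ _ fun y => by
      rw [add_mul, map_add, hB, hB, hB, Matrix.mulVec_add, frm_add_left])
    (fun k a b => hext _ _ fun y => by
      rw [smul_eq_mul, mul_comm k, mul_assoc, hB, hB]
      erw [hsmul]
      rw [Matrix.mulVec_mulVec,
        MulMemClass.coe_mul, hK.comm _ y.2 _ k.2])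
    (fun a b c => hext _ _ fun y => by
      rw [add_mul, map_add, hB, hB, hB, frm_add_right])
    (fun k a b => hext _ _ fun y => by
      rw [smul_eq_mul, mul_comm k, mul_assoc, hB, hB]
      erw [hsmul]
      rw [← hsa _ k.2, Matrix.mulVec_mulVec,
        MulMemClass.coe_mul])
  haveI : Module.Finite K (ι → F) := Module.Finite.of_finite
  obtain ⟨j, hj⟩ := H47.alt_finrank_even (Module.finrank K (ι → F)) Bl
    (fun v => hext _ _ fun y => by
      show τ (B v v * y) = _
      rw [hB, halt _ y.2, zero_mul, map_zero])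
    (fun v hv => by
      by_contra hv0
      obtain ⟨x, hx⟩ := (hM.nondeg v hv0).1
      apply hx
      have h1 := hB x v 1
      rw [show B x v = Bl x v from rfl, hv x] at h1
      simpa using h1.symm) rfl
  haveI : Fintype K := Fintype.ofFinite K
  have h1 := Module.card_eq_pow_finrank (K := K) (V := ι → F)
  rw [Module.card_eq_pow_finrank (K := F) (V := K), hK.finrank_eq, hj, ← pow_mul,
    Fintype.card_fun] at h1
  exact ⟨j, by
    rw [Nat.pow_right_injective (Fintype.one_lt_card (α := F)) h1]; ring⟩

end H46
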