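import Mathlib

/-!
# Dimensions of subspaces left invariant by elements of prime projective order
-/

set_option autoImplicit false

open Polynomial Module

namespace H46.Elusive

variable {F : Type*} [Field F] {V : Type*} [AddCommGroup V] [Module F V] [FiniteDimensional F V]

/-- A map with `r`-th power the identity: invariant dimensions are congruent to those of their
fixed parts modulo the order of `q` modulo `r`. -/
theorem dim_modEq_fixed [Fintype F] {r : ℕ} [hr : Fact r.Prime] (hrq : ((Fintype.card F : ℕ) : ZMod r) ≠ 0)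
    (T : Module.End F V) (hT : T ^ r = 1) (W : Submodule F V) (hW : W.map T ≤ W) :
    finrank F W ≡ finrank F ↥(W ⊓ LinearMap.ker (T - 1))
      [MOD orderOf ((Fintype.card F : ℕ) : ZMod r)] := by
  classical
  haveI : Finite V := Module.finite_of_finite F
  haveI : Fintype W := Fintype.ofFinite _
  have hpow : ∀ (j : ℕ) (w : V), w ∈ W → (T ^ j) w ∈ W := by
    intro j
    induction j with
    | zero => intro w hw; simpa using hw
    | succ j ih =>
      intro w hw
      rw [pow_succ', Module.End.mul_apply]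
      exact hW ⟨_, ih w hw, rfl⟩
  have hfin : ∀ (w : V), T ((T ^ (r - 1)) w) = w ∧ (T ^ (r - 1)) (T w) = w := by
    intro w
    have e : r - 1 + 1 = r := Nat.sub_add_cancel hr.out.pos
    constructor
    · rw [← Module.End.mul_apply, ← pow_succ', e, hT, Module.End.one_apply]
    · rw [← Module.End.mul_apply, ← pow_succ, e, hT, Module.End.one_apply]
  let σ : Equiv.Perm W :=
    { toFun := fun w => ⟨T w, hW ⟨_, w.2, rfl⟩⟩
      invFun := fun w => ⟨(T ^ (r - 1)) w, hpow _ _ w.2⟩
      left_inv := fun w => Subtype.ext (hfin w).2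
      right_inv := fun w => Subtype.ext (hfin w).1 }
  have hσj : ∀ (j : ℕ) (w : W), (((σ ^ j) w : W) : V) = (T ^ j) w := by
    intro j
    induction j with
    | zero => intro w; simp
    | succ j ih => intro w; rw [pow_succ', Equiv.Perm.mul_apply, pow_succ', Module.End.mul_apply, ← ih]; rfl
  have hσ : σ ^ r ^ 1 = 1 := by
    rw [pow_one]
    refine Equiv.ext fun w => Subtype.ext ?_
    rw [hσj, hT]; rfl
  have h := Equiv.Perm.card_compl_support_modEq (p := r) (n := 1) hσ
  have e1 : σ.supportᶜ.card = Fintype.card F ^ finrank F ↥(W ⊓ LinearMap.ker (T - 1)) := by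
    rw [Fintype.card_eq_nat_card (α := F), ← Module.natCard_eq_pow_finrank (K := F),
      ← Nat.card_eq_finsetCard]
    refine Nat.card_congr
      { toFun := fun w => ⟨(w.1 : V), w.1.2, ?_⟩
        invFun := fun v => ⟨⟨v.1, v.2.1⟩, ?_⟩
        left_inv := fun w => rfl
        right_inv := fun v => rfl }
    · have h2 := w.2
      rw [Finset.mem_compl, Equiv.Perm.notMem_support] at h2
      have h3 : T (w.1 : V) = w.1 := congrArg Subtype.val h2
      show (w.1 : V) ∈ LinearMap.ker (T - 1)
      rw [LinearMap.mem_ker, LinearMap.sub_apply, Module.End.one_apply, h3, sub_self]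
    · rw [Finset.mem_compl, Equiv.Perm.notMem_support]
      refine Subtype.ext ?_
      have h2 : (T - 1) (v.1 : V) = 0 := LinearMap.mem_ker.1 v.2.2
      rw [LinearMap.sub_apply, Module.End.one_apply, sub_eq_zero] at h2
      exact h2
  rw [e1, Fintype.card_eq_nat_card (α := W), Module.natCard_eq_pow_finrank (K := F),
    ← Fintype.card_eq_nat_card, ← ZMod.natCast_eq_natCast_iff, Nat.cast_pow, Nat.cast_pow] at h
  set u : (ZMod r)ˣ := Units.mk0 _ hrq with hu
  have h2 : u ^ finrank F ↥(W ⊓ LinearMap.ker (T - 1)) = u ^ finrank F W := by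
    apply Units.ext
    simpa [hu] using h
  rw [pow_eq_pow_iff_modEq, ← orderOf_units, hu, Units.val_mk0] at h2
  exact h2.symm

/-- In an invariant subspace, some nonzero vector is killed by an irreducible factor of an
annihilating polynomial. -/
theorem exists_killed_factor (T : Module.End F V) (R : Submodule F V) (hR : R.map T ≤ R) :
    ∀ g : F[X], g ≠ 0 → ∀ v ∈ R, v ≠ 0 → aeval T g v = 0 →
      ∃ w ∈ R, w ≠ 0 ∧ ∃ h, Irreducible h ∧ h ∣ g ∧ aeval T h w = 0 := by
  intro g
  refine UniqueFactorizationMonoid.induction_on_prime g ?_ ?_ ?_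
  · intro h; exact absurd rfl h
  · intro x hx _ v _ hv h
    exfalso
    obtain ⟨y, hy⟩ := hx.exists_left_inv
    have h2 := congrArg (fun P => aeval T P v) hy
    simp only [map_mul, Module.End.mul_apply, h, map_zero, map_one, Module.End.one_apply] at h2
    exact hv h2.symm
  · intro a pr ha hpr ih hne v hvR hv h
    by_cases h0 : aeval T a v = 0
    · obtain ⟨w, hw, hw0, h', h1, h2, h3⟩ := ih ha v hvR hv h0
      exact ⟨w, hw, hw0, h', h1, dvd_mul_of_dvd_right h2 _, h3⟩
    · refine ⟨aeval T a v, ?_, h0, pr, hpr.irreducible, dvd_mul_right _ _, ?_⟩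
      · clear h0 h ih ha hne
        induction a using Polynomial.induction_on' with
        | add p q hp hq => rw [map_add]; exact R.add_mem hp hq
        | monomial k c =>
          rw [← C_mul_X_pow_eq_monomial, map_mul, aeval_C, map_pow, aeval_X, Module.End.mul_apply,
            Module.algebraMap_end_apply]
          refine R.smul_mem _ ?_
          induction k with
          | zero => simpa using hvR
          | succ k ihk => rw [pow_succ', Module.End.mul_apply]; exact hR ⟨_, ihk, rfl⟩
      · rw [← Module.End.mul_apply, ← map_mul]; exact h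

/-- A vector killed by a polynomial of degree `d` spans an invariant subspace of dimension at most `d`. -/
theorem exists_small_invariant (T : Module.End F V) (R : Submodule F V) (hR : R.map T ≤ R)
    (w : V) (hw : w ∈ R) (hw0 : w ≠ 0) (h : F[X]) (hh : h ≠ 0) (hhw : aeval T h w = 0) :
    ∃ W : Submodule F V, W ≤ R ∧ W ≠ ⊥ ∧ W.map T ≤ W ∧ finrank F W ≤ h.natDegree := by
  let f : F[X] →ₗ[F] V := (LinearMap.applyₗ w).comp (aeval T).toLinearMap
  have hf : ∀ P : F[X], f P = aeval T P w := fun P => rfl
  obtain ⟨h', hmon, hdeg, hh'w⟩ : ∃ h' : F[X], h'.Monic ∧ h'.natDegree = h.natDegree ∧ aeval T h' w = 0 := by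
    refine ⟨h * C h.leadingCoeff⁻¹, monic_mul_leadingCoeff_inv hh,
      natDegree_mul_leadingCoeff_inv h hh, ?_⟩
    rw [mul_comm, map_mul, Module.End.mul_apply, hhw, map_zero]
  have hred : ∀ P : F[X], f P = f (P %ₘ h') := by
    intro P
    conv_lhs => rw [← modByMonic_add_div P h']
    rw [map_add, hf (h' * _), mul_comm, map_mul, Module.End.mul_apply, hh'w, map_zero, add_zero]
  refine ⟨(degreeLT F h'.natDegree).map f, ?_, ?_, ?_, ?_⟩
  · rintro _ ⟨P, -, rfl⟩
    rw [hf]
    induction P using Polynomial.induction_on' with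
    | add p q hp hq => rw [map_add]; exact R.add_mem hp hq
    | monomial k c =>
      rw [← C_mul_X_pow_eq_monomial, map_mul, aeval_C, map_pow, aeval_X, Module.End.mul_apply,
        Module.algebraMap_end_apply]
      refine R.smul_mem _ ?_
      induction k with
      | zero => simpa using hw
      | succ k ihk => rw [pow_succ', Module.End.mul_apply]; exact hR ⟨_, ihk, rfl⟩
  · intro hbot
    have hmem : f (1 %ₘ h') ∈ (degreeLT F h'.natDegree).map f := by
      refine ⟨_, ?_, rfl⟩
      rw [SetLike.mem_coe, mem_degreeLT, ← degree_eq_natDegree hmon.ne_zero]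
      exact degree_modByMonic_lt _ hmon
    rw [hbot, Submodule.mem_bot, ← hred, hf, map_one, Module.End.one_apply] at hmem
    exact hw0 hmem
  · rintro _ ⟨_, ⟨P, -, rfl⟩, rfl⟩
    refine ⟨(X * P) %ₘ h', ?_, ?_⟩
    · rw [SetLike.mem_coe, mem_degreeLT, ← degree_eq_natDegree hmon.ne_zero]
      exact degree_modByMonic_lt _ hmon
    · rw [← hred, hf, hf, map_mul, aeval_X, Module.End.mul_apply]
  · refine le_trans (Submodule.finrank_map_le _ _) (le_of_eq ?_)
    rw [(degreeLTEquiv F h'.natDegree).finrank_eq, Module.finrank_fin_fun, hdeg]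

/-- An invariant subspace all of whose invariant subspaces have dimension divisible by `d`, for a
semisimple map with all irreducible factors of degree at most `d`, contains invariant subspaces of
all dimensions `k * d`. -/
theorem exists_invariant_of_dim {T : Module.End F V} {g : F[X]} (hg : Squarefree g)
    (hgT : aeval T g = 0) {d : ℕ} (hdeg : ∀ h, Irreducible h → h ∣ g → h.natDegree ≤ d)
    (C : Submodule F V) (hC : C.map T ≤ C)
    (hdvd : ∀ W, W ≤ C → W.map T ≤ W → d ∣ finrank F W) :
    ∀ k, k * d ≤ finrank F C → ∃ W, W ≤ C ∧ W.map T ≤ W ∧ finrank F W = k * d := by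
  intro k
  induction k with
  | zero => intro _; exact ⟨⊥, bot_le, by simp, by simp⟩
  | succ k ih =>
    intro hk
    rw [Nat.succ_mul] at hk
    obtain ⟨W, hWC, hW, hWd⟩ := ih (by omega)
    rcases Nat.eq_zero_or_pos d with rfl | hd
    · exact ⟨W, hWC, hW, by simpa using hWd⟩
    have hss := Module.End.isSemisimple_of_squarefree_aeval_eq_zero hg hgT
    obtain ⟨Q, hQ, hcompl⟩ := Module.End.isSemisimple_iff.1 hss W
      ((Module.End.mem_invtSubmodule T).2 (Submodule.map_le_iff_le_comap.1 hW))
    have hQ' : Q.map T ≤ Q := Submodule.map_le_iff_le_comap.2 ((Module.End.mem_invtSubmodule T).1 hQ)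
    have hR : (Q ⊓ C).map T ≤ Q ⊓ C :=
      (Submodule.map_inf_le _).trans (inf_le_inf hQ' hC)
    have hsup : W ⊔ Q ⊓ C = C := by
      rw [← sup_inf_assoc_of_le Q hWC, hcompl.sup_eq_top, top_inf_eq]
    have hdisj : W ⊓ (Q ⊓ C) = ⊥ := by
      rw [← inf_assoc, hcompl.inf_eq_bot, bot_inf_eq]
    have hdim := Submodule.finrank_sup_add_finrank_inf_eq W (Q ⊓ C)
    rw [hsup, hdisj, finrank_bot, add_zero] at hdim
    have hne : Q ⊓ C ≠ ⊥ := by
      intro h
      rw [h, finrank_bot] at hdim
      omega
    obtain ⟨v, hv, hv0⟩ := Submodule.exists_mem_ne_zero_of_ne_bot hne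
    obtain ⟨w, hw, hw0, h, hirr, hhg, hhw⟩ := exists_killed_factor T _ hR g hg.ne_zero v hv hv0
      (by rw [hgT]; rfl)
    obtain ⟨U, hUR, hUne, hU, hUd⟩ := exists_small_invariant T _ hR w hw hw0 h hirr.ne_zero hhw
    have hUdim : finrank F U = d := by
      have h1 := hdvd U (hUR.trans inf_le_right) hU
      have h2 : 0 < finrank F U := Nat.pos_of_ne_zero fun h0 => hUne (Submodule.finrank_eq_zero.1 h0)
      have h3 := Nat.le_of_dvd h2 h1
      have := hdeg h hirr hhg
      omega
    refine ⟨W ⊔ U, sup_le hWC (hUR.trans inf_le_right), ?_, ?_⟩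
    · rw [Submodule.map_sup]; exact sup_le_sup hW hU
    · have h1 := Submodule.finrank_sup_add_finrank_inf_eq W U
      have h2 : W ⊓ U = ⊥ := le_bot_iff.1 ((inf_le_inf_left W hUR).trans hdisj.le)
      rw [h2, finrank_bot, add_zero, hWd, hUdim] at h1
      rw [h1, Nat.succ_mul]

/-- `X ^ r - c` is squarefree when `r ≠ 0` in the field and `c ≠ 0`. -/
theorem squarefree_X_pow_sub {r : ℕ} (hr : (r : F) ≠ 0) {c : F} (hc : c ≠ 0) :
    Squarefree (X ^ r - C c : F[X]) :=
  (separable_X_pow_sub_C c hr hc).squarefree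

theorem aeval_X_pow_sub {r : ℕ} {c : F} {T : Module.End F V} (hT : T ^ r = c • 1) :
    aeval T (X ^ r - C c : F[X]) = 0 := by
  rw [map_sub, map_pow, aeval_X, aeval_C, hT, Algebra.algebraMap_eq_smul_one, sub_self]

/-- For `T ^ r = c` with `c` not an `r`-th power, invariant dimensions are divisible by `r`. -/
theorem prime_dvd_dim {r : ℕ} [hr : Fact r.Prime] {c : F} (hc : ∀ b : F, b ^ r ≠ c)
    {T : Module.End F V} (hT : T ^ r = c • 1) (W : Submodule F V) (hW : W.map T ≤ W) :
    r ∣ finrank F W := by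
  by_contra hndvd
  have hc0 : c ≠ 0 := fun h => hc 0 (by rw [zero_pow hr.out.ne_zero, h])
  set S : Module.End F W := T.restrict (fun w hw => hW ⟨w, hw, rfl⟩) with hS
  have hSr : S ^ r = c • 1 := by
    rw [hS, Module.End.pow_restrict r (fun w hw => hW ⟨w, hw, rfl⟩)]
    refine LinearMap.ext fun w => Subtype.ext ?_
    rw [LinearMap.restrict_coe_apply, hT]
    rfl
  have hdet : LinearMap.det S ^ r = c ^ finrank F W := by
    rw [← map_pow, hSr, LinearMap.det_smul, map_one, mul_one]
  obtain ⟨a, b, hab⟩ := Nat.isCoprime_iff_coprime.2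
    ((hr.out.coprime_iff_not_dvd.2 hndvd).symm)
  refine hc (LinearMap.det S ^ a * c ^ b) ?_
  rw [mul_pow, ← zpow_natCast, ← zpow_natCast (c ^ b), ← zpow_mul, ← zpow_mul, mul_comm a, zpow_mul,
    zpow_natCast, hdet, ← zpow_natCast, ← zpow_mul, ← zpow_add₀ hc0, mul_comm ((finrank F W : ℤ)) a,
    hab, zpow_one]

end H46.Elusive
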