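import Cfsg.Agent.H46.ElusiveField

/-!
# Case analysis for elements of prime projective order in SL
-/

set_option autoImplicit false

open Polynomial Module

namespace H46.Elusive

variable {F : Type*} [Field F] [Fintype F] {r : ℕ} [hr : Fact r.Prime]
variable {V : Type*} [AddCommGroup V] [Module F V] [FiniteDimensional F V]

/-- `r ≠ 0` in `F` when the image of `q` mod `r` is nonzero. -/
theorem cast_ne_zero (hrq : ((Fintype.card F : ℕ) : ZMod r) ≠ 0) : (r : F) ≠ 0 := by
  intro h0
  obtain ⟨p, hp⟩ := CharP.exists F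
  haveI := Fact.mk (CharP.char_is_prime F p)
  have h1 := (CharP.cast_eq_zero_iff F p r).1 h0
  obtain ⟨k, -, hk⟩ := FiniteField.card F p
  rw [(Nat.prime_dvd_prime_iff_eq (Fact.out : p.Prime) hr.out).1 h1] at hk
  exact hrq (by rw [hk, Nat.cast_pow, ZMod.natCast_self, zero_pow k.pos.ne'])

/-- `r ∣ q ^ i - 1`. -/
theorem dvd_pow_order_sub_one : r ∣ Fintype.card F ^ orderOf ((Fintype.card F : ℕ) : ZMod r) - 1 := by
  rw [← ZMod.natCast_eq_zero_iff, Nat.cast_sub (Nat.one_le_pow _ _ Fintype.card_pos), Nat.cast_pow,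
    pow_orderOf_eq_one, Nat.cast_one, sub_self]

/-- The order is one exactly when `r ∣ q - 1`. -/
theorem order_eq_one_iff : orderOf ((Fintype.card F : ℕ) : ZMod r) = 1 ↔ r ∣ Fintype.card F - 1 := by
  rw [orderOf_eq_one_iff, ← ZMod.natCast_eq_zero_iff, Nat.cast_sub Fintype.card_pos, sub_eq_zero,
    Nat.cast_one]

/-- Irreducible factors of `X ^ r - 1` have degree at most the order of `q` modulo `r`. -/
theorem natDegree_le_order (hrq : ((Fintype.card F : ℕ) : ZMod r) ≠ 0) (h : F[X]) (hi : Irreducible h)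
    (hd : h ∣ X ^ r - C 1) : h.natDegree ≤ orderOf ((Fintype.card F : ℕ) : ZMod r) := by
  set i := orderOf ((Fintype.card F : ℕ) : ZMod r) with hidef
  have hpos : 0 < i := by
    have : IsOfFinOrder (Units.mk0 _ hrq) := isOfFinOrder_of_finite _
    have := this.orderOf_pos
    rwa [← orderOf_units, Units.val_mk0] at this
  refine Nat.le_of_dvd hpos (hi.natDegree_dvd_of_dvd_X_pow_card_pow_sub_X ?_)
  rw [Nat.card_eq_fintype_card]
  refine hd.trans ?_
  have h1 : (X ^ r - C 1 : F[X]) ∣ X ^ (Fintype.card F ^ i - 1) - 1 := by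
    obtain ⟨j, hj⟩ := (dvd_pow_order_sub_one : r ∣ Fintype.card F ^ i - 1)
    rw [hj, pow_mul, map_one]
    simpa using sub_dvd_pow_sub_pow (X ^ r : F[X]) 1 j
  refine h1.trans ⟨X, ?_⟩
  rw [sub_mul, one_mul, ← pow_succ, Nat.sub_add_cancel (Nat.one_le_pow _ _ Fintype.card_pos)]

/-- The structure of a map with `r`-th power one. -/
theorem unipower_structure (hrq : ((Fintype.card F : ℕ) : ZMod r) ≠ 0) (T : Module.End F V)
    (hT : T ^ r = 1) :
    finrank F (LinearMap.ker (T - 1)) ≤ finrank F V ∧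
    orderOf ((Fintype.card F : ℕ) : ZMod r) ∣ finrank F V - finrank F (LinearMap.ker (T - 1)) ∧
    ∀ c k, c ≤ finrank F (LinearMap.ker (T - 1)) →
      k * orderOf ((Fintype.card F : ℕ) : ZMod r) ≤ finrank F V - finrank F (LinearMap.ker (T - 1)) →
      ∃ W : Submodule F V, W.map T ≤ W ∧
        finrank F W = c + k * orderOf ((Fintype.card F : ℕ) : ZMod r) ∧
        ∀ c' k', c' ≤ c → k' ≤ k → ∃ U : Submodule F V, U ≤ W ∧ U.map T ≤ U ∧
          finrank F U = c' + k' * orderOf ((Fintype.card F : ℕ) : ZMod r) := by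
  classical
  set i := orderOf ((Fintype.card F : ℕ) : ZMod r) with hidef
  have hr0 : (r : F) ≠ 0 := cast_ne_zero hrq
  set C0 := LinearMap.ker (T - 1) with hC0
  set C1 := LinearMap.range (T - 1) with hC1
  have hC0fix : ∀ v ∈ C0, T v = v := fun v hv => sub_eq_zero.1 (by simpa [hC0] using hv)
  have hinv0 : ∀ U ≤ C0, U.map T ≤ U := by
    rintro U hU _ ⟨v, hv, rfl⟩
    rw [hC0fix v (hU hv)]; exact hv
  have hinv1 : C1.map T ≤ C1 := by
    rintro _ ⟨_, ⟨v, rfl⟩, rfl⟩
    exact ⟨T v, by simp⟩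
  have hinter : C1 ⊓ C0 = ⊥ := by
    rw [eq_bot_iff]
    rintro _ ⟨⟨w, rfl⟩, hv⟩
    rw [Submodule.mem_bot]
    set v := (T - 1) w with hvdef
    have hTv : T v = v := hC0fix v hv
    have hTw : T w = w + v := by rw [hvdef]; simp
    have hj : ∀ j : ℕ, (T ^ j) w = w + (j : F) • v := by
      intro j
      induction j with
      | zero => simp
      | succ j ih =>
        rw [pow_succ', Module.End.mul_apply, ih, map_add, map_smul, hTv, hTw, add_assoc, Nat.cast_succ,
          add_smul, one_smul, add_comm v]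
    have h2 := hj r
    rw [hT, Module.End.one_apply, left_eq_add] at h2
    exact (smul_eq_zero.1 h2).resolve_left hr0
  have hdim : finrank F C1 + finrank F C0 = finrank F V := LinearMap.finrank_range_add_finrank_ker _
  have hdvd : ∀ W, W ≤ C1 → W.map T ≤ W → i ∣ finrank F W := by
    intro W hW1 hW
    have h := dim_modEq_fixed hrq T hT W hW
    have : W ⊓ C0 = ⊥ := le_bot_iff.1 ((inf_le_inf_right C0 hW1).trans hinter.le)
    rw [← hC0, this, finrank_bot] at h
    exact Nat.modEq_zero_iff_dvd.1 h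
  have hgT : aeval T (X ^ r - C (1 : F)) = 0 := aeval_X_pow_sub (by rw [hT, one_smul])
  have hin : ∀ (A : Submodule F V) (c : ℕ), c ≤ finrank F A → ∃ U, U ≤ A ∧ finrank F U = c := by
    intro A c hc
    obtain ⟨L, hL⟩ := exists_linearIndependent_of_le_finrank (R := F) (M := A) hc
    refine ⟨(Submodule.span F (Set.range L)).map A.subtype, Submodule.map_subtype_le _ _, ?_⟩
    rw [Submodule.finrank_map_subtype_eq, finrank_span_eq_card hL, Fintype.card_fin]
  have hex := fun (C : Submodule F V) (hC : C.map T ≤ C) (hd : ∀ W, W ≤ C → W.map T ≤ W → i ∣ finrank F W) =>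
    exists_invariant_of_dim (squarefree_X_pow_sub hr0 one_ne_zero) hgT (natDegree_le_order hrq) C hC hd
  have hjoin : ∀ A B : Submodule F V, A ≤ C0 → B ≤ C1 →
      finrank F ↥(A ⊔ B) = finrank F A + finrank F B := by
    intro A B hA hB
    have h := Submodule.finrank_sup_add_finrank_inf_eq A B
    have : A ⊓ B = ⊥ := le_bot_iff.1 ((inf_le_inf hA hB).trans (by rw [inf_comm, hinter]))
    rw [this, finrank_bot, add_zero] at h
    exact h
  refine ⟨by omega, ?_, fun c k hc hk => ?_⟩
  · rw [← hdim, Nat.add_sub_cancel]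
    exact hdvd C1 le_rfl hinv1
  obtain ⟨A, hA, hAd⟩ := hin C0 c hc
  obtain ⟨B, hB, hBi, hBd⟩ := hex C1 hinv1 hdvd k (le_trans hk (by omega))
  refine ⟨A ⊔ B, ?_, by rw [hjoin A B hA hB, hAd, hBd], fun c' k' hc' hk' => ?_⟩
  · rw [Submodule.map_sup]; exact sup_le_sup (hinv0 A hA) hBi
  obtain ⟨A', hA', hA'd⟩ := hin A c' (hAd ▸ hc')
  obtain ⟨B', hB', hB'i, hB'd⟩ := hex B hBi (fun W hW hWi => hdvd W (hW.trans hB) hWi) k'
    (by rw [hBd]; exact Nat.mul_le_mul_right _ hk')
  refine ⟨A' ⊔ B', sup_le_sup hA' hB', ?_, by rw [hjoin A' B' (hA'.trans hA) (hB'.trans hB), hA'd, hB'd]⟩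
  rw [Submodule.map_sup]; exact sup_le_sup (hinv0 A' (hA'.trans hA)) hB'i

/-- Invariant subspaces do not change under nonzero scaling. -/
theorem map_smul_le {T : Module.End F V} {l : F} (hl : l ≠ 0) {W : Submodule F V}
    (hW : W.map (l • T) ≤ W) : W.map T ≤ W := by
  rwa [Submodule.map_smul _ _ _ hl] at hW

/-- Either the scalar is a nonpower, or scaling gives a map with power one. -/
theorem nonpower_or_unipower {T : Module.End F V} {c : F} (hc : c ≠ 0) (hT : T ^ r = c • 1) :
    (∀ b : F, b ^ r ≠ c) ∨ ∃ l : F, l ≠ 0 ∧ (l • T) ^ r = 1 := by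
  by_cases h : ∃ b : F, b ^ r = c
  · obtain ⟨b, hb⟩ := h
    have hb0 : b ≠ 0 := by rintro rfl; exact hc (by rw [← hb, zero_pow hr.out.ne_zero])
    exact Or.inr ⟨b⁻¹, inv_ne_zero hb0, by
      rw [_root_.smul_pow, hT, inv_pow, hb, smul_smul, inv_mul_cancel₀ hc, one_smul]⟩
  · exact Or.inl (not_exists.1 h)

/-- With `r` prime to `q - 1` every scalar is an `r`-th power. -/
theorem not_nonpower (h : ¬ r ∣ Fintype.card F - 1) (c : F) : ∃ b : F, b ^ r = c := by
  classical
  by_cases hc : c = 0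
  · exact ⟨0, by rw [hc, zero_pow hr.out.ne_zero]⟩
  have hcop : (Nat.card Fˣ).Coprime r := by
    rw [Nat.card_eq_fintype_card, Fintype.card_units]
    exact (hr.out.coprime_iff_not_dvd.2 h).symm
  obtain ⟨u, hu⟩ := (powCoprime hcop).surjective (Units.mk0 c hc)
  exact ⟨u, by simpa using congrArg Units.val hu⟩

/-- Invariant subspaces and flags when the scalar is a nonpower. -/
theorem nonpower_structure (hr0 : (r : F) ≠ 0) {T : Module.End F V} {c : F}
    (hc : ∀ b : F, b ^ r ≠ c) (hT : T ^ r = c • 1) (k : ℕ) (hk : k * r ≤ finrank F V) :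
    ∃ W : Submodule F V, W.map T ≤ W ∧ finrank F W = k * r ∧
      ∀ k' ≤ k, ∃ U : Submodule F V, U ≤ W ∧ U.map T ≤ U ∧ finrank F U = k' * r := by
  have hc0 : c ≠ 0 := fun h => hc 0 (by rw [zero_pow hr.out.ne_zero, h])
  have hirr := X_pow_sub_C_irreducible_of_prime hr.out hc
  have hdeg : ∀ h : F[X], Irreducible h → h ∣ X ^ r - C c → h.natDegree ≤ r := fun h _ hd =>
    (natDegree_le_of_dvd hd (X_pow_sub_C_ne_zero hr.out.pos c)).trans natDegree_X_pow_sub_C.le
  have hd : ∀ C : Submodule F V, ∀ W, W ≤ C → W.map T ≤ W → r ∣ finrank F W :=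
    fun _ W _ hW => prime_dvd_dim hc hT W hW
  obtain ⟨W, -, hW, hWd⟩ := exists_invariant_of_dim (squarefree_X_pow_sub hr0 hc0) (aeval_X_pow_sub hT)
    hdeg ⊤ le_top (hd ⊤) k (by rwa [finrank_top])
  exact ⟨W, hW, hWd, fun k' hk' => exists_invariant_of_dim (squarefree_X_pow_sub hr0 hc0)
    (aeval_X_pow_sub hT) hdeg W hW (hd W) k' (by rw [hWd]; exact Nat.mul_le_mul_right _ hk')⟩

/-- When the congruence conditions hold there is no nonpower with determinant one. -/
theorem no_det_one (hrq : r ∣ Fintype.card F - 1) {n k : ℕ} (hn0 : n ≠ 0) (hnk : n = r * k)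
    (hv : padicValNat r n ≤ padicValNat r (Fintype.card F - 1))
    (h4 : r = 2 → Even n → Fintype.card F % 4 = 1)
    {c : F} (hc : ∀ b : F, b ^ r ≠ c) : ((-1) ^ (r + 1) * c) ^ k ≠ 1 := by
  have hk0 : k ≠ 0 := by rintro rfl; simp [hnk] at hn0
  have hc0 : c ≠ 0 := fun h => hc 0 (by rw [zero_pow hr.out.ne_zero, h])
  have hvk : padicValNat r k < padicValNat r (Fintype.card F - 1) := by
    rw [hnk, padicValNat.mul hr.out.ne_zero hk0, padicValNat_self] at hv
    omega
  rcases hr.out.eq_two_or_odd' with h2 | hodd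
  · subst h2
    have hsq : IsSquare (-1 : F) := FiniteField.isSquare_neg_one_iff.2 (by
      have := h4 rfl (by rw [hnk]; exact even_two_mul k)
      omega)
    obtain ⟨j, hj⟩ := hsq
    refine pow_ne_one_of_nonpower hrq (mul_ne_zero (pow_ne_zero _ (neg_ne_zero.2 one_ne_zero)) hc0)
      (fun b hb => ?_) hk0 hvk
    have hj0 : j ≠ 0 := by rintro rfl; simp at hj
    refine hc (b / j) ?_
    rw [div_pow, sq j, ← hj, hb]
    ring
  · rw [(hodd.add_odd odd_one).neg_one_pow, one_mul]
    exact pow_ne_one_of_nonpower hrq hc0 hc hk0 hvk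

/-- When the congruence conditions fail there is such a nonpower. -/
theorem exists_det_one (hrq : r ∣ Fintype.card F - 1) {n : ℕ} (hn0 : n ≠ 0)
    (h : ¬ (padicValNat r n ≤ padicValNat r (Fintype.card F - 1) ∧
      (r = 2 → Even n → Fintype.card F % 4 = 1))) :
    ∃ (k : ℕ) (c : F), n = r * k ∧ (∀ b : F, b ^ r ≠ c) ∧ ((-1) ^ (r + 1) * c) ^ k = 1 := by
  have he : 1 ≤ padicValNat r (Fintype.card F - 1) :=
    one_le_padicValNat_of_dvd (by have := Fintype.one_lt_card (α := F); omega) hrq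
  by_cases hv : padicValNat r n ≤ padicValNat r (Fintype.card F - 1)
  · have h' : r = 2 ∧ Even n ∧ Fintype.card F % 4 ≠ 1 := by
      by_contra hcon
      exact h ⟨hv, fun h1 h2 => by by_contra h3; exact hcon ⟨h1, h2, h3⟩⟩
    obtain ⟨rfl, heven, hq4⟩ := h'
    obtain ⟨k, rfl⟩ := heven
    refine ⟨k, -1, (two_mul k).symm, fun b hb => ?_, by norm_num⟩
    have h1 : IsSquare (-1 : F) := ⟨b, by rw [← hb, sq]⟩
    have h2 := FiniteField.isSquare_neg_one_iff.1 h1
    have := Fintype.card_pos (α := F)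
    omega
  · rw [not_le] at hv
    have hdvd : r ^ (padicValNat r (Fintype.card F - 1) + 1) ∣ n := (padicValNat_dvd_iff_le hn0).2 hv
    obtain ⟨w, hw⟩ := hdvd
    obtain ⟨c, hc, hce⟩ := exists_nonpower (F := F) hrq
    refine ⟨r ^ padicValNat r (Fintype.card F - 1) * w, c, by rw [hw, pow_succ']; ring, hc, ?_⟩
    rw [mul_pow, pow_mul c, hce, one_pow, mul_one, ← pow_mul]
    refine Even.neg_one_pow ?_
    rcases hr.out.eq_two_or_odd' with h2 | hodd
    · subst h2
      exact ((Nat.even_pow.2 ⟨even_two, by omega⟩).mul_right _).mul_left _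
    · exact (hodd.add_odd odd_one).mul_right _

/-- An element of determinant one without invariant subspaces of dimension prime to `r`. -/
theorem exists_nonpower_element (hrq : r ∣ Fintype.card F - 1) {n : ℕ} (hn : n ≠ 0)
    (h : ¬ (padicValNat r n ≤ padicValNat r (Fintype.card F - 1) ∧
      (r = 2 → Even n → Fintype.card F % 4 = 1))) :
    ∃ (x : Matrix.SpecialLinearGroup (Fin n) F) (c : F), (∀ b : F, b ^ r ≠ c) ∧
      ((x ^ r : Matrix.SpecialLinearGroup (Fin n) F) : Matrix (Fin n) (Fin n) F) =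
        c • (1 : Matrix (Fin n) (Fin n) F) ∧
      ∀ z : F, (x : Matrix (Fin n) (Fin n) F) ≠ z • (1 : Matrix (Fin n) (Fin n) F) := by
  obtain ⟨k, c, hnk, hc, hdet⟩ := exists_det_one hrq hn h
  haveI : Fact (Irreducible (X ^ r - C c : F[X])) := ⟨X_pow_sub_C_irreducible_of_prime hr.out hc⟩
  have hne := X_pow_sub_C_ne_zero hr.out.pos c
  haveI : Module.Finite F (AdjoinRoot (X ^ r - C c : F[X])) := (AdjoinRoot.powerBasis hne).finite
  have hroot : AdjoinRoot.root (X ^ r - C c) ^ r = algebraMap F _ c := by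
    have h0 : aeval (AdjoinRoot.root (X ^ r - C c)) (X ^ r - C c : F[X]) = 0 := by
      rw [AdjoinRoot.aeval_eq, AdjoinRoot.mk_self]
    rw [map_sub, map_pow, aeval_X, aeval_C, sub_eq_zero] at h0
    exact h0
  have hα : AdjoinRoot.root (X ^ r - C c) ≠ 1 := by
    intro h1
    rw [h1, one_pow, ← map_one (algebraMap F (AdjoinRoot (X ^ r - C c : F[X])))] at hroot
    exact hc 1 (by rw [one_pow]; exact (algebraMap F (AdjoinRoot (X ^ r - C c : F[X]))).injective hroot)
  obtain ⟨T, hTd, -, hTp⟩ := exists_block (F := F) (AdjoinRoot.root (X ^ r - C c)) hα k 0 n (by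
    rw [(AdjoinRoot.powerBasis hne).finrank, AdjoinRoot.powerBasis_dim, natDegree_X_pow_sub_C, add_zero,
      hnk, mul_comm])
  rw [norm_root, hdet] at hTd
  obtain ⟨x, hxT, hxr⟩ := exists_sl T hTd (hTp r c hroot (Or.inl rfl))
  refine ⟨x, c, hc, hxr, fun z hz => hc z ?_⟩
  have h1 := toLin'_pow_eq x hxr
  rw [hz, map_smul, Matrix.toLin'_one, ← Module.End.one_eq_id, _root_.smul_pow, one_pow] at h1
  haveI : Nonempty (Fin n) := ⟨⟨0, Nat.pos_of_ne_zero hn⟩⟩
  exact smul_left_injective F (one_ne_zero (α := Module.End F (Fin n → F))) h1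

/-- An element of determinant one with `b` nontrivial irreducible constituents. -/
theorem exists_order_element_of (hrq : ((Fintype.card F : ℕ) : ZMod r) ≠ 0)
    (hi : 2 ≤ orderOf ((Fintype.card F : ℕ) : ZMod r)) {n : ℕ}
    (b : ℕ) (hb : 1 ≤ b) (hn : b * orderOf ((Fintype.card F : ℕ) : ZMod r) ≤ n) :
    ∃ x : Matrix.SpecialLinearGroup (Fin n) F,
      (Matrix.toLin' (x : Matrix (Fin n) (Fin n) F) : Module.End F (Fin n → F)) ^ r = 1 ∧
      ((x ^ r : Matrix.SpecialLinearGroup (Fin n) F) : Matrix (Fin n) (Fin n) F) =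
        (1 : F) • (1 : Matrix (Fin n) (Fin n) F) ∧
      finrank F (LinearMap.ker ((Matrix.toLin' (x : Matrix (Fin n) (Fin n) F) :
        Module.End F (Fin n → F)) - 1)) = n - b * orderOf ((Fintype.card F : ℕ) : ZMod r) ∧
      ∀ z : F, (x : Matrix (Fin n) (Fin n) F) ≠ z • (1 : Matrix (Fin n) (Fin n) F) := by
  classical
  set i := orderOf ((Fintype.card F : ℕ) : ZMod r) with hidef
  haveI : NeZero i := ⟨by omega⟩
  obtain ⟨p, hp⟩ := CharP.exists F
  haveI := Fact.mk (CharP.char_is_prime F p)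
  set K := FiniteField.Extension F p i
  haveI : Fintype K := Fintype.ofFinite K
  have hK : Fintype.card K = Fintype.card F ^ i := by
    rw [Fintype.card_eq_nat_card, FiniteField.natCard_extension, Nat.card_eq_fintype_card]
  have hfr : finrank F K = i := by
    have h := Module.natCard_eq_pow_finrank (K := F) (V := K)
    rw [FiniteField.natCard_extension] at h
    exact (Nat.pow_right_injective (by rw [Nat.card_eq_fintype_card]; exact Fintype.one_lt_card) h).symm
  obtain ⟨u, hu⟩ := exists_prime_orderOf_dvd_card (G := Kˣ) r (by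
    rw [Fintype.card_units, hK]; exact dvd_pow_order_sub_one)
  have hu1 : (u : K) ≠ 1 := by
    intro h
    rw [Units.val_eq_one] at h
    rw [h, orderOf_one] at hu
    exact hr.out.ne_one hu.symm
  have hur : (u : K) ^ r = 1 := by
    rw [← Units.val_pow_eq_pow_val, ← hu, pow_orderOf_eq_one, Units.val_one]
  have hnorm : Algebra.norm F (u : K) = 1 := by
    have h1 : Algebra.norm F (u : K) ^ r = 1 := by rw [← map_pow, hur, map_one]
    have h2 : ¬ r ∣ Fintype.card F - 1 := fun h => by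
      have := order_eq_one_iff.2 h
      omega
    have h0 : Algebra.norm F (u : K) ≠ 0 := by
      intro h0; rw [h0, zero_pow hr.out.ne_zero] at h1; exact zero_ne_one h1
    have h3 : Units.mk0 _ h0 = 1 := by
      have hord : orderOf (Units.mk0 _ h0) ∣ Nat.gcd r (Fintype.card Fˣ) :=
        Nat.dvd_gcd (orderOf_dvd_of_pow_eq_one (Units.ext (by simpa using h1))) orderOf_dvd_card
      rw [Fintype.card_units, (hr.out.coprime_iff_not_dvd.2 h2).gcd_eq_one, Nat.dvd_one] at hord
      exact orderOf_eq_one_iff.1 hord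
    simpa using congrArg Units.val h3
  obtain ⟨T, hTd, hTk, hTp⟩ := exists_block (F := F) (u : K) hu1 b (n - b * i) n (by
    rw [hfr]; omega)
  rw [hnorm, one_pow] at hTd
  have hTr := hTp r 1 (by rw [hur, map_one]) (Or.inr rfl)
  obtain ⟨x, hxT, hxr⟩ := exists_sl T hTd hTr
  rw [one_smul] at hTr
  have hlt : finrank F (LinearMap.ker (T - 1)) < n := by
    rw [hTk]
    have := Nat.le_mul_of_pos_left i hb
    omega
  refine ⟨x, by rw [hxT]; exact hTr, hxr, by rw [hxT]; exact hTk, fun z hz => ?_⟩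
  have hTz : T = z • 1 := by rw [← hxT, hz, map_smul, Matrix.toLin'_one, Module.End.one_eq_id]
  by_cases hz1 : z = 1
  · rw [hTz, hz1, one_smul, sub_self, LinearMap.ker_zero, finrank_top, Module.finrank_fin_fun] at hlt
    exact lt_irrefl _ hlt
  · have hzr : z ^ r = 1 := by
      rw [hTz, _root_.smul_pow, one_pow] at hTr
      haveI : Nonempty (Fin n) := ⟨⟨0, by have := Nat.le_mul_of_pos_left i hb; omega⟩⟩
      exact smul_left_injective F (one_ne_zero (α := Module.End F (Fin n → F)))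
        (by simpa using hTr)
    have h0 : z ≠ 0 := by intro h0; rw [h0, zero_pow hr.out.ne_zero] at hzr; exact zero_ne_one hzr
    have hord : orderOf (Units.mk0 z h0) = r := orderOf_eq_prime (Units.ext (by simpa using hzr))
      (fun h => hz1 (by simpa using congrArg Units.val h))
    have : r ∣ Fintype.card F - 1 := by
      rw [← hord, ← Fintype.card_units]; exact orderOf_dvd_card
    have := order_eq_one_iff.2 this
    omega

/-- An element of determinant one with the smallest possible fixed space. -/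
theorem exists_order_element (hrq : ((Fintype.card F : ℕ) : ZMod r) ≠ 0)
    (hi : 2 ≤ orderOf ((Fintype.card F : ℕ) : ZMod r)) {n : ℕ}
    (hn : orderOf ((Fintype.card F : ℕ) : ZMod r) ≤ n) :
    ∃ x : Matrix.SpecialLinearGroup (Fin n) F,
      (Matrix.toLin' (x : Matrix (Fin n) (Fin n) F) : Module.End F (Fin n → F)) ^ r = 1 ∧
      ((x ^ r : Matrix.SpecialLinearGroup (Fin n) F) : Matrix (Fin n) (Fin n) F) =
        (1 : F) • (1 : Matrix (Fin n) (Fin n) F) ∧
      finrank F (LinearMap.ker ((Matrix.toLin' (x : Matrix (Fin n) (Fin n) F) :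
        Module.End F (Fin n → F)) - 1)) = n % orderOf ((Fintype.card F : ℕ) : ZMod r) ∧
      ∀ z : F, (x : Matrix (Fin n) (Fin n) F) ≠ z • (1 : Matrix (Fin n) (Fin n) F) := by
  have hpos : 0 < orderOf ((Fintype.card F : ℕ) : ZMod r) := by omega
  obtain ⟨x, h1, h2, h3, h4⟩ := exists_order_element_of (F := F) (r := r) hrq hi
    (n / orderOf ((Fintype.card F : ℕ) : ZMod r)) (Nat.div_pos hn hpos) (Nat.div_mul_le_self _ _)
  exact ⟨x, h1, h2, by
    rw [h3]; have := Nat.div_add_mod n (orderOf ((Fintype.card F : ℕ) : ZMod r))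
    rw [mul_comm]; omega, h4⟩

end H46.Elusive
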