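import Cfsg.Agent.H46.ElusiveLin

/-!
# Elements of prime projective order: determinants, examples, and the number of subspaces
-/

set_option autoImplicit false

open Polynomial Module

namespace H46.Elusive

variable {F : Type*} [Field F]

/-- Block map: multiplication by `α` on `k` copies of `K` and the identity on `e` more coordinates. -/
theorem exists_block {K : Type*} [Field K] [Algebra F K] [FiniteDimensional F K] (α : K) (hα : α ≠ 1)
    (k e n : ℕ) (hn : k * finrank F K + e = n) :
    ∃ T : Module.End F (Fin n → F), LinearMap.det T = Algebra.norm F α ^ k ∧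
      finrank F (LinearMap.ker (T - 1)) = e ∧
      ∀ (r : ℕ) (c : F), α ^ r = algebraMap F K c → (e = 0 ∨ c = 1) → T ^ r = c • 1 := by
  let A : Module.End F (Fin k → K) :=
    ((α • LinearMap.id : (Fin k → K) →ₗ[K] (Fin k → K))).restrictScalars F
  let B : Module.End F ((Fin k → K) × (Fin e → F)) := LinearMap.prodMap A LinearMap.id
  have hdim : finrank F ((Fin k → K) × (Fin e → F)) = finrank F (Fin n → F) := by
    rw [Module.finrank_prod, Module.finrank_pi_fintype]
    simp [← hn]
  let E := LinearEquiv.ofFinrankEq ((Fin k → K) × (Fin e → F)) (Fin n → F) hdim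
  have hA : ∀ f, A f = α • f := fun f => rfl
  have hAj : ∀ (j : ℕ) f, (A ^ j) f = α ^ j • f := by
    intro j
    induction j with
    | zero => intro f; simp
    | succ j ih => intro f; rw [pow_succ', Module.End.mul_apply, ih, hA, smul_smul, ← pow_succ']
  refine ⟨E.toLinearMap.comp (B.comp E.symm.toLinearMap), ?_, ?_, ?_⟩
  · rw [LinearMap.det_conj, LinearMap.det_prodMap, LinearMap.det_id, mul_one]
    show LinearMap.det (((α • LinearMap.id : (Fin k → K) →ₗ[K] (Fin k → K))).restrictScalars F) = _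
    rw [LinearMap.det_restrictScalars, LinearMap.det_smul, LinearMap.det_id, mul_one,
      Module.finrank_fin_fun, map_pow]
  · have hker : LinearMap.ker ((E.toLinearMap.comp (B.comp E.symm.toLinearMap) : Module.End F _) - 1) =
        (LinearMap.range (LinearMap.inr F (Fin k → K) (Fin e → F))).map E.toLinearMap := by
      ext v
      obtain ⟨⟨f, g⟩, rfl⟩ := E.surjective v
      simp only [LinearMap.mem_ker, LinearMap.sub_apply, Module.End.one_apply, sub_eq_zero,
        LinearMap.comp_apply, LinearEquiv.coe_coe, LinearEquiv.symm_apply_apply, EmbeddingLike.apply_eq_iff_eq,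
        Submodule.mem_map, LinearMap.mem_range, LinearMap.inr_apply, exists_exists_eq_and]
      constructor
      · intro h
        have h1 : α • f = f := congrArg Prod.fst h
        have h2 : (α - 1) • f = 0 := by rw [sub_smul, one_smul, h1, sub_self]
        refine ⟨g, ?_⟩
        rw [(smul_eq_zero.1 h2).resolve_left (sub_ne_zero.2 hα)]
      · rintro ⟨g', h⟩
        rw [← h]
        exact Prod.ext (by show α • (0 : Fin k → K) = 0; simp) rfl
    rw [hker, LinearEquiv.finrank_map_eq, LinearMap.finrank_range_of_inj LinearMap.inr_injective,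
      Module.finrank_fin_fun]
  · intro r c hr hec
    have hBr : ∀ j, (E.toLinearMap.comp (B.comp E.symm.toLinearMap) : Module.End F _) ^ j =
        E.toLinearMap.comp ((LinearMap.prodMap (A ^ j) LinearMap.id).comp E.symm.toLinearMap) := by
      intro j
      induction j with
      | zero => exact LinearMap.ext fun v => by simp
      | succ j ih =>
        rw [pow_succ', ih]
        exact LinearMap.ext fun v => by simp [B, pow_succ']
    rw [hBr]
    refine LinearMap.ext fun v => ?_
    obtain ⟨⟨f, g⟩, rfl⟩ := E.surjective v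
    simp only [LinearMap.comp_apply, LinearEquiv.coe_coe, LinearEquiv.symm_apply_apply,
      LinearMap.smul_apply, Module.End.one_apply]
    rw [← map_smul]
    refine congrArg E (Prod.ext ?_ ?_)
    · show (A ^ r) f = c • f
      rw [hAj, hr, algebraMap_smul]
    · show g = c • g
      rcases hec with rfl | rfl
      · exact Subsingleton.elim _ _
      · rw [one_smul]

/-- From a linear map with determinant one to the special linear group. -/
theorem exists_sl {n r : ℕ} (T : Module.End F (Fin n → F)) (hdet : LinearMap.det T = 1) {c : F}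
    (hT : T ^ r = c • 1) :
    ∃ x : Matrix.SpecialLinearGroup (Fin n) F,
      Matrix.toLin' (x : Matrix (Fin n) (Fin n) F) = T ∧
      ((x ^ r : Matrix.SpecialLinearGroup (Fin n) F) : Matrix (Fin n) (Fin n) F) =
        c • (1 : Matrix (Fin n) (Fin n) F) := by
  let x : Matrix.SpecialLinearGroup (Fin n) F :=
    ⟨LinearMap.toMatrix' T, by rw [LinearMap.det_toMatrix', hdet]⟩
  refine ⟨x, Matrix.toLin'_toMatrix' T, ?_⟩
  rw [Matrix.SpecialLinearGroup.coe_pow]
  show (LinearMap.toMatrix' T) ^ r = _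
  apply Matrix.toLinAlgEquiv'.injective
  rw [map_pow, map_smul, map_one]
  show (Matrix.toLin' (LinearMap.toMatrix' T)) ^ r = _
  rw [Matrix.toLin'_toMatrix', hT]

/-- The linear map of a matrix with scalar power. -/
theorem toLin'_pow_eq {n r : ℕ} (x : Matrix.SpecialLinearGroup (Fin n) F) {c : F}
    (hx : ((x ^ r : Matrix.SpecialLinearGroup (Fin n) F) : Matrix (Fin n) (Fin n) F) =
      c • (1 : Matrix (Fin n) (Fin n) F)) :
    (Matrix.toLin' (x : Matrix (Fin n) (Fin n) F) : Module.End F (Fin n → F)) ^ r = c • 1 := by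
  show (Matrix.toLinAlgEquiv' (x : Matrix (Fin n) (Fin n) F)) ^ r = _
  rw [← map_pow, ← Matrix.SpecialLinearGroup.coe_pow, hx, map_smul, map_one]

/-- A root of `X ^ r - c` has norm `(-1) ^ (r + 1) * c`. -/
theorem norm_root {r : ℕ} [hr : Fact r.Prime] {c : F} [Fact (Irreducible (X ^ r - C c : F[X]))] :
    Algebra.norm F (AdjoinRoot.root (X ^ r - C c)) = (-1) ^ (r + 1) * c := by
  have hne := X_pow_sub_C_ne_zero hr.out.pos c
  have h := Algebra.PowerBasis.norm_gen_eq_coeff_zero_minpoly (AdjoinRoot.powerBasis hne)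
  rw [AdjoinRoot.powerBasis_gen, AdjoinRoot.powerBasis_dim, natDegree_X_pow_sub_C,
    AdjoinRoot.minpoly_root hne, (monic_X_pow_sub_C c hr.out.ne_zero).leadingCoeff, inv_one, map_one,
    mul_one, coeff_sub, coeff_X_pow, if_neg hr.out.ne_zero.symm, coeff_C_zero, zero_sub] at h
  rw [h, pow_succ]
  ring

/-- If `T ^ r = c` with `c` not an `r`-th power then `r` divides the dimension and the determinant is
forced. -/
theorem det_of_nonpower {V : Type*} [AddCommGroup V] [Module F V] [FiniteDimensional F V] {r : ℕ}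
    [hr : Fact r.Prime] {c : F} (hc : ∀ b : F, b ^ r ≠ c) {T : Module.End F V} (hT : T ^ r = c • 1) :
    ∃ k, finrank F V = r * k ∧ LinearMap.det T = ((-1) ^ (r + 1) * c) ^ k := by
  haveI : Fact (Irreducible (X ^ r - C c : F[X])) := ⟨X_pow_sub_C_irreducible_of_prime hr.out hc⟩
  have hne := X_pow_sub_C_ne_zero hr.out.pos c
  haveI : Module.Finite F (AdjoinRoot (X ^ r - C c : F[X])) := (AdjoinRoot.powerBasis hne).finite
  let φ : AdjoinRoot (X ^ r - C c : F[X]) →ₐ[F] Module.End F V :=
    Ideal.Quotient.liftₐ _ (aeval T) (fun a ha => by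
      obtain ⟨b, rfl⟩ := Ideal.mem_span_singleton.1 ha
      rw [map_mul, aeval_X_pow_sub hT, zero_mul])
  have hφ : φ (AdjoinRoot.root _) = T := (Ideal.Quotient.lift_mk _ _ _).trans (aeval_X T)
  letI : Module (AdjoinRoot (X ^ r - C c : F[X])) V := Module.compHom V φ.toRingHom
  haveI : IsScalarTower F (AdjoinRoot (X ^ r - C c : F[X])) V := ⟨fun a y v => by
    show (φ (a • y)) v = a • (φ y) v
    rw [map_smul]; rfl⟩
  haveI : Module.Finite (AdjoinRoot (X ^ r - C c : F[X])) V :=
    Module.Finite.of_restrictScalars_finite F _ _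
  refine ⟨finrank (AdjoinRoot (X ^ r - C c : F[X])) V, ?_, ?_⟩
  · rw [← Module.finrank_mul_finrank F (AdjoinRoot (X ^ r - C c : F[X])) V,
      (AdjoinRoot.powerBasis hne).finrank, AdjoinRoot.powerBasis_dim, natDegree_X_pow_sub_C]
  · have hTeq : T = ((AdjoinRoot.root (X ^ r - C c) • LinearMap.id :
        V →ₗ[AdjoinRoot (X ^ r - C c : F[X])] V)).restrictScalars F := by
      refine LinearMap.ext fun v => ?_
      show T v = φ (AdjoinRoot.root _) v
      rw [hφ]
    rw [hTeq, LinearMap.det_restrictScalars, LinearMap.det_smul, LinearMap.det_id, mul_one, map_pow,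
      norm_root]

/-- A nonpower with a given `r`-adic order condition has nontrivial `k`-th power. -/
theorem pow_ne_one_of_nonpower [Fintype F] {r : ℕ} [hr : Fact r.Prime] (hrq : r ∣ Fintype.card F - 1)
    {d : F} (hd0 : d ≠ 0) (hd : ∀ b : F, b ^ r ≠ d) {k : ℕ} (hk0 : k ≠ 0)
    (hk : padicValNat r k < padicValNat r (Fintype.card F - 1)) : d ^ k ≠ 1 := by
  intro h
  obtain ⟨m, hm⟩ := hrq
  classical
  have hcard : Fintype.card Fˣ = Fintype.card F - 1 := Fintype.card_units F
  set u : Fˣ := Units.mk0 d hd0 with hu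
  have hu1 : u ^ Nat.gcd k (Fintype.card F - 1) = 1 := by
    refine pow_gcd_eq_one.2 ⟨Units.ext (by simpa [hu] using h), ?_⟩
    rw [← hcard]; exact pow_card_eq_one
  obtain ⟨j, hj⟩ := Nat.gcd_dvd_right k (Fintype.card F - 1)
  have hgm : Nat.gcd k (Fintype.card F - 1) ∣ m := by
    by_cases hrj : r ∣ j
    · obtain ⟨j', rfl⟩ := hrj
      refine ⟨j', ?_⟩
      have e : r * m = r * (Nat.gcd k (Fintype.card F - 1) * j') := by
        rw [← hm]; conv_lhs => rw [hj]
        ring
      exact Nat.eq_of_mul_eq_mul_left hr.out.pos e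
    · exfalso
      have h1 : r ^ padicValNat r (Fintype.card F - 1) ∣ Nat.gcd k (Fintype.card F - 1) * j := by
        rw [← hj]; exact pow_padicValNat_dvd
      have h2 : r ^ padicValNat r (Fintype.card F - 1) ∣ k :=
        (((hr.out.coprime_iff_not_dvd.2 hrj).pow_left _).dvd_of_dvd_mul_right h1).trans (Nat.gcd_dvd_left _ _)
      rw [padicValNat_dvd_iff_le hk0] at h2
      omega
  obtain ⟨g, hg⟩ := IsCyclic.exists_generator (α := Fˣ)
  obtain ⟨i, hi⟩ := Subgroup.mem_zpowers_iff.1 (hg u)
  have hum : u ^ m = 1 := by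
    obtain ⟨w, hw⟩ := hgm
    rw [hw, pow_mul, hu1, one_pow]
  have hord : orderOf g = Fintype.card F - 1 := by
    rw [orderOf_eq_card_of_forall_mem_zpowers hg, Nat.card_eq_fintype_card, hcard]
  rw [← hi, ← zpow_natCast, ← zpow_mul, ← orderOf_dvd_iff_zpow_eq_one, hord, hm] at hum
  have hmne : (m : ℤ) ≠ 0 := by
    have := Fintype.one_lt_card (α := F)
    intro h0
    have : m = 0 := by exact_mod_cast h0
    subst this
    rw [mul_zero] at hm
    omega
  push_cast at hum
  obtain ⟨i', rfl⟩ : (r : ℤ) ∣ i := (mul_dvd_mul_iff_right hmne).1 hum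
  refine hd ((g ^ i' : Fˣ) : F) ?_
  have e2 : u = (g ^ i') ^ r := by rw [← hi, mul_comm, zpow_mul, zpow_natCast]
  have e3 := congrArg Units.val e2
  rw [hu, Units.val_mk0, Units.val_pow_eq_pow_val] at e3
  exact e3.symm

/-- A nonpower of `r`-power order. -/
theorem exists_nonpower [Fintype F] {r : ℕ} [hr : Fact r.Prime] (hrq : r ∣ Fintype.card F - 1) :
    ∃ c : F, (∀ b : F, b ^ r ≠ c) ∧ c ^ r ^ padicValNat r (Fintype.card F - 1) = 1 := by
  classical
  have hcard : Fintype.card Fˣ = Fintype.card F - 1 := Fintype.card_units F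
  have he : 1 ≤ padicValNat r (Fintype.card F - 1) :=
    one_le_padicValNat_of_dvd (by have := Fintype.one_lt_card (α := F); omega) hrq
  obtain ⟨g, hg⟩ := IsCyclic.exists_generator (α := Fˣ)
  have hord : orderOf g = Fintype.card F - 1 := by
    rw [orderOf_eq_card_of_forall_mem_zpowers hg, Nat.card_eq_fintype_card, hcard]
  obtain ⟨w, hw⟩ : r ^ padicValNat r (Fintype.card F - 1) ∣ Fintype.card F - 1 := pow_padicValNat_dvd
  have hpos : 0 < Fintype.card F - 1 := by have := Fintype.one_lt_card (α := F); omega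
  have hu : orderOf (g ^ w) = r ^ padicValNat r (Fintype.card F - 1) := by
    have hw0 : w ≠ 0 := by rintro rfl; rw [mul_zero] at hw; omega
    rw [orderOf_pow_of_dvd hw0 (by rw [hord]; exact Dvd.intro_left _ hw.symm), hord]
    conv_lhs => rw [hw]
    exact Nat.mul_div_cancel _ (Nat.pos_of_ne_zero hw0)
  refine ⟨((g ^ w : Fˣ) : F), fun b hb => ?_, ?_⟩
  · have hb0 : b ≠ 0 := fun h => (g ^ w).ne_zero (by rw [← hb, h, zero_pow hr.out.ne_zero])
    have hbu : Units.mk0 b hb0 ^ r = g ^ w := Units.ext (by simpa using hb)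
    set B := Units.mk0 b hb0
    obtain ⟨e', he'⟩ : ∃ e', padicValNat r (Fintype.card F - 1) = e' + 1 := ⟨_, (Nat.sub_add_cancel he).symm⟩
    have h1 : B ^ r ^ (e' + 2) = 1 := by
      rw [show e' + 2 = 1 + (e' + 1) by omega, pow_add, pow_one, pow_mul, hbu, ← he', ← hu,
        pow_orderOf_eq_one]
    have h2 : orderOf B ∣ r ^ (e' + 1) := by
      obtain ⟨a, ha, hBa⟩ := (Nat.dvd_prime_pow hr.out).1 (orderOf_dvd_of_pow_eq_one h1)
      rw [hBa]
      refine Nat.pow_dvd_pow _ ?_
      rw [← he']
      have : r ^ a ∣ Fintype.card F - 1 := by rw [← hBa, ← hcard]; exact orderOf_dvd_card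
      exact (padicValNat_dvd_iff_le (by omega)).1 this
    have h3 : (g ^ w) ^ r ^ e' = 1 := by
      rw [← hbu, ← pow_mul, ← pow_succ', orderOf_dvd_iff_pow_eq_one.1 h2]
    have h4 := orderOf_dvd_of_pow_eq_one h3
    rw [hu, he', Nat.pow_dvd_pow_iff_le_right hr.out.one_lt] at h4
    omega
  · rw [← Units.val_pow_eq_pow_val, ← hu, pow_orderOf_eq_one, Units.val_one]

/-- The number of `m`-dimensional subspaces times the number of bases of one of them. -/
theorem card_subspaces_mul [Fintype F] (n m : ℕ) (hm : m ≤ n) :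
    (∏ i : Fin m, (Fintype.card F ^ n - Fintype.card F ^ (i : ℕ))) =
      Nat.card {W : Submodule F (Fin n → F) // finrank F ↥W = m} *
        ∏ i : Fin m, (Fintype.card F ^ m - Fintype.card F ^ (i : ℕ)) := by
  classical
  let S := {s : Fin m → (Fin n → F) // LinearIndependent F s}
  let W' := {W : Submodule F (Fin n → F) // finrank F ↥W = m}
  let f : (Σ W : W', {s : Fin m → W.1 // LinearIndependent F s}) → S := fun p =>
    ⟨fun i => (p.2.1 i : Fin n → F), p.2.2.map' (Submodule.subtype _) (Submodule.ker_subtype _)⟩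
  have hspan : ∀ p, Submodule.span F (Set.range (f p).1) = p.1.1 := by
    intro p
    refine Submodule.eq_of_le_of_finrank_eq (Submodule.span_le.2 ?_) ?_
    · rintro _ ⟨i, rfl⟩; exact (p.2.1 i).2
    · rw [finrank_span_eq_card (f p).2, Fintype.card_fin, p.1.2]
  have hbij : Function.Bijective f := by
    constructor
    · rintro ⟨W₁, s₁⟩ ⟨W₂, s₂⟩ h
      have hW : W₁.1 = W₂.1 := by rw [← hspan ⟨W₁, s₁⟩, ← hspan ⟨W₂, s₂⟩, h]
      obtain rfl : W₁ = W₂ := Subtype.ext hW
      have h' : ∀ i, ((s₁.1 i : W₁.1) : Fin n → F) = s₂.1 i := fun i => congrFun (congrArg Subtype.val h) i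
      rw [show s₁ = s₂ from Subtype.ext (funext fun i => Subtype.ext (h' i))]
    · intro s
      refine ⟨⟨⟨Submodule.span F (Set.range s.1), by rw [finrank_span_eq_card s.2, Fintype.card_fin]⟩,
        ⟨fun i => ⟨s.1 i, Submodule.subset_span ⟨i, rfl⟩⟩,
          LinearIndependent.of_comp (Submodule.subtype _) s.2⟩⟩, rfl⟩
  let e := (Equiv.ofBijective f hbij).symm
  have h1 : Nat.card S = ∏ i : Fin m, (Fintype.card F ^ n - Fintype.card F ^ (i : ℕ)) := by
    rw [card_linearIndependent (by rw [Module.finrank_fin_fun]; exact hm), Module.finrank_fin_fun]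
  rw [← h1, Nat.card_congr e, Nat.card_sigma]
  rw [Finset.sum_congr rfl (fun W _ => by
    rw [card_linearIndependent (W.2.ge), W.2]
    : ∀ W ∈ (Finset.univ : Finset W'), Nat.card {s : Fin m → W.1 // LinearIndependent F s} =
      ∏ i : Fin m, (Fintype.card F ^ m - Fintype.card F ^ (i : ℕ)))]
  rw [Finset.sum_const, smul_eq_mul, Finset.card_univ, Fintype.card_eq_nat_card]

/-- A prime dividing the number of `m`-subspaces divides some `q ^ (n - j) - 1`, `j < m`. -/
theorem order_dvd_of_dvd_count [Fintype F] {p : ℕ} [Fact p.Prime] [CharP F p] {n m r : ℕ}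
    (hm : m ≤ n) [hr : Fact r.Prime]
    (hdvd : r ∣ Nat.card {W : Submodule F (Fin n → F) // finrank F ↥W = m}) :
    r ≠ p ∧ ((Fintype.card F : ℕ) : ZMod r) ≠ 0 ∧
      ∃ j < m, orderOf ((Fintype.card F : ℕ) : ZMod r) ∣ n - j := by
  have h := card_subspaces_mul (F := F) n m hm
  have hsplit : ∀ N, m ≤ N → (∏ i : Fin m, (Fintype.card F ^ N - Fintype.card F ^ (i : ℕ))) =
      (∏ i : Fin m, Fintype.card F ^ (i : ℕ)) * ∏ i : Fin m, (Fintype.card F ^ (N - i) - 1) := by
    intro N hN
    rw [← Finset.prod_mul_distrib]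
    refine Finset.prod_congr rfl fun i _ => ?_
    rw [Nat.mul_sub, mul_one, ← pow_add, Nat.add_sub_cancel' (by omega)]
  rw [hsplit n hm, hsplit m le_rfl, mul_left_comm] at h
  have h' := Nat.eq_of_mul_eq_mul_left
    (Finset.prod_pos fun i _ => pow_pos Fintype.card_pos _) h
  have hd : r ∣ ∏ i : Fin m, (Fintype.card F ^ (n - i) - 1) := h' ▸ Dvd.dvd.mul_right hdvd _
  obtain ⟨i, -, hi⟩ := (hr.out.prime.dvd_finset_prod_iff _).1 hd
  have h1 : 1 ≤ Fintype.card F ^ (n - i) := Nat.one_le_pow _ _ Fintype.card_pos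
  have hq1 : ((Fintype.card F : ℕ) : ZMod r) ^ (n - (i : ℕ)) = 1 := by
    rw [← ZMod.natCast_eq_zero_iff] at hi
    rw [Nat.cast_sub h1, sub_eq_zero] at hi
    simpa using hi
  have hne : ((Fintype.card F : ℕ) : ZMod r) ≠ 0 := by
    intro h0
    rw [h0, zero_pow (by omega)] at hq1
    exact zero_ne_one hq1
  refine ⟨?_, hne, i, i.2, orderOf_dvd_of_pow_eq_one hq1⟩
  rintro rfl
  refine hne ?_
  obtain ⟨k, -, hk⟩ := FiniteField.card F r
  rw [hk, Nat.cast_pow, ZMod.natCast_self, zero_pow k.pos.ne']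

end H46.Elusive
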