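import Cfsg.Agent.H46.ElusiveCases
import Cfsg.Prelude.Def_GeometricClasses

/-!
# Elements of odd prime order permuting the summands of a decomposition
-/

set_option autoImplicit false

open Polynomial Module

namespace H46.Elusive

variable {F : Type*} [Field F] {V : Type*} [AddCommGroup V] [Module F V] [FiniteDimensional F V]

/-- Dimensions of subspaces of independent subspaces add up. -/
theorem sum_finrank_le {t : ℕ} {D E : Fin t → Submodule F V} (h : iSupIndep D) (hE : ∀ j, E j ≤ D j)
    (K : Submodule F V) (hK : ∀ j, E j ≤ K) : ∑ j, finrank F (E j) ≤ finrank F K := by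
  classical
  have key : ∀ s : Finset (Fin t), ∑ j ∈ s, finrank F (E j) ≤ finrank F ↥(s.sup E) := by
    intro s
    induction s using Finset.induction with
    | empty => simp
    | @insert j s hj ih =>
      have hdis : E j ⊓ s.sup E = ⊥ := by
        refine le_bot_iff.1 ((inf_le_inf (hE j) ?_).trans (h j).eq_bot.le)
        exact Finset.sup_le fun i hi =>
          (hE i).trans (le_iSup₂_of_le (f := fun k (_ : k ≠ j) => D k) i (fun e => hj (e ▸ hi)) le_rfl)
      have e := Submodule.finrank_sup_add_finrank_inf_eq (E j) (s.sup E)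
      rw [hdis, finrank_bot, add_zero] at e
      rw [Finset.sum_insert hj, Finset.sup_insert, e]
      omega
  exact (key Finset.univ).trans (Submodule.finrank_mono (Finset.sup_le fun j _ => hK j))

/-- Repeated splitting of a semisimple map into invariant pieces of the same dimension. -/
theorem exists_split {T : Module.End F V} (hss : T.IsSemisimple) (a : ℕ) : ∀ t : ℕ,
    ∀ C : Submodule F V, C.map T ≤ C → finrank F C = a * t →
    (∀ C' : Submodule F V, C' ≤ C → C'.map T ≤ C' → ∀ t', 1 ≤ t' → t' ≤ t → finrank F C' = a * t' →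
      ∃ W, W ≤ C' ∧ W.map T ≤ W ∧ finrank F W = a) →
    ∃ D : Fin t → Submodule F V, (∀ j, (D j).map T ≤ D j ∧ finrank F (D j) = a) ∧
      iSupIndep D ∧ iSup D = C := by
  intro t
  induction t with
  | zero =>
    intro C _ hd _
    refine ⟨fun j => j.elim0, fun j => j.elim0, fun j => j.elim0, ?_⟩
    rw [iSup_of_empty]
    exact (Submodule.finrank_eq_zero.1 (by rw [hd, mul_zero])).symm
  | succ t ih =>
    intro C hC hd hsup
    obtain ⟨W, hWC, hW, hWd⟩ := hsup C le_rfl hC (t + 1) (by omega) le_rfl hd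
    obtain ⟨Q, hQ, hcompl⟩ := Module.End.isSemisimple_iff.1 hss W
      ((Module.End.mem_invtSubmodule T).2 (Submodule.map_le_iff_le_comap.1 hW))
    have hQ' : Q.map T ≤ Q := Submodule.map_le_iff_le_comap.2 ((Module.End.mem_invtSubmodule T).1 hQ)
    have hR : (Q ⊓ C).map T ≤ Q ⊓ C := (Submodule.map_inf_le _).trans (inf_le_inf hQ' hC)
    have hsupW : W ⊔ Q ⊓ C = C := by rw [← sup_inf_assoc_of_le Q hWC, hcompl.sup_eq_top, top_inf_eq]
    have hdisj : W ⊓ (Q ⊓ C) = ⊥ := by rw [← inf_assoc, hcompl.inf_eq_bot, bot_inf_eq]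
    have hdim := Submodule.finrank_sup_add_finrank_inf_eq W (Q ⊓ C)
    rw [hsupW, hdisj, finrank_bot, add_zero, hd, hWd, mul_add, mul_one] at hdim
    obtain ⟨D, hD, hind, hDsup⟩ := ih (Q ⊓ C) hR (by omega)
      (fun C' hC' hi t' h1 h2 hd' => hsup C' (hC'.trans inf_le_right) hi t' h1 (by omega) hd')
    obtain ⟨D', h0, hs⟩ : ∃ D' : Fin (t + 1) → Submodule F V, D' 0 = W ∧ ∀ i : Fin t, D' i.succ = D i :=
      ⟨Fin.cons W D, Fin.cons_zero _ _, fun i => Fin.cons_succ _ _ _⟩
    refine ⟨D', fun j => ?_, ?_, ?_⟩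
    · refine Fin.cases ?_ (fun i => ?_) j
      · rw [h0]; exact ⟨hW, hWd⟩
      · rw [hs]; exact hD i
    · intro j
      refine Fin.cases ?_ (fun i => ?_) j
      · rw [h0]
        refine (disjoint_iff.2 hdisj).mono_right (iSup₂_le fun k hk => ?_)
        rw [← hDsup]
        revert hk
        refine Fin.cases ?_ (fun i _ => ?_) k
        · exact fun h => absurd rfl h
        · rw [hs]; exact le_iSup D i
      · rw [hs]
        have h1 : Disjoint (D i) (⨆ k, ⨆ (_ : k ≠ i), D k) := hind i
        have hle : (⨆ k, ⨆ (_ : k ≠ i.succ), D' k) ≤ W ⊔ ⨆ k, ⨆ (_ : k ≠ i), D k := by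
          refine iSup₂_le fun k hk => ?_
          revert hk
          refine Fin.cases ?_ (fun l hl => ?_) k
          · intro _
            rw [h0]; exact le_sup_left
          · rw [hs]
            exact le_sup_of_le_right (le_iSup₂_of_le (f := fun k (_ : k ≠ i) => D k) l
              (fun e => hl (by rw [e])) le_rfl)
        refine Disjoint.mono_right (hle.trans (sup_comm _ _).le)
          (h1.disjoint_sup_right_of_disjoint_sup_left ?_)
        refine (disjoint_iff.2 hdisj).symm.mono_left (sup_le ?_ (iSup₂_le fun k _ => ?_))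
        · exact hDsup ▸ le_iSup D i
        · exact hDsup ▸ le_iSup D k
    · refine le_antisymm (iSup_le fun j => ?_) ?_
      · refine Fin.cases ?_ (fun i => ?_) j
        · rw [h0]; exact hWC
        · rw [hs]; exact ((le_iSup D i).trans hDsup.le).trans inf_le_right
      · conv_lhs => rw [← hsupW, ← hDsup]
        refine sup_le ?_ (iSup_le fun i => ?_)
        · exact le_iSup_of_le 0 h0.ge
        · exact le_iSup_of_le i.succ (hs i).ge

/-- A spanning family of `r`-cycles and fixed vectors gives a decomposition permuted by `T`. -/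
theorem decomp_of_cycles {n a t s f r : ℕ} [NeZero r] (ht : 2 ≤ t) (ha : 0 < a) (hn : n = a * t)
    (hst : t = s * r + f) (T : Module.End F (Fin n → F)) {γ : F} (hγ : γ ≠ 0) (hT : T ^ r = γ • 1)
    (w : Fin s → Fin a → (Fin n → F)) (e : Fin f → Fin a → (Fin n → F))
    (he : ∀ j u, T (e j u) = e j u)
    (hspan : ⊤ ≤ Submodule.span F ((Set.range fun x : (Fin s × Fin r) × Fin a => (T ^ (x.1.2 : ℕ)) (w x.1.1 x.2)) ∪
      Set.range fun x : Fin f × Fin a => e x.1 x.2)) :
    ∃ D : Fin t → Submodule F (Fin n → F), Cfsg.Geo.IsMDecomposition a D ∧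
      ∃ σ : Equiv.Perm (Fin t), ∀ j, (D j).map T = D (σ j) := by
  classical
  let J := (Fin s × Fin r) ⊕ Fin f
  let v : J × Fin a → (Fin n → F) := fun x =>
    Sum.elim (fun y : Fin s × Fin r => (T ^ (y.2 : ℕ)) (w y.1 x.2)) (fun j => e j x.2) x.1
  have hcard : Fintype.card (J × Fin a) = n := by
    simp only [J, Fintype.card_prod, Fintype.card_sum, Fintype.card_fin]
    rw [hn, hst, mul_comm]
  have hv : ⊤ ≤ Submodule.span F (Set.range v) := by
    refine hspan.trans (Submodule.span_mono ?_)
    rintro _ (⟨⟨y, u⟩, rfl⟩ | ⟨⟨j, u⟩, rfl⟩)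
    · exact ⟨(Sum.inl y, u), rfl⟩
    · exact ⟨(Sum.inr j, u), rfl⟩
  have hli : LinearIndependent F v :=
    linearIndependent_of_top_le_span_of_card_eq_finrank hv (by rw [hcard, Module.finrank_fin_fun])
  let blk : J → Submodule F (Fin n → F) := fun j => Submodule.span F (v '' {x | x.1 = j})
  have hblk : ∀ j, finrank F (blk j) = a := by
    intro j
    show finrank F (Submodule.span F (v '' {x | x.1 = j})) = a
    rw [Set.image_eq_range]
    show finrank F (Submodule.span F (Set.range (v ∘ Subtype.val))) = a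
    rw [finrank_span_eq_card (hli.comp Subtype.val Subtype.val_injective)]
    rw [← Nat.card_eq_fintype_card, Nat.card_congr (
      { toFun := fun x => x.1.2, invFun := fun u => ⟨(j, u), rfl⟩,
        left_inv := fun x => by obtain ⟨⟨j', u⟩, h⟩ := x; cases h; rfl
        right_inv := fun u => rfl } : {x : J × Fin a // x ∈ {x | x.1 = j}} ≃ Fin a), Nat.card_fin]
  let π : Equiv.Perm J := Equiv.sumCongr (Equiv.prodCongr (Equiv.refl _) (Equiv.addRight 1)) (Equiv.refl _)
  have hinj : Function.Injective T := by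
    intro x y hxy
    have h1 : (T ^ r) x = (T ^ r) y := by
      rw [← Nat.succ_pred_eq_of_ne_zero (NeZero.ne r), pow_succ, Module.End.mul_apply,
        Module.End.mul_apply, hxy]
    rw [hT] at h1
    exact smul_right_injective _ hγ h1
  have hmap : ∀ j, (blk j).map T = blk (π j) := by
    intro j
    refine Submodule.eq_of_le_of_finrank_eq ?_ ?_
    · rw [Submodule.map_span, Submodule.span_le]
      rintro _ ⟨_, ⟨⟨j', u⟩, hj, rfl⟩, rfl⟩
      obtain rfl : j' = j := hj
      rcases j' with ⟨i, l⟩ | k
      · show T ((T ^ (l : ℕ)) (w i u)) ∈ blk (Sum.inl (i, l + 1))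
        rw [← Module.End.mul_apply, ← pow_succ']
        have hval : ((l + 1 : Fin r) : ℕ) = ((l : ℕ) + 1) % r := by
          rw [Fin.val_add, Fin.val_one', Nat.add_mod_mod]
        by_cases hl : (l : ℕ) + 1 < r
        · refine Submodule.subset_span ⟨(Sum.inl (i, l + 1), u), rfl, ?_⟩
          show (T ^ ((l + 1 : Fin r) : ℕ)) (w i u) = _
          rw [hval, Nat.mod_eq_of_lt hl]
        · have hlr : (l : ℕ) + 1 = r := by omega
          have h0 : v (Sum.inl (i, l + 1), u) ∈ blk (Sum.inl (i, l + 1)) :=
            Submodule.subset_span ⟨_, rfl, rfl⟩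
          have h1 : v (Sum.inl (i, l + 1), u) = w i u := by
            show (T ^ ((l + 1 : Fin r) : ℕ)) (w i u) = _
            rw [hval, hlr, Nat.mod_self, pow_zero, Module.End.one_apply]
          rw [hlr, hT, LinearMap.smul_apply, Module.End.one_apply]
          exact Submodule.smul_mem _ _ (h1 ▸ h0)
      · show T (e k u) ∈ blk (Sum.inr k)
        rw [he]
        exact Submodule.subset_span ⟨(Sum.inr k, u), rfl, rfl⟩
    · rw [← (Submodule.equivMapOfInjective T hinj (blk j)).finrank_eq, hblk, hblk]
  have hJ : Fintype.card J = t := by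
    simp only [J, Fintype.card_prod, Fintype.card_sum, Fintype.card_fin, hst]
  let eJ : Fin t ≃ J := (Fintype.equivFinOfCardEq hJ).symm
  have hind : iSupIndep blk := by
    intro j
    refine (hli.disjoint_span_image (s := {x | x.1 = j}) (t := {x | x.1 ≠ j})
      (Set.disjoint_left.2 fun x h h' => h' h)).mono le_rfl (iSup₂_le fun k hk => ?_)
    exact Submodule.span_mono (Set.image_mono fun x hx => by
      show x.1 ≠ j
      rw [show x.1 = k from hx]; exact hk)
  refine ⟨blk ∘ eJ, ⟨ht, ha, fun j => hblk _, hind.comp eJ.injective, ?_⟩,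
    (eJ.trans π).trans eJ.symm, fun j => ?_⟩
  · rw [eq_top_iff]
    refine hv.trans (Submodule.span_le.2 ?_)
    rintro _ ⟨x, rfl⟩
    refine Submodule.mem_iSup_of_mem (eJ.symm x.1) ?_
    show v x ∈ blk (eJ (eJ.symm x.1))
    rw [Equiv.apply_symm_apply]
    exact Submodule.subset_span ⟨x, rfl, rfl⟩
  · show (blk (eJ j)).map T = blk (eJ (eJ.symm (π (eJ j))))
    rw [Equiv.apply_symm_apply]
    exact hmap _

/-- A decomposition with all summands invariant. -/
theorem decomp_of_split {n a t : ℕ} (ht : 2 ≤ t) (ha : 0 < a) (T : Module.End F (Fin n → F))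
    (hinj : Function.Injective T)
    (h : ∃ D : Fin t → Submodule F (Fin n → F), (∀ j, (D j).map T ≤ D j ∧ finrank F (D j) = a) ∧
      iSupIndep D ∧ iSup D = ⊤) :
    ∃ D : Fin t → Submodule F (Fin n → F), Cfsg.Geo.IsMDecomposition a D ∧
      ∃ σ : Equiv.Perm (Fin t), ∀ j, (D j).map T = D (σ j) := by
  obtain ⟨D, hD, hind, htop⟩ := h
  refine ⟨D, ⟨ht, ha, fun j => (hD j).2, hind, htop⟩, 1, fun j => ?_⟩
  exact Submodule.eq_of_le_of_finrank_eq (hD j).1 (Submodule.equivMapOfInjective T hinj (D j)).finrank_eq.symm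

/-- Facts about a permuted decomposition. -/
theorem perm_decomp_facts {a t r : ℕ} [hr : Fact r.Prime] (hr0 : (r : F) ≠ 0) (ha : 0 < a)
    (D : Fin t → Submodule F V) (hdim : ∀ j, finrank F (D j) = a) (hind : iSupIndep D)
    (T : Module.End F V) (hT : T ^ r = 1) (σ : Equiv.Perm (Fin t))
    (hmap : ∀ j, (D j).map T = D (σ j)) :
    (∀ j, σ j ≠ j → a ≤ finrank F (LinearMap.ker (T - 1)) ∧
      a * (r - 1) ≤ finrank F (LinearMap.range (T - 1))) ∧
    ((∀ j, σ j = j → D j ≤ LinearMap.ker (T - 1)) → a * t ≤ r * finrank F (LinearMap.ker (T - 1))) := by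
  classical
  have hl : ∀ (l : ℕ) j, ∀ v ∈ D j, (T ^ l) v ∈ D ((σ ^ l) j) := by
    intro l
    induction l with
    | zero => intro j v hv; simpa using hv
    | succ l ih =>
      intro j v hv
      rw [pow_succ' σ, pow_succ' T, Module.End.mul_apply, Equiv.Perm.mul_apply, ← hmap]
      exact ⟨_, ih j v hv, rfl⟩
  have hDne : ∀ j, D j ≠ ⊥ := fun j h => by
    have := hdim j; rw [h, finrank_bot] at this; omega
  have hσr : ∀ j, (σ ^ r) j = j := by
    intro j
    by_contra hne
    refine hDne j (eq_bot_iff.2 fun v hv => ?_)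
    have h1 := hl r j v hv
    rw [hT, Module.End.one_apply] at h1
    exact Submodule.disjoint_def.1 (hind.pairwiseDisjoint hne) v h1 hv
  have hσ : σ ^ r = 1 := Equiv.ext hσr
  -- orbits of moved summands have length `r`
  have horb : ∀ j, σ j ≠ j → ∀ l l', l < r → l' < r → (σ ^ l) j = (σ ^ l') j → l = l' := by
    intro j hj l l' hl hl' h
    by_contra hne
    wlog hlt : l < l' generalizing l l'
    · exact this l' l hl' hl h.symm (Ne.symm hne) (by omega)
    have h1 : (σ ^ (l' - l)) j = j := by
      apply (σ ^ l).injective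
      rw [← Equiv.Perm.mul_apply, ← pow_add, Nat.add_sub_cancel' hlt.le, h]
    have h2 : MulAction.period σ j ∣ Nat.gcd (l' - l) r :=
      Nat.dvd_gcd (MulAction.pow_smul_eq_iff_period_dvd.1 h1) (MulAction.pow_smul_eq_iff_period_dvd.1 (hσr j))
    rw [Nat.coprime_iff_gcd_eq_one.1 (hr.out.coprime_iff_not_dvd.2 (fun hd =>
      absurd (Nat.le_of_dvd (by omega) hd) (by omega))).symm, Nat.dvd_one] at h2
    have h3 : σ ^ 1 • j = j := MulAction.pow_smul_eq_iff_period_dvd.2 (by rw [h2])
    rw [pow_one] at h3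
    exact hj h3
  -- components of a sum over an orbit
  have hcomp : ∀ j, σ j ≠ j → ∀ v ∈ D j, ∀ c : ℕ → F,
      ∑ l ∈ Finset.range r, c l • (T ^ l) v = 0 → v = 0 ∨ ∀ l < r, c l = 0 := by
    intro j hj v hv c hsum
    refine or_iff_not_imp_left.2 fun hv0 l hlr => ?_
    by_contra hc
    have h1 : c l • (T ^ l) v ∈ ⨆ k, ⨆ (_ : k ≠ (σ ^ l) j), D k := by
      rw [← Finset.add_sum_erase _ _ (Finset.mem_range.2 hlr)] at hsum
      rw [eq_neg_of_add_eq_zero_left hsum]
      refine Submodule.neg_mem _ (Submodule.sum_mem _ fun l' hl' => Submodule.smul_mem _ _ ?_)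
      rw [Finset.mem_erase, Finset.mem_range] at hl'
      exact Submodule.mem_iSup_of_mem ((σ ^ l') j)
        (Submodule.mem_iSup_of_mem (fun e => hl'.1 (horb j hj l' l hl'.2 hlr e)) (hl l' j v hv))
    have h2 := Submodule.disjoint_def.1 (hind ((σ ^ l) j)) _ (Submodule.smul_mem _ _ (hl l j v hv)) h1
    rw [smul_eq_zero] at h2
    refine hv0 ?_
    have h3 : (T ^ (r - l)) ((T ^ l) v) = 0 := by rw [h2.resolve_left hc, map_zero]
    rwa [← Module.End.mul_apply, ← pow_add, Nat.sub_add_cancel hlr.le, hT, Module.End.one_apply] at h3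
  let avg : Module.End F V := ∑ l ∈ Finset.range r, T ^ l
  have havgK : ∀ v, avg v ∈ LinearMap.ker (T - 1) := by
    intro v
    have : (T - 1) * avg = 0 := by rw [mul_geom_sum, hT, sub_self]
    rw [LinearMap.mem_ker, ← Module.End.mul_apply, this, LinearMap.zero_apply]
  refine ⟨fun j hj => ⟨?_, ?_⟩, fun hfix => ?_⟩
  · let φ : D j →ₗ[F] LinearMap.ker (T - 1) := (avg.comp (D j).subtype).codRestrict _ (fun v => havgK _)
    have hφ : Function.Injective φ := by
      rw [← LinearMap.ker_eq_bot, LinearMap.ker_eq_bot']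
      intro v hv
      have h1 : avg (v : V) = 0 := congrArg Subtype.val hv
      rw [LinearMap.sum_apply] at h1
      rcases hcomp j hj v v.2 (fun _ => 1) (by simpa using h1) with h | h
      · exact Subtype.ext h
      · exact absurd (h 0 hr.out.pos) one_ne_zero
    have := LinearMap.finrank_le_finrank_of_injective hφ
    rwa [hdim] at this
  · -- `T - 1` is injective on the first `r - 1` summands of the orbit
    let φ : (Fin (r - 1) → D j) →ₗ[F] LinearMap.range (T - 1) :=
      (((T - 1).rangeRestrict).comp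
        (LinearMap.lsum F (fun _ : Fin (r - 1) => D j) F fun l => (T ^ (l : ℕ)).comp (D j).subtype))
    have hφ : Function.Injective φ := by
      rw [← LinearMap.ker_eq_bot, LinearMap.ker_eq_bot']
      intro g hg
      have h1 : (T - 1) (∑ l : Fin (r - 1), (T ^ (l : ℕ)) (g l : V)) = 0 := by
        simpa [φ] using congrArg Subtype.val hg
      rw [LinearMap.sub_apply, Module.End.one_apply, sub_eq_zero, map_sum] at h1
      -- compare the components
      have hz : ∀ (l : ℕ) (h : l < r - 1), g ⟨l, h⟩ = 0 := by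
        intro l
        induction l with
        | zero =>
          intro h
          have hm : (T ^ 0) (g ⟨0, h⟩ : V) ∈ ⨆ k, ⨆ (_ : k ≠ (σ ^ 0) j), D k := by
            have e := Finset.add_sum_erase (Finset.univ : Finset (Fin (r - 1)))
              (fun l => (T ^ (l : ℕ)) (g l : V)) (Finset.mem_univ ⟨0, h⟩)
            rw [← h1] at e
            rw [eq_sub_of_add_eq e]
            refine Submodule.sub_mem _ (Submodule.sum_mem _ fun l _ => ?_) (Submodule.sum_mem _ fun l hl' => ?_)
            · rw [← Module.End.mul_apply, ← pow_succ']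
              exact Submodule.mem_iSup_of_mem ((σ ^ ((l : ℕ) + 1)) j) (Submodule.mem_iSup_of_mem
                (fun e => absurd (horb j hj _ _ (by omega) hr.out.pos e) (by omega)) (hl _ j _ (g l).2))
            · rw [Finset.mem_erase] at hl'
              exact Submodule.mem_iSup_of_mem ((σ ^ (l : ℕ)) j) (Submodule.mem_iSup_of_mem
                (fun e => hl'.1 (Fin.ext (horb j hj _ _ (by omega) hr.out.pos e))) (hl _ j _ (g l).2))
          have h3 := Submodule.disjoint_def.1 (hind _) _ (hl 0 j _ (g ⟨0, h⟩).2) hm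
          exact Subtype.ext (by simpa using h3)
        | succ l ih =>
          intro h
          have hm : (T ^ (l + 1)) (g ⟨l + 1, h⟩ : V) ∈ ⨆ k, ⨆ (_ : k ≠ (σ ^ (l + 1)) j), D k := by
            have e := Finset.add_sum_erase (Finset.univ : Finset (Fin (r - 1)))
              (fun l => (T ^ (l : ℕ)) (g l : V)) (Finset.mem_univ ⟨l + 1, h⟩)
            rw [← h1] at e
            rw [eq_sub_of_add_eq e]
            refine Submodule.sub_mem _ (Submodule.sum_mem _ fun l' _ => ?_) (Submodule.sum_mem _ fun l' hl' => ?_)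
            · rw [← Module.End.mul_apply, ← pow_succ']
              by_cases hll : (l' : ℕ) = l
              · rw [show l' = ⟨l, by omega⟩ from Fin.ext hll, ih (by omega)]
                simp
              · exact Submodule.mem_iSup_of_mem ((σ ^ ((l' : ℕ) + 1)) j) (Submodule.mem_iSup_of_mem
                  (fun e => hll (by have := horb j hj _ _ (by omega) (by omega) e; omega)) (hl _ j _ (g l').2))
            · rw [Finset.mem_erase] at hl'
              exact Submodule.mem_iSup_of_mem ((σ ^ (l' : ℕ)) j) (Submodule.mem_iSup_of_mem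
                (fun e => hl'.1 (Fin.ext (horb j hj _ _ (by omega) (by omega) e))) (hl _ j _ (g l').2))
          have h3 := Submodule.disjoint_def.1 (hind _) _ (hl (l + 1) j _ (g ⟨l + 1, h⟩).2) hm
          have h4 : (T ^ (r - (l + 1))) ((T ^ (l + 1)) (g ⟨l + 1, h⟩ : V)) = 0 := by rw [h3, map_zero]
          rw [← Module.End.mul_apply, ← pow_add, Nat.sub_add_cancel (by omega), hT, Module.End.one_apply] at h4
          exact Subtype.ext h4
      exact funext fun l => hz l l.2
    have := LinearMap.finrank_le_finrank_of_injective hφ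
    rw [Module.finrank_pi_fintype, Finset.sum_const, Finset.card_univ, Fintype.card_fin, smul_eq_mul, hdim] at this
    rw [mul_comm]; exact this
  · let R : Finset (Fin t) := Finset.univ.filter fun j => ∀ l < r, j ≤ (σ ^ l) j
    have hcover : (Finset.univ : Finset (Fin t)) ⊆ R.biUnion fun j => (Finset.range r).image fun l => (σ ^ l) j := by
      intro i _
      obtain ⟨l₀, hl₀, hmin⟩ := Finset.exists_min_image (Finset.range r) (fun l => (σ ^ l) i)
        ⟨0, Finset.mem_range.2 hr.out.pos⟩
      rw [Finset.mem_range] at hl₀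
      refine Finset.mem_biUnion.2 ⟨(σ ^ l₀) i, Finset.mem_filter.2 ⟨Finset.mem_univ _, fun l hl' => ?_⟩,
        Finset.mem_image.2 ⟨(r - l₀) % r, Finset.mem_range.2 (Nat.mod_lt _ hr.out.pos), ?_⟩⟩
      · rw [← Equiv.Perm.mul_apply, ← pow_add, pow_eq_pow_mod (l + l₀) hσ]
        exact hmin _ (Finset.mem_range.2 (Nat.mod_lt _ hr.out.pos))
      · rw [← Equiv.Perm.mul_apply, ← pow_eq_pow_mod _ hσ, ← pow_add, Nat.sub_add_cancel hl₀.le, hσ,
          Equiv.Perm.one_apply]
    have htR : t ≤ r * R.card := by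
      have h1 := (Finset.card_le_card hcover).trans Finset.card_biUnion_le
      rw [Finset.card_univ, Fintype.card_fin] at h1
      refine h1.trans ((Finset.sum_le_sum fun j _ => Finset.card_image_le).trans ?_)
      rw [Finset.sum_const, Finset.card_range, smul_eq_mul, mul_comm]
    -- the averages over the orbits are independent
    let Φ : ((j : R) → D j.1) →ₗ[F] LinearMap.ker (T - 1) :=
      (LinearMap.lsum F (fun j : R => D j.1) F fun j => avg.comp (D j.1).subtype).codRestrict _
        (fun g => by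
          rw [LinearMap.lsum_apply, LinearMap.sum_apply]
          exact Submodule.sum_mem _ fun j _ => havgK _)
    have hΦ : Function.Injective Φ := by
      rw [← LinearMap.ker_eq_bot, LinearMap.ker_eq_bot']
      intro g hg
      have h1 : ∑ j : R, avg (g j : V) = 0 := by simpa [Φ] using congrArg Subtype.val hg
      funext j
      have hrest : ∀ j' : R, j' ≠ j → avg (g j' : V) ∈ ⨆ k, ⨆ (_ : k ≠ j.1), D k := by
        intro j' hne
        rw [LinearMap.sum_apply]
        refine Submodule.sum_mem _ fun l hlr => ?_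
        rw [Finset.mem_range] at hlr
        refine Submodule.mem_iSup_of_mem ((σ ^ l) j'.1) (Submodule.mem_iSup_of_mem (fun e => ?_) (hl l _ _ (g j').2))
        have ha1 := (Finset.mem_filter.1 j'.2).2 l hlr
        rw [e] at ha1
        have hb1 : j.1 ≤ j'.1 := by
          have h2 := (Finset.mem_filter.1 j.2).2 ((r - l) % r) (Nat.mod_lt _ hr.out.pos)
          rwa [← e, ← Equiv.Perm.mul_apply, ← pow_eq_pow_mod _ hσ, ← pow_add, Nat.sub_add_cancel hlr.le, hσ,
            Equiv.Perm.one_apply, e] at h2
        exact hne (Subtype.ext (le_antisymm ha1 hb1))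
      have hj0 : avg (g j : V) ∈ ⨆ k, ⨆ (_ : k ≠ j.1), D k := by
        rw [← Finset.add_sum_erase _ _ (Finset.mem_univ j)] at h1
        rw [eq_neg_of_add_eq_zero_left h1]
        exact Submodule.neg_mem _ (Submodule.sum_mem _ fun j' hj' => hrest j' (Finset.ne_of_mem_erase hj'))
      by_cases hjf : σ j.1 = j.1
      · have hfx : T (g j : V) = g j := by
          have := hfix j.1 hjf (g j).2
          rwa [LinearMap.mem_ker, LinearMap.sub_apply, Module.End.one_apply, sub_eq_zero] at this
        have hpow : ∀ l : ℕ, (T ^ l) (g j : V) = g j := by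
          intro l
          induction l with
          | zero => simp
          | succ l ih => rw [pow_succ, Module.End.mul_apply, hfx, ih]
        rw [LinearMap.sum_apply, Finset.sum_congr rfl (fun l _ => hpow l), Finset.sum_const, Finset.card_range,
          ← Nat.cast_smul_eq_nsmul F] at hj0
        have := Submodule.disjoint_def.1 (hind j.1) _ (Submodule.smul_mem _ _ (g j).2) hj0
        exact Subtype.ext ((smul_eq_zero.1 this).resolve_left hr0)
      · have hsplit := Finset.add_sum_erase (Finset.range r) (fun l => (T ^ l) (g j : V)) (Finset.mem_range.2 hr.out.pos)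
        have hj0' : (∑ l ∈ Finset.range r, T ^ l) (g j : V) ∈ ⨆ k, ⨆ (_ : k ≠ j.1), D k := hj0
        rw [LinearMap.sum_apply] at hj0'
        have hmem : (T ^ 0) (g j : V) ∈ ⨆ k, ⨆ (_ : k ≠ j.1), D k := by
          rw [eq_sub_of_add_eq hsplit]
          refine Submodule.sub_mem _ hj0' (Submodule.sum_mem _ fun l hl' => ?_)
          rw [Finset.mem_erase, Finset.mem_range] at hl'
          exact Submodule.mem_iSup_of_mem ((σ ^ l) j.1) (Submodule.mem_iSup_of_mem
            (fun e => hl'.1 (horb j.1 hjf l 0 hl'.2 hr.out.pos (by simpa using e))) (hl l _ _ (g j).2))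
        exact Subtype.ext (by simpa using Submodule.disjoint_def.1 (hind j.1) _ (g j).2 (by simpa using hmem))
    have := LinearMap.finrank_le_finrank_of_injective hΦ
    rw [Module.finrank_pi_fintype, Finset.sum_congr rfl (fun j _ => hdim j.1), Finset.sum_const,
      Finset.card_univ, Fintype.card_coe, smul_eq_mul] at this
    calc a * t ≤ a * (r * R.card) := Nat.mul_le_mul_left _ htR
      _ = r * (R.card * a) := by ring
      _ ≤ r * _ := Nat.mul_le_mul_left _ this

/-- A prime dividing the number of decompositions divides the order of `GL`. -/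
theorem order_le_of_dvd_decomp [Fintype F] {n a t r p : ℕ} [hr : Fact r.Prime] [Fact p.Prime] [CharP F p]
    (hrp : r ≠ p) (ha : 0 < a) (ht : 2 ≤ t) (hn : n = a * t)
    (hdvd : r ∣ Nat.card {D : Fin t → Submodule F (Fin n → F) // Cfsg.Geo.IsMDecomposition a D} / Nat.factorial t) :
    orderOf ((Fintype.card F : ℕ) : ZMod r) ≤ n := by
  classical
  set X := {D : Fin t → Submodule F (Fin n → F) // Cfsg.Geo.IsMDecomposition a D} with hX
  have hinjD : ∀ D : X, Function.Injective D.1 := by
    intro D i j hij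
    by_contra hne
    have := D.2.indep.pairwiseDisjoint hne
    rw [Function.onFun, hij, disjoint_self] at this
    have h2 := D.2.finrank_eq j
    rw [this, finrank_bot] at h2
    have := D.2.pos
    omega
  -- ordered decompositions come in families of `t!`
  have hfac : Nat.factorial t ∣ Nat.card X := by
    let f : X → Set (Submodule F (Fin n → F)) := fun D => Set.range D.1
    rw [← Nat.card_congr (Equiv.sigmaFiberEquiv fun D : X => (⟨f D, ⟨D, rfl⟩⟩ : Set.range f)), Nat.card_sigma]
    refine Finset.dvd_sum fun y _ => ?_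
    obtain ⟨_, ⟨D₀, rfl⟩⟩ := y
    let perm : X → Equiv.Perm (Fin t) → X := fun D π => ⟨fun j => D.1 (π j),
      ⟨D.2.two_le, D.2.pos, fun j => D.2.finrank_eq _, D.2.indep.comp π.injective, by
        rw [Equiv.iSup_comp (g := D.1) π]; exact D.2.iSup_eq_top⟩⟩
    have hf : ∀ π, f (perm D₀ π) = f D₀ := fun π => by
      show Set.range (D₀.1 ∘ π) = _
      rw [Set.range_comp, π.surjective.range_eq, Set.image_univ]
    let g : Equiv.Perm (Fin t) → {D : X // (⟨f D, ⟨D, rfl⟩⟩ : Set.range f) = ⟨f D₀, ⟨D₀, rfl⟩⟩} :=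
      fun π => ⟨perm D₀ π, Subtype.ext (hf π)⟩
    have hg : Function.Bijective g := by
      constructor
      · intro π π' h
        refine Equiv.ext fun j => hinjD D₀ ?_
        exact congrFun (congrArg Subtype.val (congrArg Subtype.val h)) j
      · rintro ⟨D, hD⟩
        have hD' : Set.range D.1 = Set.range D₀.1 := congrArg Subtype.val hD
        refine ⟨(Equiv.ofInjective _ (hinjD D)).trans ((Equiv.setCongr hD').trans (Equiv.ofInjective _ (hinjD D₀)).symm), ?_⟩
        refine Subtype.ext (Subtype.ext (funext fun j => ?_))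
        exact congrArg Subtype.val ((Equiv.ofInjective _ (hinjD D₀)).apply_symm_apply
          (Equiv.setCongr hD' (Equiv.ofInjective _ (hinjD D) j)))
    rw [← Nat.card_congr (Equiv.ofBijective g hg), Nat.card_perm, Nat.card_fin]
  have hX' : r ∣ Nat.card X := hdvd.trans (Nat.div_dvd_of_dvd hfac)
  -- the linear group is transitive on decompositions
  obtain ⟨D₁⟩ : Nonempty X := by
    haveI : NeZero r := ⟨hr.out.ne_zero⟩
    let B : Basis (Fin t × Fin a) F (Fin n → F) := (Pi.basisFun F (Fin n)).reindex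
      (Fintype.equivFinOfCardEq (α := Fin t × Fin a) (n := n) (by
        rw [Fintype.card_prod, Fintype.card_fin, Fintype.card_fin, hn, mul_comm])).symm
    obtain ⟨D, hD, -⟩ := decomp_of_cycles (F := F) (s := 0) (f := t) (r := r) ht ha hn (by rw [zero_mul, zero_add])
      1 one_ne_zero (by rw [one_pow, one_smul]) (fun i => i.elim0) (fun j u => B (j, u)) (fun _ _ => rfl)
      (B.span_eq.ge.trans (Submodule.span_mono fun _ hx => Or.inr hx))
    exact ⟨⟨D, hD⟩⟩
  let G := (Fin n → F) ≃ₗ[F] (Fin n → F)
  have himg : ∀ (g : G) (D : X), Cfsg.Geo.IsMDecomposition a (fun j => (D.1 j).map g.toLinearMap) := by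
    intro g D
    refine ⟨D.2.two_le, D.2.pos, fun j => ?_, (iSupIndep_map_orderIso_iff (Submodule.orderIsoMapComap g)).2 D.2.indep, ?_⟩
    · rw [LinearEquiv.finrank_map_eq]; exact D.2.finrank_eq j
    · rw [← Submodule.map_iSup, D.2.iSup_eq_top, Submodule.map_top, LinearMap.range_eq_top]
      exact g.surjective
  let act : G → X := fun g => ⟨fun j => (D₁.1 j).map g.toLinearMap, himg g D₁⟩
  have htrans : ∀ D : X, ∃ g : G, act g = D := by
    intro D
    have hi : ∀ E : X, DirectSum.IsInternal E.1 := fun E =>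
      (DirectSum.isInternal_submodule_iff_iSupIndep_and_iSup_eq_top _).2 ⟨E.2.indep, E.2.iSup_eq_top⟩
    let bb : ∀ E : X, Basis (Σ _ : Fin t, Fin a) F (Fin n → F) := fun E =>
      (hi E).collectedBasis fun j => Module.finBasisOfFinrankEq F _ (E.2.finrank_eq j)
    refine ⟨(bb D₁).equiv (bb D) (Equiv.refl _), Subtype.ext (funext fun j => ?_)⟩
    refine Submodule.eq_of_le_of_finrank_eq ?_ ?_
    · show (D₁.1 j).map _ ≤ D.1 j
      intro v hv
      obtain ⟨v, hv, rfl⟩ := hv
      have hspan := (Module.finBasisOfFinrankEq F _ (D₁.2.finrank_eq j)).sum_repr ⟨v, hv⟩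
      have h2 := congrArg Subtype.val hspan
      rw [Submodule.coe_sum] at h2
      show _ ∈ D.1 j
      replace h2 : _ = v := h2
      rw [← h2, map_sum]
      refine Submodule.sum_mem _ fun u _ => ?_
      rw [Submodule.coe_smul, map_smul]
      refine Submodule.smul_mem _ _ ?_
      have h3 : ((Module.finBasisOfFinrankEq F _ (D₁.2.finrank_eq j)) u : Fin n → F) = bb D₁ ⟨j, u⟩ := by
        simp [bb, DirectSum.IsInternal.collectedBasis_coe]
      rw [h3]
      show ((bb D₁).equiv (bb D) (Equiv.refl _)) (bb D₁ ⟨j, u⟩) ∈ D.1 j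
      rw [Basis.equiv_apply, Equiv.refl_apply]
      exact (hi D).collectedBasis_mem (fun j => Module.finBasisOfFinrankEq F _ (D.2.finrank_eq j)) ⟨j, u⟩
    · show finrank F ↥((D₁.1 j).map _) = _
      rw [LinearEquiv.finrank_map_eq, D₁.2.finrank_eq, D.2.finrank_eq]
  have hcomp : ∀ (g g' : G), act (g'.trans g) = ⟨fun j => ((act g').1 j).map g.toLinearMap, himg g (act g')⟩ :=
    fun g g' => Subtype.ext (funext fun j => by
      show (D₁.1 j).map (g.toLinearMap.comp g'.toLinearMap) = _
      rw [Submodule.map_comp])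
  have hact : ∀ (g g₁ g₂ : G), act g₁ = act g₂ → act (g₁.trans g) = act (g₂.trans g) := fun g g₁ g₂ h => by
    rw [hcomp, hcomp]; exact Subtype.ext (funext fun j => by rw [h])
  have hdvdG : Nat.card X ∣ Nat.card G := by
    haveI : Finite G := Finite.of_injective (fun g : G => (g : (Fin n → F) → (Fin n → F)))
      DFunLike.coe_injective
    haveI : Fintype X := Fintype.ofFinite X
    suffices hfib : ∀ D : X, Nat.card {g : G // act g = D} = Nat.card {g : G // act g = D₁} by
      refine ⟨Nat.card {g : G // act g = D₁}, ?_⟩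
      rw [← Nat.card_congr (Equiv.sigmaFiberEquiv act), Nat.card_sigma,
        Finset.sum_congr rfl (fun D _ => hfib D), Finset.sum_const, Finset.card_univ, smul_eq_mul,
        Fintype.card_eq_nat_card]
    intro D
    obtain ⟨g₀, hg₀⟩ := htrans D
    have hone : act (LinearEquiv.refl F _) = D₁ := Subtype.ext (funext fun j => Submodule.map_id _)
    refine Nat.card_congr
      { toFun := fun g => ⟨g.1.trans g₀.symm, ?_⟩
        invFun := fun g => ⟨g.1.trans g₀, ?_⟩
        left_inv := fun g => Subtype.ext (LinearEquiv.ext fun v => by simp)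
        right_inv := fun g => Subtype.ext (LinearEquiv.ext fun v => by simp) }
    · rw [hact g₀.symm g.1 g₀ (g.2.trans hg₀.symm), LinearEquiv.self_trans_symm, hone]
    · rw [hact g₀ g.1 (LinearEquiv.refl F _) (g.2.trans hone.symm), LinearEquiv.refl_trans, hg₀]
  have hGL : Nat.card G = Nat.card (GL (Fin n) F) :=
    (Nat.card_congr ((Matrix.GeneralLinearGroup.toLin.trans
      (LinearMap.GeneralLinearGroup.generalLinearEquiv F (Fin n → F))).toEquiv)).symm
  have hr' : r ∣ Nat.card (GL (Fin n) F) := hGL ▸ hX'.trans hdvdG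
  rw [Matrix.card_GL_field] at hr'
  obtain ⟨i, -, hi⟩ := (hr.out.prime.dvd_finset_prod_iff _).1 hr'
  have hle : Fintype.card F ^ (i : ℕ) ≤ Fintype.card F ^ n := Nat.pow_le_pow_right Fintype.card_pos i.2.le
  rw [← ZMod.natCast_eq_zero_iff, Nat.cast_sub hle, Nat.cast_pow, Nat.cast_pow, sub_eq_zero] at hi
  have hne : ((Fintype.card F : ℕ) : ZMod r) ≠ 0 := by
    intro h0
    obtain ⟨k, -, hk⟩ := FiniteField.card F p
    rw [hk, Nat.cast_pow] at h0
    have h1 := eq_zero_of_pow_eq_zero h0
    rw [ZMod.natCast_eq_zero_iff] at h1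
    exact hrp ((Nat.prime_dvd_prime_iff_eq hr.out (Fact.out : p.Prime)).1 h1)
  refine (Nat.le_of_dvd (Nat.sub_pos_of_lt i.2) (orderOf_dvd_of_pow_eq_one (?_ : ((Fintype.card F : ℕ) : ZMod r) ^ (n - (i : ℕ)) = 1))).trans
    (Nat.sub_le _ _)
  have h1 : ((Fintype.card F : ℕ) : ZMod r) ^ (i : ℕ) * ((Fintype.card F : ℕ) : ZMod r) ^ (n - (i : ℕ)) =
      ((Fintype.card F : ℕ) : ZMod r) ^ (i : ℕ) * 1 := by
    rw [← pow_add, Nat.add_sub_cancel' i.2.le, mul_one, hi]
  exact mul_left_cancel₀ (pow_ne_zero _ hne) h1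

/-- The moved part of a map with `r`-th power one. -/
theorem range_structure [Fintype F] {r : ℕ} [hr : Fact r.Prime] (hrq : ((Fintype.card F : ℕ) : ZMod r) ≠ 0)
    {T : Module.End F V} (hT : T ^ r = 1) :
    (LinearMap.range (T - 1)).map T ≤ LinearMap.range (T - 1) ∧
      LinearMap.range (T - 1) ⊓ LinearMap.ker (T - 1) = ⊥ ∧
      ∀ W : Submodule F V, W ≤ LinearMap.range (T - 1) → W.map T ≤ W →
        orderOf ((Fintype.card F : ℕ) : ZMod r) ∣ finrank F W := by
  have hinter : LinearMap.range (T - 1) ⊓ LinearMap.ker (T - 1) = ⊥ := by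
    rw [eq_bot_iff]
    rintro _ ⟨⟨w, rfl⟩, hv⟩
    rw [Submodule.mem_bot]
    set v := (T - 1) w with hvdef
    have hTv : T v = v := sub_eq_zero.1 (by simpa using hv)
    have hj : ∀ j : ℕ, (T ^ j) w = w + (j : F) • v := by
      intro j
      induction j with
      | zero => simp
      | succ j ih =>
        have hTw : T w = w + v := by rw [hvdef]; simp
        rw [pow_succ', Module.End.mul_apply, ih, map_add, map_smul, hTv, hTw, add_assoc, Nat.cast_succ,
          add_smul, one_smul, add_comm v]
    have h2 := hj r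
    rw [hT, Module.End.one_apply, left_eq_add] at h2
    exact (smul_eq_zero.1 h2).resolve_left (cast_ne_zero hrq)
  refine ⟨?_, hinter, fun W hW1 hW => ?_⟩
  · rintro _ ⟨_, ⟨v, rfl⟩, rfl⟩
    exact ⟨T v, by simp⟩
  · have h := dim_modEq_fixed hrq T hT W hW
    rw [le_bot_iff.1 ((inf_le_inf_right _ hW1).trans hinter.le), finrank_bot] at h
    exact Nat.modEq_zero_iff_dvd.1 h

end H46.Elusive
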