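import Cfsg.Agent.H46.ClsFieldAux
import Cfsg.Agent.H51.Herm

/-!
Forms in coordinates.
-/

set_option autoImplicit false
set_option linter.style.haveILetI false
set_option linter.unusedSectionVars false
set_option maxHeartbeats 800000

open Cfsg.Geo
open scoped Matrix Kronecker MatrixGroups

namespace H46

variable {ι : Type} [Fintype ι] [DecidableEq ι] {F : Type*} [Field F] [Fintype F]
variable {κ : Type} [Fintype κ] [DecidableEq κ]
variable {σ : F ≃+* F} {M : Matrix ι ι F}

theorem matCoords_mulVec (e : ι ≃ κ) (P : GL ι F) (X : Matrix κ κ F) (x : κ → F) :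
    matCoords e P X *ᵥ ((P : Matrix ι ι F) *ᵥ (x ∘ e)) = (P : Matrix ι ι F) *ᵥ ((X *ᵥ x) ∘ e) := by
  have h1 : vecCoords e P ((P : Matrix ι ι F) *ᵥ (x ∘ e)) = x := by
    funext k
    simp [vecCoords, Matrix.mulVec_mulVec]
  apply (vecCoords_bijective e P).1
  rw [vecCoords_matCoords, h1]
  funext k
  simp [vecCoords, Matrix.mulVec_mulVec]

theorem exists_coord_vec (e : ι ≃ κ) (P : GL ι F) (v : ι → F) :
    ∃ x : κ → F, (P : Matrix ι ι F) *ᵥ (x ∘ e) = v :=
  ⟨fun k => (((P⁻¹ : GL ι F) : Matrix ι ι F) *ᵥ v) (e.symm k), by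
    simp [Function.comp_def, Matrix.mulVec_mulVec]⟩

theorem CF.coordGram (h : CF σ M) (e : ι ≃ κ) (P : GL ι F) : CF σ (H46.coordGram σ M e P) := by
  refine ⟨?_, h.inv, ?_⟩
  · exact (((Matrix.isUnit_transpose _).2 P.isUnit).mul h.unit).mul
      (P.isUnit.map (σ.toRingHom.mapMatrix (m := ι))) |>.map (Matrix.reindexAlgEquiv F F e)
  · have hmm : ((P : Matrix ι ι F).map σ).map σ = (P : Matrix ι ι F) := by
      ext i j; simp [h.inv]
    rcases h.kind with ⟨hσ, hh⟩ | ⟨hσ, hs, -⟩
    · left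
      refine ⟨hσ, ?_⟩
      have hN : (((P : Matrix ι ι F)ᵀ * M * (P : Matrix ι ι F).map σ).map σ)ᵀ =
          (P : Matrix ι ι F)ᵀ * M * (P : Matrix ι ι F).map σ := by
        rw [Matrix.map_mul, Matrix.map_mul, hmm, Matrix.transpose_mul, Matrix.transpose_mul, hh,
          Matrix.transpose_map, Matrix.transpose_transpose, ← mul_assoc]
      rw [H46.coordGram, ← Matrix.submatrix_map, Matrix.transpose_submatrix, hN]
    · subst hσ
      right
      refine ⟨rfl, ?_, fun i => ?_⟩
      · have hid : (P : Matrix ι ι F).map (RingEquiv.refl F) = (P : Matrix ι ι F) := by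
          ext i j; simp
        rw [H46.coordGram, hid, Matrix.transpose_submatrix, Matrix.transpose_mul,
          Matrix.transpose_mul, Matrix.transpose_transpose, hs, ← mul_assoc]
        simp [Matrix.mul_neg, Matrix.neg_mul, Matrix.submatrix_neg]
      · have h1 := frm_coords (σ := RingEquiv.refl F) M e P (Pi.single i 1) (Pi.single i 1)
        rw [h.alt rfl] at h1
        rw [← formOfGram_single (RingEquiv.refl F) (H46.coordGram (RingEquiv.refl F) M e P) i i]
        exact h1.symm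

theorem similar_coords (e : ι ≃ κ) (P : GL ι F) {h : GL κ F}
    (hg : glCoords e P h ∈ similarityGroup (frm σ M)) :
    h ∈ similarityGroup (frm σ (coordGram σ M e P)) := by
  obtain ⟨c, hc⟩ := hg
  refine ⟨c, fun u v => ?_⟩
  have h1 := hc ((P : Matrix ι ι F) *ᵥ (u ∘ e)) ((P : Matrix ι ι F) *ᵥ (v ∘ e))
  rwa [glCoords_val, matCoords_mulVec, matCoords_mulVec, frm_coords, frm_coords] at h1

theorem CF.adj_coords (h : CF σ M) (e : ι ≃ κ) (P : GL ι F) (X : Matrix κ κ F) :
    adj σ (H46.coordGram σ M e P) X = (matCoords e P).symm (adj σ M (matCoords e P X)) := by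
  refine (h.coordGram e P).adj_eq fun u v => ?_
  rw [← frm_coords M e P, ← frm_coords M e P, ← matCoords_mulVec, h.frm_adj, ← matCoords_mulVec,
    AlgEquiv.apply_symm_apply]

theorem coordGram_mul (e : ι ≃ κ) (P : GL ι F) (X : GL κ F) :
    coordGram σ M e (P * glCoords e 1 X) =
      (X : Matrix κ κ F)ᵀ * coordGram σ M e P * (X : Matrix κ κ F).map σ := by
  refine (gram_eq_of_forms_eq σ fun u v => ?_).symm
  rw [← formOfGram_act]
  show frm σ (coordGram σ M e P) _ _ = frm σ (coordGram σ M e (P * glCoords e 1 X)) u v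
  have h1 : ∀ u : κ → F, ((P * glCoords e 1 X : GL ι F) : Matrix ι ι F) *ᵥ (u ∘ e) =
      (P : Matrix ι ι F) *ᵥ (((X : Matrix κ κ F) *ᵥ u) ∘ e) := fun u => by
    have h2 := matCoords_mulVec e (1 : GL ι F) (X : Matrix κ κ F) u
    simp only [Units.val_one, Matrix.one_mulVec] at h2
    rw [Units.val_mul, glCoords_val, ← Matrix.mulVec_mulVec, h2]
  rw [← frm_coords, ← frm_coords, h1, h1]

theorem glCoords_mul_right (e : ι ≃ κ) (P : GL ι F) (X h : GL κ F) :
    glCoords e (P * glCoords e 1 X) h = glCoords e P (X * h * X⁻¹) := by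
  apply Units.ext
  rw [glCoords_val, glCoords_val]
  have h1 : ∀ Z : Matrix κ κ F, matCoords e P Z = glConj P (matCoords e (1 : GL ι F) Z) := fun Z => by
    simp [matCoords, glConj_one]
  have h2 : matCoords e (P * glCoords e 1 X) (h : Matrix κ κ F) =
      glConj P (glConj (glCoords e 1 X) (matCoords e (1 : GL ι F) (h : Matrix κ κ F))) := by
    simp [matCoords, glConj_one, glConj_mul]
  rw [h2, h1 ((X * h * X⁻¹ : GL κ F) : Matrix κ κ F)]
  congr 1
  rw [glConj_apply, ← map_inv, glCoords_val, glCoords_val, ← map_mul, ← map_mul, Units.val_mul,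
    Units.val_mul]

theorem coordGram_trans {μ : Type} [Fintype μ] [DecidableEq μ] (e : ι ≃ κ) (f : κ ≃ μ) (P : GL ι F) :
    coordGram σ M (e.trans f) P = (coordGram σ M e P).submatrix f.symm f.symm := by
  simp only [coordGram, Matrix.submatrix_submatrix]
  rfl

/-- Equal Kronecker products have proportional factors. -/
theorem kron_eq_kron {a b : ℕ} {A A' : Matrix (Fin a) (Fin a) F} {B B' : Matrix (Fin b) (Fin b) F}
    (h : A' ⊗ₖ B' = A ⊗ₖ B) (hA : A ≠ 0) (hB : B ≠ 0) :
    ∃ c : F, c ≠ 0 ∧ A' = c • A ∧ B' = c⁻¹ • B := by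
  obtain ⟨i, j, hij⟩ : ∃ i j, A i j ≠ 0 := by
    by_contra hcon
    simp only [not_exists, not_not] at hcon
    exact hA (Matrix.ext hcon)
  obtain ⟨u, v, huv⟩ : ∃ u v, B u v ≠ 0 := by
    by_contra hcon
    simp only [not_exists, not_not] at hcon
    exact hB (Matrix.ext hcon)
  have hpt : ∀ i j u v, A' i j * B' u v = A i j * B u v := fun i j u v =>
    congrFun (congrFun h (i, u)) (j, v)
  have hne : A' i j * B' u v ≠ 0 := by rw [hpt]; exact mul_ne_zero hij huv
  obtain ⟨ha', hb'⟩ := mul_ne_zero_iff.1 hne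
  refine ⟨B u v / B' u v, div_ne_zero huv hb', ?_, ?_⟩
  · ext x y
    rw [Matrix.smul_apply, smul_eq_mul, div_mul_eq_mul_div, eq_div_iff hb', hpt, mul_comm]
  · ext x y
    rw [Matrix.smul_apply, smul_eq_mul, inv_div, div_mul_eq_mul_div, eq_div_iff huv]
    refine mul_left_cancel₀ ha' ?_
    have h1 := hpt i j x y
    have h2 := hpt i j u v
    linear_combination B u v * h1 - B x y * h2

/-- An involution of a finite field of square order is the q-power map. -/
theorem exists_sigma_pow (hσ : σ ≠ RingEquiv.refl F) (hinv : ∀ a, σ (σ a) = a) :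
    ∃ q : ℕ, Fintype.card F = q ^ 2 ∧ ∀ x, σ x = x ^ q := by
  have hne : σ.toRingHom ≠ RingHom.id F := fun h => hσ (RingEquiv.ext fun a => RingHom.congr_fun h a)
  have hmem : ∀ a, a ∈ σ.toRingHom.eqLocusField (RingHom.id F) ↔ σ a = a := fun a => Iff.rfl
  set F₀ := σ.toRingHom.eqLocusField (RingHom.id F)
  haveI : Fintype F₀ := Fintype.ofFinite F₀
  set q := Nat.card F₀ with hq
  have hcard : Fintype.card F = q ^ 2 := by
    classical
    have hsurj : Function.Surjective (fun a : F => (⟨a + σ a, (hmem _).2 (by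
        rw [map_add, hinv, add_comm])⟩ : F₀)) := fun t => by
      obtain ⟨c, hc⟩ := H38.exists_trace_eq (σ := σ.toRingHom) hne hinv (t := (t : F)) ((hmem _).1 t.2)
      exact ⟨c, Subtype.ext hc⟩
    exact (card_fixed_sq σ.toRingHom hne hinv).symm
  refine ⟨q, hcard, fun x => ?_⟩
  have hfix : ∀ y, σ y = y → y ^ q = y := fun y hy =>
    (subfield_mem_iff_pow F₀ rfl y).1 ((hmem y).2 hy)
  have h1 := hfix (x + σ x) (by rw [map_add, hinv, add_comm])
  have h2 := hfix (x * σ x) (by rw [map_mul, hinv, mul_comm])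
  have hadd : (x + σ x) ^ q = x ^ q + σ x ^ q := H51.add_pow_q hcard x (σ x)
  rw [hadd] at h1
  rw [mul_pow] at h2
  have h3 : (x ^ q - x) * (x ^ q - σ x) = 0 := by
    linear_combination (x ^ q) * h1 - h2
  rcases mul_eq_zero.1 h3 with h4 | h4
  · have hx : x ∈ F₀ := (subfield_mem_iff_pow F₀ rfl x).2 (sub_eq_zero.1 h4)
    rw [sub_eq_zero.1 h4]
    exact (hmem x).1 hx
  · exact (sub_eq_zero.1 h4).symm

end H46
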