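import Cfsg.Agent.H46.ClsOutcome

/-!
Quadratic forms in characteristic two polarising to an invariant alternating form.
-/

set_option autoImplicit false
set_option linter.style.haveILetI false
set_option linter.unusedSectionVars false
set_option maxHeartbeats 800000

open Cfsg.Geo
open scoped Matrix Kronecker MatrixGroups

namespace H46

variable {ι : Type} [Fintype ι] [DecidableEq ι] {F : Type*} [Field F] [Fintype F]

/-- Functions agreeing on polars differ by a semilinear functional. -/
theorem quad_diff {Q : (ι → F) → F} (hQ : IsNondegenerateQuadraticForm Q) {h : Matrix ι ι F} {c : F}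
    (hc : ∀ u v, QuadraticMap.polar Q (h *ᵥ u) (h *ᵥ v) = c * QuadraticMap.polar Q u v) :
    (∀ u v, (Q (h *ᵥ (u + v)) - c * Q (u + v)) =
      (Q (h *ᵥ u) - c * Q u) + (Q (h *ᵥ v) - c * Q v)) ∧
    ∀ (a : F) v, Q (h *ᵥ (a • v)) - c * Q (a • v) = a ^ 2 * (Q (h *ᵥ v) - c * Q v) := by
  refine ⟨fun u v => ?_, fun a v => ?_⟩
  · have h1 := hc u v
    simp only [QuadraticMap.polar, ← Matrix.mulVec_add] at h1
    linear_combination h1
  · rw [Matrix.mulVec_smul, hQ.smul, hQ.smul]; ring

/-- The normaliser of an irreducible group fixing a quadratic form consists of similitudes of it. -/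
theorem mem_quadSimilarity_of_normalizes (hn : 2 ≤ Fintype.card ι) (heven : ¬ Odd (Fintype.card F))
    {Q : (ι → F) → F} (hQ : IsNondegenerateQuadraticForm Q) {R : Subgroup (GL ι F)}
    (hR : Algebra.adjoin F (matrixSet R) = ⊤) (hfix : FixesQuadForm (matrixSet R) Q)
    {g : GL ι F} (hg : ∀ x ∈ R, g * x * g⁻¹ ∈ R) {c : Fˣ}
    (hc : ∀ u v, QuadraticMap.polar Q ((g : Matrix ι ι F) *ᵥ u) ((g : Matrix ι ι F) *ᵥ v) =
      (c : F) * QuadraticMap.polar Q u v) :
    g ∈ quadSimilarityGroup Q := by
  haveI : Nonempty ι := Fintype.card_pos_iff.1 (by omega)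
  haveI : Nontrivial ι := Fintype.one_lt_card_iff_nontrivial.1 (by omega)
  have h2 : (2 : F) = 0 := by
    by_contra h
    exact heven (two_ne_zero_iff_odd.1 h)
  obtain ⟨hadd, hsmul⟩ := quad_diff hQ hc
  let d : (ι → F) → F := fun v => Q ((g : Matrix ι ι F) *ᵥ v) - (c : F) * Q v
  refine ⟨c, fun v => sub_eq_zero.1 (?_ : d v = 0)⟩
  by_contra hv
  let W : Submodule F (ι → F) :=
    { carrier := {w | d w = 0}
      add_mem' := fun {a b} ha hb => by
        show d (a + b) = 0
        rw [show d (a + b) = d a + d b from hadd a b, show d a = 0 from ha, show d b = 0 from hb,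
          add_zero]
      zero_mem' := by
        show d 0 = 0
        have := hsmul 0 0
        simpa [d] using this
      smul_mem' := fun a w hw => by
        show d (a • w) = 0
        rw [show d (a • w) = a ^ 2 * d w from hsmul a w, show d w = 0 from hw, mul_zero] }
  have hsurj : ∀ x : F, ∃ a, a ^ 2 = x := fun x => by
    obtain ⟨a, ha⟩ := FiniteField.isSquare_of_char_two (F := F) (by
      by_contra hne
      exact heven (two_ne_zero_iff_odd.1 (Ring.two_ne_zero hne))) x
    exact ⟨a, by rw [ha, sq]⟩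
  have hWne : W ≠ ⊥ := by
    intro hb
    obtain ⟨a, b, hab⟩ := exists_pair_ne ι
    have hz : ∀ w : ι → F, d w = 0 → w = 0 := fun w hw =>
      (Submodule.mem_bot F).1 (hb ▸ (show w ∈ W from hw))
    have hA0 : d (Pi.single a 1) ≠ 0 := fun h => by
      have := congrFun (hz _ h) a
      simp at this
    obtain ⟨s, hs⟩ := hsurj (d (Pi.single b 1) / d (Pi.single a 1))
    have h0 : d (Pi.single b 1 + s • Pi.single a 1) = 0 := by
      rw [show d (Pi.single b 1 + s • Pi.single a 1) = d (Pi.single b 1) + d (s • Pi.single a 1) from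
        hadd _ _, show d (s • Pi.single a 1) = s ^ 2 * d (Pi.single a 1) from hsmul _ _, hs,
        div_mul_cancel₀ _ hA0]
      linear_combination (d (Pi.single b 1)) * h2
    have := congrFun (hz _ h0) b
    simp [hab.symm] at this
  have hirr := actsIrreducibly_of_adjoin hR
  rcases hirr W (by
    rintro _ ⟨x, hx, rfl⟩ _ ⟨w, hw, rfl⟩
    show d (Matrix.toLin' (x : Matrix ι ι F) w) = 0
    rw [Matrix.toLin'_apply]
    have hw' : d w = 0 := hw
    rw [← hw']
    simp only [d]
    rw [hfix _ (mem_matrixSet hx)]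
    congr 1
    rw [show (g : Matrix ι ι F) *ᵥ ((x : Matrix ι ι F) *ᵥ w) =
        ((g * x * g⁻¹ : GL ι F) : Matrix ι ι F) *ᵥ ((g : Matrix ι ι F) *ᵥ w) by
      rw [Matrix.mulVec_mulVec, Matrix.mulVec_mulVec, ← Units.val_mul, ← Units.val_mul]
      simp]
    exact hfix _ (mem_matrixSet (hg x hx)) _) with h | h
  · exact hWne h
  · exact hv (show v ∈ W by rw [h]; exact Submodule.mem_top)

/-- Upper triangular part of A ⊗ B with respect to the first factor. -/
def tensQuad {a b : ℕ} (A : Matrix (Fin a) (Fin a) F) (B : Matrix (Fin b) (Fin b) F)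
    (x : Fin a × Fin b → F) : F :=
  ∑ i, ∑ j, ∑ k, ∑ l, if i < j then A i j * B k l * (x (i, k) * x (j, l)) else 0

theorem tensQuad_smul {a b : ℕ} (A : Matrix (Fin a) (Fin a) F) (B : Matrix (Fin b) (Fin b) F)
    (c : F) (x : Fin a × Fin b → F) : tensQuad A B (c • x) = c ^ 2 * tensQuad A B x := by
  simp only [tensQuad, Finset.mul_sum]
  refine Finset.sum_congr rfl fun i _ => Finset.sum_congr rfl fun j _ =>
    Finset.sum_congr rfl fun k _ => Finset.sum_congr rfl fun l _ => ?_
  split_ifs
  · simp only [Pi.smul_apply, smul_eq_mul]; ring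
  · ring

theorem tensQuad_polar {a b : ℕ} {A : Matrix (Fin a) (Fin a) F} {B : Matrix (Fin b) (Fin b) F}
    (hAs : ∀ i j, A j i = A i j) (hAd : ∀ i, A i i = 0) (hBs : ∀ i j, B j i = B i j)
    (x y : Fin a × Fin b → F) :
    tensQuad A B (x + y) - tensQuad A B x - tensQuad A B y =
      formOfGram (RingEquiv.refl F : F → F) (A ⊗ₖ B) x y := by
  have hR : formOfGram (RingEquiv.refl F : F → F) (A ⊗ₖ B) x y =
      ∑ i, ∑ j, ∑ k, ∑ l, A i j * B k l * (x (i, k) * y (j, l)) := by
    simp only [formOfGram, Fintype.sum_prod_type, RingEquiv.coe_refl, id_eq, Matrix.kroneckerMap_apply]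
    refine Finset.sum_congr rfl fun i _ => ?_
    rw [Finset.sum_comm]
    exact Finset.sum_congr rfl fun j _ => Finset.sum_congr rfl fun k _ =>
      Finset.sum_congr rfl fun l _ => by ring
  have hsplit : ∀ i j : Fin a, ∀ k l,
      A i j * B k l * (x (i, k) * y (j, l)) =
        (if i < j then A i j * B k l * (x (i, k) * y (j, l)) else 0) +
        (if j < i then A i j * B k l * (x (i, k) * y (j, l)) else 0) := by
    intro i j k l
    rcases lt_trichotomy i j with h | rfl | h
    · rw [if_pos h, if_neg (lt_asymm h), add_zero]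
    · rw [hAd, if_neg (lt_irrefl i)]; simp
    · rw [if_pos h, if_neg (lt_asymm h), zero_add]
  have hL : tensQuad A B (x + y) - tensQuad A B x - tensQuad A B y = ∑ i, ∑ j, ∑ k, ∑ l,
      ((if i < j then A i j * B k l * (x (i, k) * y (j, l)) else 0) +
       (if i < j then A i j * B k l * (y (i, k) * x (j, l)) else 0)) := by
    simp only [tensQuad, ← Finset.sum_sub_distrib]
    refine Finset.sum_congr rfl fun i _ => Finset.sum_congr rfl fun j _ =>
      Finset.sum_congr rfl fun k _ => Finset.sum_congr rfl fun l _ => ?_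
    split_ifs
    · simp only [Pi.add_apply]; ring
    · ring
  rw [hL, hR]
  simp only [Finset.sum_add_distrib]
  rw [Finset.sum_congr rfl fun i _ => Finset.sum_congr rfl fun j _ =>
    Finset.sum_congr rfl fun k _ => Finset.sum_congr rfl fun l _ => hsplit i j k l]
  simp only [Finset.sum_add_distrib]
  congr 1
  rw [Finset.sum_comm]
  refine Finset.sum_congr rfl fun i _ => Finset.sum_congr rfl fun j _ => ?_
  rw [Finset.sum_comm]
  refine Finset.sum_congr rfl fun k _ => Finset.sum_congr rfl fun l _ => ?_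
  split_ifs
  · rw [hAs, hBs]; ring
  · rfl

theorem tensQuad_pure {a b : ℕ} (A : Matrix (Fin a) (Fin a) F) {B : Matrix (Fin b) (Fin b) F}
    (hBu : IsUnit B) (hB : Bᵀ = -B) (hBd : ∀ i, B i i = 0) (u : Fin a → F) (w : Fin b → F) :
    tensQuad A B (fun p => u p.1 * w p.2) = 0 := by
  have hzero : ∑ k, ∑ l, B k l * (w k * w l) = 0 := by
    have := (isSymplecticForm_gram B hBu hB hBd).alternating w
    rw [formOfGram] at this
    rw [← this]
    exact Finset.sum_congr rfl fun k _ => Finset.sum_congr rfl fun l _ => by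
      simp [mul_comm, mul_left_comm]
  refine Finset.sum_eq_zero fun i _ => Finset.sum_eq_zero fun j _ => ?_
  split_ifs
  · have : ∑ k, ∑ l, A i j * B k l * (u i * w k * (u j * w l)) =
        A i j * u i * u j * ∑ k, ∑ l, B k l * (w k * w l) := by
      simp only [Finset.mul_sum]
      exact Finset.sum_congr rfl fun k _ => Finset.sum_congr rfl fun l _ => by ring
    rw [this, hzero, mul_zero]
  · simp

/-- On coordinates: tensor similitudes respect the quadratic form. -/
theorem tensQuad_kron {a b : ℕ} {A : Matrix (Fin a) (Fin a) F} {B : Matrix (Fin b) (Fin b) F}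
    (hAs : ∀ i j, A j i = A i j) (hAd : ∀ i, A i i = 0) (hBs : ∀ i j, B j i = B i j)
    (hBu : IsUnit B) (hB : Bᵀ = -B) (hBd : ∀ i, B i i = 0)
    (x : Matrix (Fin a) (Fin a) F) (y : Matrix (Fin b) (Fin b) F) {c : F}
    (hc : ∀ z w, formOfGram (RingEquiv.refl F : F → F) (A ⊗ₖ B) ((x ⊗ₖ y) *ᵥ z) ((x ⊗ₖ y) *ᵥ w) =
      c * formOfGram (RingEquiv.refl F : F → F) (A ⊗ₖ B) z w) (z : Fin a × Fin b → F) :
    tensQuad A B ((x ⊗ₖ y) *ᵥ z) = c * tensQuad A B z := by
  let d : (Fin a × Fin b → F) → F := fun z => tensQuad A B ((x ⊗ₖ y) *ᵥ z) - c * tensQuad A B z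
  have hadd : ∀ u v, d (u + v) = d u + d v := by
    intro u v
    have h1 := hc u v
    rw [← tensQuad_polar hAs hAd hBs, ← tensQuad_polar hAs hAd hBs, ← Matrix.mulVec_add] at h1
    simp only [d]
    linear_combination h1
  have hsm : ∀ (r : F) u, d (r • u) = r ^ 2 * d u := fun r u => by
    simp only [d, Matrix.mulVec_smul, tensQuad_smul]; ring
  have hsingle : ∀ p, d (Pi.single p 1) = 0 := by
    rintro ⟨i, k⟩
    have hp1 : (Pi.single (i, k) (1 : F) : Fin a × Fin b → F) =
        fun p => (Pi.single i (1 : F) : Fin a → F) p.1 * (Pi.single k (1 : F) : Fin b → F) p.2 := by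
      funext ⟨i', k'⟩
      simp only [Pi.single_apply, Prod.mk.injEq]
      split_ifs <;> simp_all
    have himg : (x ⊗ₖ y) *ᵥ (Pi.single (i, k) (1 : F)) = fun p => x p.1 i * y p.2 k := by
      rw [Matrix.mulVec_single_one]
      funext p
      simp
    simp only [d, himg]
    rw [tensQuad_pure A hBu hB hBd (fun s => x s i) (fun s => y s k), hp1,
      tensQuad_pure A hBu hB hBd, mul_zero, sub_zero]
  have hz : z = ∑ p, z p • (Pi.single p (1 : F) : Fin a × Fin b → F) := by
    funext p
    simp [Finset.sum_apply, Pi.single_apply]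
  have hd : d z = 0 := by
    rw [hz]
    refine (map_sum (AddMonoidHom.mk' d hadd) _ _).trans (Finset.sum_eq_zero fun p _ => ?_)
    show d _ = 0
    rw [hsm, hsingle, mul_zero]
  exact sub_eq_zero.1 hd

/-- The quadratic form vanishing on pure tensors. -/
theorem exists_quad_of_tensor {σ : F ≃+* F} {M : Matrix ι ι F} (hσ : σ = RingEquiv.refl F)
    (heven : ¬ Odd (Fintype.card F)) (hM : CF σ M) {a b : ℕ} (ha : 0 < a) (e : ι ≃ Fin a × Fin b)
    (P : GL ι F) {A : Matrix (Fin a) (Fin a) F} {B : Matrix (Fin b) (Fin b) F}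
    (hgram : coordGram σ M e P = A ⊗ₖ B) (hA : Aᵀ = -A) (hAd : ∀ i, A i i = 0)
    (hB : Bᵀ = -B) (hBd : ∀ i, B i i = 0) :
    ∃ Q : (ι → F) → F, IsNondegenerateQuadraticForm Q ∧
      (∀ u v, QuadraticMap.polar Q u v = frm σ M u v) ∧
      tensorProductSubgroup a b e P ⊓ similarityGroup (frm σ M) ≤ quadSimilarityGroup Q := by
  classical
  subst hσ
  have h2 : (2 : F) = 0 := by
    by_contra h
    exact heven (two_ne_zero_iff_odd.1 h)
  have hneg : ∀ z : F, -z = z := fun z => by linear_combination (-z) * h2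
  have hAs : ∀ i j, A j i = A i j := fun i j => by
    have := congrFun (congrFun hA i) j
    simpa [hneg] using this
  have hBs : ∀ i j, B j i = B i j := fun i j => by
    have := congrFun (congrFun hB i) j
    simpa [hneg] using this
  have hBu : IsUnit B := by
    have hu : IsUnit (A ⊗ₖ B) := by
      rw [← hgram]
      exact (((Matrix.isUnit_transpose _).2 P.isUnit).mul hM.unit).mul
        (P.isUnit.map ((RingEquiv.refl F).toRingHom.mapMatrix (m := ι))) |>.map
        (Matrix.reindexAlgEquiv F F e)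
    rw [Matrix.isUnit_iff_isUnit_det, Matrix.det_kronecker] at hu
    rw [Matrix.isUnit_iff_isUnit_det]
    exact (isUnit_pow_iff (by simpa using ha.ne')).1 (isUnit_of_mul_isUnit_right hu)
  have hcoord : ∀ u v, frm (RingEquiv.refl F) M u v =
      formOfGram (RingEquiv.refl F : F → F) (A ⊗ₖ B) (vecCoords e P u) (vecCoords e P v) := by
    have hback : ∀ v, (P : Matrix ι ι F) *ᵥ (vecCoords e P v ∘ e) = v := by
      intro v
      have : vecCoords e P v ∘ e = ((P⁻¹ : GL ι F) : Matrix ι ι F) *ᵥ v := by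
        funext i
        simp [vecCoords]
      rw [this, Matrix.mulVec_mulVec, ← Units.val_mul, mul_inv_cancel, Units.val_one,
        Matrix.one_mulVec]
    intro u v
    have := frm_coords (σ := RingEquiv.refl F) M e P (vecCoords e P u) (vecCoords e P v)
    rw [hback, hback, hgram] at this
    exact this
  let Q : (ι → F) → F := fun v => tensQuad A B (vecCoords e P v)
  have hpol : ∀ u v, QuadraticMap.polar Q u v = frm (RingEquiv.refl F) M u v := by
    intro u v
    show tensQuad A B (vecCoords e P (u + v)) - tensQuad A B (vecCoords e P u) -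
      tensQuad A B (vecCoords e P v) = _
    rw [map_add, tensQuad_polar hAs hAd hBs, hcoord]
  have hQ : IsNondegenerateQuadraticForm Q := by
    have hfun : QuadraticMap.polar Q = frm (RingEquiv.refl F) M := funext fun u => funext (hpol u)
    refine ⟨fun c v => ?_, ?_, ?_⟩
    · show tensQuad A B (vecCoords e P (c • v)) = _
      rw [map_smul, tensQuad_smul]
    · rw [hfun]; exact (hM.symplectic rfl).bilinear
    · rw [hfun]; exact hM.nondeg
  refine ⟨Q, hQ, hpol, ?_⟩
  rintro g ⟨hgT, c, hc⟩
  obtain ⟨_, ⟨h, ⟨x, y, hxy⟩, rfl⟩, rfl⟩ := hgT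
  obtain rfl : h = glKron x y := Units.ext hxy
  refine ⟨c, fun v => ?_⟩
  show tensQuad A B (vecCoords e P
    (((glCoords e P (glKron x y) : GL ι F) : Matrix ι ι F) *ᵥ v)) = _
  rw [glCoords_val, vecCoords_matCoords, glKron_val]
  refine tensQuad_kron hAs hAd hBs hBu hB hBd _ _ (c := (c : F)) (fun z w => ?_) _
  obtain ⟨u, rfl⟩ := (vecCoords_bijective e P).2 z
  obtain ⟨v', rfl⟩ := (vecCoords_bijective e P).2 w
  have h1 := hc u v'
  change frm (RingEquiv.refl F) M (((glCoords e P (glKron x y) : GL ι F) : Matrix ι ι F) *ᵥ u)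
    (((glCoords e P (glKron x y) : GL ι F) : Matrix ι ι F) *ᵥ v') = _ at h1
  rw [hcoord, hcoord, glCoords_val, vecCoords_matCoords, vecCoords_matCoords, glKron_val] at h1
  exact h1

end H46
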