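import Cfsg.Agent.H46.ClsComm
import Cfsg.Agent.H46.ClsCoords
import Cfsg.Agent.H46.ClsQuad

/-!
Tensor decompositions of a space with a form.
-/

set_option autoImplicit false
set_option linter.style.haveILetI false
set_option linter.unusedSectionVars false
set_option maxHeartbeats 1000000

open Cfsg.Geo
open scoped Matrix Kronecker MatrixGroups

namespace H46

variable {ι : Type} [Fintype ι] [DecidableEq ι] {F : Type*} [Field F] [Fintype F]
variable {σ : F ≃+* F} {M : Matrix ι ι F}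

theorem kron_map {a b : ℕ} (f : F →+* F) (A : Matrix (Fin a) (Fin a) F) (B : Matrix (Fin b) (Fin b) F) :
    (A ⊗ₖ B).map f = A.map f ⊗ₖ B.map f := by
  ext ⟨i, u⟩ ⟨j, v⟩
  simp

theorem kron_smul_smul {a b : ℕ} (c d : F) (A : Matrix (Fin a) (Fin a) F) (B : Matrix (Fin b) (Fin b) F) :
    (c • A) ⊗ₖ (d • B) = (c * d) • (A ⊗ₖ B) := by
  ext ⟨i, u⟩ ⟨j, v⟩
  simp [mul_mul_mul_comm]

theorem isUnit_kron_factors {a b : ℕ} (ha : 0 < a) (hb : 0 < b) {A : Matrix (Fin a) (Fin a) F}
    {B : Matrix (Fin b) (Fin b) F} (h : IsUnit (A ⊗ₖ B)) : IsUnit A ∧ IsUnit B := by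
  rw [Matrix.isUnit_iff_isUnit_det, Matrix.det_kronecker] at h
  refine ⟨(Matrix.isUnit_iff_isUnit_det _).2 ?_, (Matrix.isUnit_iff_isUnit_det _).2 ?_⟩
  · exact (isUnit_pow_iff (by simpa using hb.ne')).1 (isUnit_of_mul_isUnit_left h)
  · exact (isUnit_pow_iff (by simpa using ha.ne')).1 (isUnit_of_mul_isUnit_right h)

theorem coordGram_swap {a b : ℕ} {e : ι ≃ Fin a × Fin b} {P : GL ι F}
    {A : Matrix (Fin a) (Fin a) F} {B : Matrix (Fin b) (Fin b) F}
    (h : coordGram σ M e P = A ⊗ₖ B) :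
    coordGram σ M (e.trans (Equiv.prodComm (Fin a) (Fin b))) P = B ⊗ₖ A := by
  rw [coordGram_trans, h]
  ext ⟨i, u⟩ ⟨j, v⟩
  simp [mul_comm]

theorem glCoords_swap {a b : ℕ} (e : ι ≃ Fin a × Fin b) (P : GL ι F) (x : GL (Fin a) F)
    (y : GL (Fin b) F) : glCoords (e.trans (Equiv.prodComm (Fin a) (Fin b))) P (glKron y x) =
      glCoords e P (glKron x y) := by
  apply Units.ext
  rw [glCoords_val, glCoords_val]
  simp only [matCoords, AlgEquiv.trans_apply]
  congr 1
  ext i j
  simp [glKron_val, mul_comm]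

theorem mem_tensorProductSubgroup_kron {a b : ℕ} (e : ι ≃ Fin a × Fin b) (P : GL ι F)
    (x : GL (Fin a) F) (y : GL (Fin b) F) :
    glCoords e P (glKron x y) ∈ tensorProductSubgroup a b e P := by
  refine mem_tensorProductSubgroup e P _ ?_
  rw [MulEquiv.symm_apply_apply]
  exact ⟨x, y, rfl⟩

/-- The factor similitudes of a similitude of a Kronecker product. -/
theorem similar_factor {a b : ℕ} {A : Matrix (Fin a) (Fin a) F} {B : Matrix (Fin b) (Fin b) F}
    (hA : IsUnit A) (hB : B ≠ 0) (ha : 0 < a) {x : GL (Fin a) F} {y : GL (Fin b) F}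
    (h : glKron x y ∈ similarityGroup (frm σ (A ⊗ₖ B))) :
    ∃ ν : F, ν ≠ 0 ∧ (y : Matrix (Fin b) (Fin b) F)ᵀ * B * (y : Matrix (Fin b) (Fin b) F).map σ = ν • B := by
  obtain ⟨c, hc⟩ := h
  have h1 := gram_of_similar hc
  rw [glKron_val, ← Matrix.kroneckerMap_transpose, show ((x : Matrix (Fin a) (Fin a) F) ⊗ₖ (y : Matrix (Fin b) (Fin b) F)).map σ = _ from kron_map σ.toRingHom _ _,
    ← Matrix.mul_kronecker_mul, ← Matrix.mul_kronecker_mul, ← Matrix.smul_kronecker] at h1
  haveI : Nonempty (Fin a) := ⟨⟨0, ha⟩⟩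
  have hA0 : (c : F) • A ≠ 0 := smul_ne_zero c.ne_zero hA.ne_zero
  obtain ⟨d, hd, -, h3⟩ := kron_eq_kron h1 hA0 hB
  exact ⟨d⁻¹, inv_ne_zero hd, h3⟩

/-- A symmetric-alternating product in odd characteristic. -/
theorem ClsGeometric.of_kron_odd [Nonempty ι] (hM : CF σ M) (hσ : σ = RingEquiv.refl F)
    (hodd : Odd (Fintype.card F)) {G : Subgroup (GL ι F)} (hGM : G ≤ similarityGroup (frm σ M))
    (hirr : ActsIrreducibly (matrixSet G)) {a m : ℕ} (ha : 2 ≤ a) (hm : 2 ≤ m)
    (e : ι ≃ Fin a × Fin m) (P : GL ι F)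
    (hGT : ∀ g ∈ G, ∃ (x : GL (Fin a) F) (y : GL (Fin m) F), g = glCoords e P (glKron x y))
    {A : Matrix (Fin a) (Fin a) F} {B : Matrix (Fin m) (Fin m) F}
    (hgram : coordGram σ M e P = A ⊗ₖ B) (hA : CF σ A) (hB : IsUnit B) (hBs : Bᵀ = B) :
    ClsGeometric σ M G := by
  subst hσ
  rcases Nat.lt_or_ge m 3 with hm3 | hm3
  swap
  · refine .tensor a m e P A B ha hm hgram hA hB (fun _ => ⟨hBs, hodd, hm3⟩)
      (fun h => absurd rfl h) fun g hg => ?_
    obtain ⟨x, y, rfl⟩ := hGT g hg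
    exact mem_tensorProductSubgroup_kron e P x y
  obtain rfl : m = 2 := by omega
  have h2 : (2 : F) ≠ 0 := two_ne_zero_iff_odd.2 hodd
  have hBd : IsUnit B.det := (Matrix.isUnit_iff_isUnit_det B).1 hB
  set J : Matrix (Fin 2) (Fin 2) F := !![0, 1; -1, 0] with hJ
  have hJt : Jᵀ = -J := by
    ext i j
    fin_cases i <;> fin_cases j <;> simp [hJ]
  set T : Matrix (Fin 2) (Fin 2) F := B⁻¹ * J with hT
  set X : Matrix (Fin a × Fin 2) (Fin a × Fin 2) F := (1 : Matrix (Fin a) (Fin a) F) ⊗ₖ T with hX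
  set Y : Matrix ι ι F := matCoords e P X with hY
  let S : Set (Matrix ι ι F) := Set.range fun c : F => c • Y
  have hrange : Algebra.adjoin F S ≤ (Polynomial.aeval Y).range := by
    rw [Algebra.adjoin_le_iff]
    rintro _ ⟨c, rfl⟩
    exact ⟨c • Polynomial.X, by simp⟩
  have hcf := hM.coordGram e P
  rw [hgram] at hcf
  have hadjY : adj (RingEquiv.refl F) M Y = -Y := by
    have h1 := hM.adj_coords e P X
    rw [hgram] at h1
    have h3 : adj (RingEquiv.refl F) (A ⊗ₖ B) X = -X := by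
      refine hcf.adj_eq fun u v => ?_
      simp only [frm, formOfGram_eq, RingEquiv.coe_refl, Function.id_comp]
      rw [Matrix.dotProduct_mulVec (X *ᵥ u), ← Matrix.transpose_transpose X, Matrix.mulVec_transpose,
        Matrix.vecMul_vecMul, ← Matrix.dotProduct_mulVec, Matrix.transpose_transpose, Matrix.mulVec_mulVec]
      congr 2
      rw [hX, ← Matrix.kroneckerMap_transpose, Matrix.transpose_one, ← Matrix.mul_kronecker_mul, one_mul,
        Matrix.mul_neg, ← Matrix.mul_kronecker_mul, mul_one, hT, ← mul_assoc B, Matrix.mul_nonsing_inv _ hBd,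
        one_mul, Matrix.transpose_mul, Matrix.transpose_nonsing_inv, hBs, mul_assoc,
        Matrix.nonsing_inv_mul _ hBd, mul_one, hJt]
      ext ⟨i, u⟩ ⟨j, v⟩
      simp
    rw [h3] at h1
    rw [← (matCoords e P).apply_symm_apply (adj (RingEquiv.refl F) M Y), ← h1, map_neg]
  refine .of_comm hM hGM hirr (Algebra.adjoin F S) ?_ ?_ (adjoin_normalized fun g hg => ?_) ?_
  · intro u hu v hv
    obtain ⟨p, rfl⟩ := hrange hu
    obtain ⟨r, rfl⟩ := hrange hv
    exact Commute.map (Commute.all p r) (Polynomial.aeval Y).toRingHom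
  · intro hbot
    have hYm : Y ∈ (⊥ : Subalgebra F (Matrix ι ι F)) :=
      hbot ▸ Algebra.subset_adjoin ⟨1, one_smul F Y⟩
    obtain ⟨c, hc⟩ := Algebra.mem_bot.1 hYm
    have h1 : X = algebraMap F _ c := (matCoords e P).injective (by rw [AlgEquiv.commutes, hc, ← hY])
    have h3 : T = c • 1 := by
      ext u v
      have := congrFun (congrFun h1 (⟨0, by omega⟩, u)) (⟨0, by omega⟩, v)
      simpa [hX, Algebra.algebraMap_eq_smul_one, Matrix.one_apply] using this
    have h4 : J = c • B := by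
      rw [← one_mul J, ← Matrix.mul_nonsing_inv _ hBd, mul_assoc, ← hT, h3, Matrix.mul_smul, mul_one]
    have h5 := congrArg Matrix.transpose h4
    rw [hJt, Matrix.transpose_smul, hBs, ← h4] at h5
    have h6 := congrFun (congrFun h5 0) 1
    simp [hJ] at h6
    exact h2 (by linear_combination -h6)
  · rintro _ ⟨d, rfl⟩
    obtain ⟨x, y, rfl⟩ := hGT g hg
    have hsim := similar_coords (σ := RingEquiv.refl F) (M := M) e P (hGM hg)
    rw [hgram] at hsim
    have hB0 : B ≠ 0 := hB.ne_zero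
    obtain ⟨ν, hν, hy⟩ := similar_factor hA.unit hB0 (by omega) hsim
    set y' : Matrix (Fin 2) (Fin 2) F := (y : Matrix (Fin 2) (Fin 2) F) with hy'
    rw [show y'.map (RingEquiv.refl F) = y' from by ext; simp] at hy
    have hdet : y'.det ≠ 0 := ((Matrix.isUnit_iff_isUnit_det y').1 y.isUnit).ne_zero
    have hyJ : y'ᵀ * J * y' = y'.det • J := by
      ext i j
      fin_cases i <;> fin_cases j <;>
        simp [hJ, Matrix.mul_apply, Fin.sum_univ_two, Matrix.det_fin_two] <;> ring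
    have e1 : y' * B⁻¹ * y'ᵀ = ν • B⁻¹ := by
      have h6 : (ν⁻¹ • (B⁻¹ * y'ᵀ * B)) * y' = 1 := by
        rw [Matrix.smul_mul, mul_assoc B⁻¹, mul_assoc B⁻¹, hy, Matrix.mul_smul,
          Matrix.nonsing_inv_mul _ hBd, smul_smul, inv_mul_cancel₀ hν, one_smul]
      have h7 := mul_eq_one_comm.1 h6
      rw [Matrix.mul_smul, inv_smul_eq_iff₀ hν] at h7
      have := congrArg (fun z => z * B⁻¹) h7
      simpa only [mul_assoc, Matrix.mul_nonsing_inv _ hBd, mul_one, Matrix.smul_mul, one_mul] using this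
    have e2 : y' * T * ((y⁻¹ : GL (Fin 2) F) : Matrix (Fin 2) (Fin 2) F) = (ν / y'.det) • T := by
      have hJy : J * ((y⁻¹ : GL (Fin 2) F) : Matrix (Fin 2) (Fin 2) F) = y'.det⁻¹ • (y'ᵀ * J) := by
        have := congrArg (fun z => z * ((y⁻¹ : GL (Fin 2) F) : Matrix (Fin 2) (Fin 2) F)) hyJ
        simp only [mul_assoc, hy', ← Units.val_mul, mul_inv_cancel, Units.val_one, mul_one,
          Matrix.smul_mul] at this
        rw [this, smul_smul, inv_mul_cancel₀ hdet, one_smul]
      rw [hT, mul_assoc, mul_assoc, hJy, Matrix.mul_smul, Matrix.mul_smul, ← mul_assoc B⁻¹,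
        ← mul_assoc, ← mul_assoc, e1, Matrix.smul_mul, smul_smul]
      congr 1
      rw [div_eq_inv_mul]
    refine ⟨d * (ν / y'.det), ?_⟩
    show (d * (ν / y'.det)) • Y = glConj (glCoords e P (glKron x y)) (d • Y)
    rw [map_smul, ← smul_smul]
    congr 1
    rw [hY, glConj_apply, ← map_inv, glCoords_val, glCoords_val, ← map_mul, ← map_mul, ← map_smul]
    congr 1
    show (ν / y'.det) • ((1 : Matrix (Fin a) (Fin a) F) ⊗ₖ T) =
      ((x : Matrix (Fin a) (Fin a) F) ⊗ₖ y') * ((1 : Matrix (Fin a) (Fin a) F) ⊗ₖ T) *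
        (((x⁻¹ : GL (Fin a) F) : Matrix (Fin a) (Fin a) F) ⊗ₖ ((y⁻¹ : GL (Fin 2) F) : Matrix (Fin 2) (Fin 2) F))
    rw [← Matrix.mul_kronecker_mul, ← Matrix.mul_kronecker_mul, mul_one, ← Units.val_mul, mul_inv_cancel,
      Units.val_one, e2, Matrix.kronecker_smul]
  · intro Z hZ
    induction hZ using Algebra.adjoin_induction with
    | mem z hz =>
      obtain ⟨c, rfl⟩ := hz
      rw [hM.adj_smul, hadjY]
      exact Algebra.subset_adjoin ⟨-c, by simp⟩
    | algebraMap r => rw [hM.adj_algebraMap]; exact Subalgebra.algebraMap_mem _ _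
    | add u v _ _ hu hv => rw [hM.adj_add]; exact add_mem hu hv
    | mul u v _ _ hu hv => rw [hM.adj_mul]; exact mul_mem hv hu

/-- An alternating-symmetric product in characteristic two. -/
theorem ClsGeometric.of_kron_even [Nonempty ι] (hM : CF σ M) (hσ : σ = RingEquiv.refl F)
    (heven : ¬ Odd (Fintype.card F)) {G : Subgroup (GL ι F)} (hGM : G ≤ similarityGroup (frm σ M))
    {a m : ℕ} (ha : 2 ≤ a) (hm : 2 ≤ m)
    (e : ι ≃ Fin a × Fin m) (P : GL ι F)
    (hGT : ∀ g ∈ G, ∃ (x : GL (Fin a) F) (y : GL (Fin m) F), g = glCoords e P (glKron x y))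
    {A : Matrix (Fin a) (Fin a) F} {B : Matrix (Fin m) (Fin m) F}
    (hgram : coordGram σ M e P = A ⊗ₖ B) (hA : CF σ A) (hB : IsUnit B) (hBs : Bᵀ = B) :
    ClsGeometric σ M G := by
  classical
  subst hσ
  have h2 : (2 : F) = 0 := by
    by_contra h
    exact heven (two_ne_zero_iff_odd.1 h)
  by_cases hd : ∀ j, B j j = 0
  · obtain ⟨hAs, hAd⟩ : Aᵀ = -A ∧ ∀ i, A i i = 0 := by
      rcases hA.kind with ⟨h, -⟩ | ⟨-, h⟩
      · exact absurd rfl h
      · exact h
    have hBn : Bᵀ = -B := by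
      ext i j
      rw [hBs, Matrix.neg_apply]
      linear_combination B i j * h2
    obtain ⟨Q, hQ, hpol, hle⟩ := exists_quad_of_tensor rfl heven hM (by omega) e P hgram hAs hAd hBn hd
    refine .quad Q rfl heven hQ hpol fun g hg => hle ⟨?_, hGM hg⟩
    obtain ⟨x, y, rfl⟩ := hGT g hg
    exact mem_tensorProductSubgroup_kron e P x y
  simp only [not_forall] at hd
  obtain ⟨j0, hj0⟩ := hd
  let qB : (Fin m → F) → F := fun u => frm (RingEquiv.refl F) B u u
  have hsymm : ∀ u v, frm (RingEquiv.refl F) B u v = frm (RingEquiv.refl F) B v u := by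
    intro u v
    rw [frm_swap_mat, hBs]
    rfl
  have hadd : ∀ u v, qB (u + v) = qB u + qB v := fun u v => by
    simp only [qB, frm_add_left, frm_add_right, hsymm v u]
    linear_combination frm (RingEquiv.refl F) B u v * h2
  have hsmul : ∀ (c : F) u, qB (c • u) = c ^ 2 * qB u := fun c u => by
    simp only [qB, frm_smul_left, frm_smul_right, RingEquiv.refl_apply]
    ring
  let row : (ι → F) → Fin a → Fin m → F := fun v i j => vecCoords e P v (i, j)
  let W : Submodule F (ι → F) :=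
    { carrier := {v | ∀ i, qB (row v i) = 0}
      add_mem' := fun {u v} hu hv i => by
        show qB (row (u + v) i) = 0
        rw [show row (u + v) i = row u i + row v i from by funext j; simp [row], hadd, hu i, hv i,
          add_zero]
      zero_mem' := fun i => by
        show qB (row 0 i) = 0
        rw [show row 0 i = (0 : F) • (0 : Fin m → F) from by funext j; simp [row], hsmul]
        simp
      smul_mem' := fun c v hv i => by
        show qB (row (c • v) i) = 0
        rw [show row (c • v) i = c • row v i from by funext j; simp [row], hsmul, hv i, mul_zero] }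
  have hqe : ∀ j, qB (Pi.single j 1) = B j j := fun j => formOfGram_single (RingEquiv.refl F) B j j
  obtain ⟨u, hu, hu0⟩ : ∃ u : Fin m → F, qB u = 0 ∧ u ≠ 0 := by
    obtain ⟨j, hj⟩ : ∃ j : Fin m, j ≠ j0 := by
      by_cases h : j0 = ⟨0, by omega⟩
      · exact ⟨⟨1, by omega⟩, by rw [h]; simp⟩
      · exact ⟨_, Ne.symm h⟩
    haveI : CharP F 2 := CharTwo.of_one_ne_zero_of_two_eq_zero one_ne_zero h2
    obtain ⟨s, hs⟩ := FiniteField.isSquare_of_char_two (ringChar.eq_iff.2 ‹CharP F 2›) (B j j / B j0 j0)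
    refine ⟨s • Pi.single j0 1 + Pi.single j 1, ?_, fun h => ?_⟩
    · rw [hadd, hsmul, hqe, hqe, sq, ← hs, div_mul_cancel₀ _ hj0]
      linear_combination B j j * h2
    · have := congrFun h j
      simp [hj, Ne.symm hj] at this
  have hG' : G ≤ subspaceStabilizer W := by
    have hfw : ∀ g ∈ G, ∀ v ∈ W, (g : Matrix ι ι F) *ᵥ v ∈ W := by
      intro g hg v hv i
      obtain ⟨x, y, rfl⟩ := hGT g hg
      have hsim := similar_coords (σ := RingEquiv.refl F) (M := M) e P (hGM hg)
      rw [hgram] at hsim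
      haveI : Nonempty (Fin m) := ⟨⟨0, by omega⟩⟩
      obtain ⟨ν, -, hy⟩ := similar_factor hA.unit hB.ne_zero (by omega) hsim
      have hrow : row (((glCoords e P (glKron x y) : GL ι F) : Matrix ι ι F) *ᵥ v) i =
          ∑ i', (x : Matrix (Fin a) (Fin a) F) i i' • ((y : Matrix (Fin m) (Fin m) F) *ᵥ row v i') := by
        funext j
        show vecCoords e P _ (i, j) = _
        rw [glCoords_val, vecCoords_matCoords, glKron_val, Finset.sum_apply]
        simp only [Matrix.mulVec, dotProduct, Fintype.sum_prod_type, Matrix.kroneckerMap_apply,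
          Pi.smul_apply, smul_eq_mul, Finset.mul_sum, mul_assoc, row]
      show qB (row _ i) = 0
      rw [hrow]
      refine (map_sum (AddMonoidHom.mk' qB hadd) _ _).trans (Finset.sum_eq_zero fun i' _ => ?_)
      show qB (_ • _) = 0
      rw [hsmul]
      have h1 : qB ((y : Matrix (Fin m) (Fin m) F) *ᵥ row v i') = ν * qB (row v i') := by
        show frm _ B _ _ = _
        rw [frm, formOfGram_act, hy, formOfGram_smul_gram]
      rw [h1, hv i', mul_zero, mul_zero]
    intro g hg v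
    refine ⟨hfw g hg v, fun hv => ?_⟩
    have h1 : ((g⁻¹ : GL ι F) : Matrix ι ι F) *ᵥ ((g : Matrix ι ι F) *ᵥ v) ∈ W :=
      hfw g⁻¹ (inv_mem hg) _ hv
    rwa [Matrix.mulVec_mulVec, ← Units.val_mul, inv_mul_cancel, Units.val_one, Matrix.one_mulVec] at h1
  refine .of_invariant hM hGM (W := W) (fun hbot => ?_) (fun htop => ?_) hG'
  · obtain ⟨v, hv⟩ := (vecCoords_bijective e P).2 (fun p => if p.1 = ⟨0, by omega⟩ then u p.2 else 0)
    have hvW : v ∈ W := fun i => by
      by_cases hi : i = ⟨0, by omega⟩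
      · rw [show row v i = u from by funext j; simp [row, hv, hi]]
        exact hu
      · rw [show row v i = (0 : F) • u from by funext j; simp [row, hv, hi], hsmul]
        simp
    rw [hbot, Submodule.mem_bot] at hvW
    refine hu0 (funext fun j => ?_)
    have := congrFun hv (⟨0, by omega⟩, j)
    simpa [hvW] using this.symm
  · obtain ⟨v, hv⟩ := (vecCoords_bijective e P).2
      (fun p => if p.1 = ⟨0, by omega⟩ then (Pi.single j0 1 : Fin m → F) p.2 else 0)
    have hvW : v ∈ W := htop ▸ Submodule.mem_top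
    have h1 := hvW ⟨0, by omega⟩
    rw [show row v ⟨0, by omega⟩ = Pi.single j0 1 from by funext j; simp [row, hv], hqe] at h1
    exact hj0 h1

theorem exists_hermitian_sqrt (hσ : σ ≠ RingEquiv.refl F) {a : ℕ} {A : Matrix (Fin a) (Fin a) F}
    (hA : CF σ A) :
    ∃ D : GL (Fin a) F, (D : Matrix (Fin a) (Fin a) F)ᵀ * (D : Matrix (Fin a) (Fin a) F).map σ = A := by
  obtain ⟨q, hq, hpow⟩ := exists_sigma_pow hσ hA.inv
  rcases hA.kind with ⟨-, hh⟩ | ⟨h, -⟩
  swap
  · exact absurd h hσ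
  have hmap : ∀ Z : Matrix (Fin a) (Fin a) F, H51.adj hq Z = (Z.map σ)ᵀ := fun Z => by
    rw [H51.adj_def]
    congr 1
    ext i j
    simp [hpow]
  obtain ⟨c, hcu, hc⟩ := H51.exists_adj_mul_self hq (s := A) (by rw [hmap, hh]) hA.unit
  rw [hmap] at hc
  refine ⟨(hcu.map (σ.toRingHom.mapMatrix (m := Fin a))).unit, ?_⟩
  rw [IsUnit.unit_spec]
  show (c.map σ)ᵀ * (c.map σ).map σ = A
  rw [show (c.map σ).map σ = c from by ext i j; simp [hA.inv], hc]

theorem CF.one_of_unitary {κ : Type} [Fintype κ] [DecidableEq κ] (hσ : σ ≠ RingEquiv.refl F)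
    (hinv : ∀ a, σ (σ a) = a) : CF σ (1 : Matrix κ κ F) :=
  ⟨isUnit_one, hinv, Or.inl ⟨hσ, by rw [Matrix.map_one σ (map_zero σ) (map_one σ), Matrix.transpose_one]⟩⟩

/-- An element which is a scalar times a matrix over a subfield in coordinates. -/
theorem mem_subfieldSubgroup_of_smul (F₁ : Subfield F) (P g : GL ι F) (c : F) (hc : c ≠ 0)
    (X : Matrix ι ι F) (hX : ∀ i j, X i j ∈ F₁)
    (hg : ((P⁻¹ * g * P : GL ι F) : Matrix ι ι F) = c • X) : g ∈ subfieldSubgroup F₁ P := by
  let M₁ : Matrix ι ι F₁ := fun i j => ⟨X i j, hX i j⟩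
  have hMmap : M₁.map (F₁.subtype : F₁ →+* F) = X := rfl
  have hMdet : IsUnit M₁.det := by
    rw [isUnit_iff_ne_zero]
    intro h0
    have := congrArg (F₁.subtype : F₁ →+* F) h0
    rw [RingHom.map_det, map_zero, RingHom.mapMatrix_apply, hMmap] at this
    have h1 := ((Matrix.isUnit_iff_isUnit_det _).1 (P⁻¹ * g * P : GL ι F).isUnit).ne_zero
    rw [hg, Matrix.det_smul, this, mul_zero] at h1
    exact h1 rfl
  refine ⟨P⁻¹ * g * P, ?_, by show P * (P⁻¹ * g * P) * P⁻¹ = g; group⟩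
  have hsplit : P⁻¹ * g * P = (Units.map (Matrix.scalar ι : F →+* Matrix ι ι F).toMonoidHom (Units.mk0 c hc))
      * Matrix.GeneralLinearGroup.map (F₁.subtype : F₁ →+* F)
          ((Matrix.isUnit_iff_isUnit_det M₁).2 hMdet).unit := by
    apply Units.ext
    refine Eq.trans ?_ (Units.val_mul _ _).symm
    show _ = Matrix.scalar ι (Units.mk0 c hc : Fˣ).val * M₁.map (F₁.subtype : F₁ →+* F)
    rw [hg, hMmap, Units.val_mk0, Matrix.scalar_apply,
      ← Matrix.smul_one_eq_diagonal, Matrix.smul_mul, one_mul]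
  rw [SetLike.mem_coe, hsplit]
  exact mul_mem (Subgroup.mem_sup_right ⟨_, rfl⟩) (Subgroup.mem_sup_left ⟨_, rfl⟩)

/-- Two factors of size two of a Hermitian space: a subfield of index two. -/
theorem ClsGeometric.of_kron_two [Nonempty ι] (hσ : σ ≠ RingEquiv.refl F) (hM : CF σ M)
    {G : Subgroup (GL ι F)} (hGM : G ≤ similarityGroup (frm σ M)) (e : ι ≃ Fin 2 × Fin 2) (P : GL ι F)
    (hGT : ∀ g ∈ G, ∃ (x : GL (Fin 2) F) (y : GL (Fin 2) F), g = glCoords e P (glKron x y))
    {A B : Matrix (Fin 2) (Fin 2) F} (hA : CF σ A) (hB : CF σ B)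
    (hgram : coordGram σ M e P = A ⊗ₖ B) : ClsGeometric σ M G := by
  classical
  set J : Matrix (Fin 2) (Fin 2) F := !![0, 1; -1, 0] with hJ
  have hJt : Jᵀ = -J := by
    ext i j
    fin_cases i <;> fin_cases j <;> simp [hJ]
  have hJu : IsUnit J := by
    rw [Matrix.isUnit_iff_isUnit_det, hJ, Matrix.det_fin_two_of]
    simp
  have hJσ : J.map σ = J := by
    ext i j
    fin_cases i <;> fin_cases j <;> simp [hJ]
  obtain ⟨ξ, hξ, hξ0⟩ : ∃ ξ : F, σ ξ = -ξ ∧ ξ ≠ 0 := by
    by_contra hcon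
    simp only [not_exists, not_and, not_not] at hcon
    refine hσ (RingEquiv.ext fun a => ?_)
    have := hcon (a - σ a) (by rw [map_sub, hM.inv]; ring)
    exact (sub_eq_zero.1 this).symm
  have hC : CF σ (ξ • J) := ⟨by
      rw [show ξ • J = (Units.mk0 ξ hξ0) • J from rfl]; exact hJu.smul _, hM.inv,
    Or.inl ⟨hσ, by
      rw [show (ξ • J).map σ = σ ξ • J.map σ from by ext; simp, hJσ, Matrix.transpose_smul, hJt, hξ,
        smul_neg, neg_smul, neg_neg]⟩⟩
  obtain ⟨D₀, hD₀⟩ := exists_hermitian_sqrt hσ hC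
  have hnew : ∀ {C : Matrix (Fin 2) (Fin 2) F}, CF σ C → ∃ X : GL (Fin 2) F,
      (X : Matrix (Fin 2) (Fin 2) F)ᵀ * C * (X : Matrix (Fin 2) (Fin 2) F).map σ = ξ • J := by
    intro C hC'
    obtain ⟨D, hD⟩ := exists_hermitian_sqrt hσ hC'
    refine ⟨D⁻¹ * D₀, ?_⟩
    rw [← hD, Units.val_mul, Matrix.transpose_mul, Matrix.map_mul]
    calc (D₀ : Matrix (Fin 2) (Fin 2) F)ᵀ * ((D⁻¹ : GL (Fin 2) F) : Matrix (Fin 2) (Fin 2) F)ᵀ *
          ((D : Matrix (Fin 2) (Fin 2) F)ᵀ * (D : Matrix (Fin 2) (Fin 2) F).map σ) *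
          (((D⁻¹ : GL (Fin 2) F) : Matrix (Fin 2) (Fin 2) F).map σ * (D₀ : Matrix (Fin 2) (Fin 2) F).map σ)
        = (D₀ : Matrix (Fin 2) (Fin 2) F)ᵀ * (((D⁻¹ : GL (Fin 2) F) : Matrix (Fin 2) (Fin 2) F)ᵀ *
          (D : Matrix (Fin 2) (Fin 2) F)ᵀ) * ((D : Matrix (Fin 2) (Fin 2) F).map σ *
          ((D⁻¹ : GL (Fin 2) F) : Matrix (Fin 2) (Fin 2) F).map σ) * (D₀ : Matrix (Fin 2) (Fin 2) F).map σ := by
          simp only [mul_assoc]
      _ = ξ • J := by
          rw [← Matrix.transpose_mul, ← Matrix.map_mul, ← Units.val_mul, mul_inv_cancel, Units.val_one,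
            Matrix.map_one σ (map_zero σ) (map_one σ), Matrix.transpose_one, mul_one, mul_one, hD₀]
  obtain ⟨Xa, hXa⟩ := hnew hA
  obtain ⟨Xb, hXb⟩ := hnew hB
  set X : GL (Fin 2 × Fin 2) F := glKron Xa Xb with hX
  set P' : GL ι F := P * glCoords e 1 X with hP'
  have hgram' : coordGram σ M e P' = (ξ • J) ⊗ₖ (ξ • J) := by
    rw [hP', coordGram_mul, hgram, hX, glKron_val, ← Matrix.kroneckerMap_transpose,
      show ((Xa : Matrix (Fin 2) (Fin 2) F) ⊗ₖ (Xb : Matrix (Fin 2) (Fin 2) F)).map σ = _ from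
        kron_map σ.toRingHom _ _, ← Matrix.mul_kronecker_mul, ← Matrix.mul_kronecker_mul]
    exact congrArg₂ _ hXa hXb
  have hGT' : ∀ g ∈ G, ∃ (x : GL (Fin 2) F) (y : GL (Fin 2) F), g = glCoords e P' (glKron x y) := by
    intro g hg
    obtain ⟨x, y, rfl⟩ := hGT g hg
    refine ⟨Xa⁻¹ * x * Xa, Xb⁻¹ * y * Xb, ?_⟩
    rw [hP', glCoords_mul_right]
    congr 1
    apply Units.ext
    show (x : Matrix (Fin 2) (Fin 2) F) ⊗ₖ (y : Matrix (Fin 2) (Fin 2) F) =
      ((Xa : Matrix (Fin 2) (Fin 2) F) ⊗ₖ (Xb : Matrix (Fin 2) (Fin 2) F)) *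
        (((Xa⁻¹ * x * Xa : GL (Fin 2) F) : Matrix (Fin 2) (Fin 2) F) ⊗ₖ
          ((Xb⁻¹ * y * Xb : GL (Fin 2) F) : Matrix (Fin 2) (Fin 2) F)) *
        (((Xa⁻¹ : GL (Fin 2) F) : Matrix (Fin 2) (Fin 2) F) ⊗ₖ ((Xb⁻¹ : GL (Fin 2) F) : Matrix (Fin 2) (Fin 2) F))
    rw [← Matrix.mul_kronecker_mul, ← Matrix.mul_kronecker_mul]
    congr 1 <;> simp [mul_assoc]
  let F₁ : Subfield F := σ.toRingHom.eqLocusField (RingHom.id F)
  have hF₁ : ∀ a, a ∈ F₁ ↔ σ a = a := fun a => Iff.rfl
  have hcard : Fintype.card F = Nat.card F₁ ^ 2 :=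
    (card_fixed_sq σ.toRingHom (fun h => hσ (RingEquiv.ext fun a => RingHom.congr_fun h a)) hM.inv).symm
  -- a similitude of the factor is a scalar times a fixed matrix
  have hfix : ∀ (y : GL (Fin 2) F) (ν : F), ν ≠ 0 →
      (y : Matrix (Fin 2) (Fin 2) F)ᵀ * (ξ • J) * (y : Matrix (Fin 2) (Fin 2) F).map σ = ν • (ξ • J) →
      ∃ (s : F) (H : Matrix (Fin 2) (Fin 2) F), s ≠ 0 ∧ (∀ i j, H i j ∈ F₁) ∧
        (y : Matrix (Fin 2) (Fin 2) F) = s • H := by
    intro y ν hν hy
    set Y := (y : Matrix (Fin 2) (Fin 2) F) with hY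
    have hdet : Y.det ≠ 0 := ((Matrix.isUnit_iff_isUnit_det Y).1 y.isUnit).ne_zero
    have hYJ : Yᵀ * J * Y = Y.det • J := by
      ext i j
      fin_cases i <;> fin_cases j <;>
        simp [hJ, Matrix.mul_apply, Fin.sum_univ_two, Matrix.det_fin_two] <;> ring
    have hy' : Yᵀ * J * Y.map σ = ν • J := by
      rw [Matrix.mul_smul, Matrix.smul_mul, smul_comm ν ξ] at hy
      exact smul_right_injective _ hξ0 hy
    have hσY : Y.map σ = (ν / Y.det) • Y := by
      refine (((Matrix.isUnit_transpose _).2 y.isUnit).mul hJu).mul_left_cancel ?_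
      rw [← hY, hy', Matrix.mul_smul, hYJ, smul_smul, div_mul_cancel₀ _ hdet]
    obtain ⟨i, j, hij⟩ : ∃ i j, Y i j ≠ 0 := by
      by_contra hcon
      simp only [not_exists, not_not] at hcon
      exact y.ne_zero (Matrix.ext hcon)
    refine ⟨Y i j, (Y i j)⁻¹ • Y, hij, fun u v => ?_, by rw [smul_smul, mul_inv_cancel₀ hij, one_smul]⟩
    rw [hF₁, Matrix.smul_apply, smul_eq_mul, map_mul, map_inv₀]
    have h1 := congrFun (congrFun hσY u) v
    have h2 := congrFun (congrFun hσY i) j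
    simp only [Matrix.map_apply, Matrix.smul_apply, smul_eq_mul] at h1 h2
    rw [h1, h2, mul_inv, mul_mul_mul_comm, inv_mul_cancel₀ (div_ne_zero hν hdet), one_mul]
  refine .subfield F₁ 2 P' (ξ * ξ)⁻¹ Nat.prime_two hcard (inv_ne_zero (mul_ne_zero hξ0 hξ0)) ?_ fun g hg => ?_
  · intro u v hu hv
    have hue : (u ∘ e.symm) ∘ e = u := by funext i; simp
    have hve : (v ∘ e.symm) ∘ e = v := by funext i; simp
    rw [← hue, ← hve, frm_coords, hgram', kron_smul_smul, frm, formOfGram_smul_gram, ← mul_assoc,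
      inv_mul_cancel₀ (mul_ne_zero hξ0 hξ0), one_mul, formOfGram]
    have hJm : ∀ i j, J i j ∈ F₁ := fun i j => by
      rw [hF₁]
      exact congrFun (congrFun hJσ i) j
    refine sum_mem fun p _ => sum_mem fun r _ => ?_
    simp only [hue, hve, Function.comp_apply, Matrix.kroneckerMap_apply]
    exact F₁.mul_mem (F₁.mul_mem (hu _) (F₁.mul_mem (hJm _ _) (hJm _ _)))
      (ringEquiv_mem_subfield σ F₁ (hv _))
  · obtain ⟨x, y, rfl⟩ := hGT' g hg
    have hsim := similar_coords (σ := σ) (M := M) e P' (hGM hg)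
    rw [hgram'] at hsim
    obtain ⟨ν, hν, hy⟩ := similar_factor hC.unit hC.unit.ne_zero (by omega) hsim
    have hsim' := similar_coords (σ := σ) (M := M) (e.trans (Equiv.prodComm (Fin 2) (Fin 2))) P'
      (h := glKron y x) (by rw [glCoords_swap]; exact hGM hg)
    rw [coordGram_swap hgram'] at hsim'
    obtain ⟨ν', hν', hx⟩ := similar_factor hC.unit hC.unit.ne_zero (by omega) hsim'
    obtain ⟨s, H, hs, hH, hxH⟩ := hfix x ν' hν' hx
    obtain ⟨t, K, ht, hK, hyK⟩ := hfix y ν hν hy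
    refine mem_subfieldSubgroup_of_smul F₁ P' _ (s * t) (mul_ne_zero hs ht)
      ((H ⊗ₖ K).submatrix e e) (fun i j => F₁.mul_mem (hH _ _) (hK _ _)) ?_
    rw [Units.val_mul, Units.val_mul, glCoords_val, matCoords, AlgEquiv.trans_apply, glConj_apply]
    simp only [← mul_assoc, ← Units.val_mul, inv_mul_cancel, Units.val_one, one_mul]
    rw [mul_assoc, ← Units.val_mul, inv_mul_cancel, Units.val_one, mul_one, glKron_val, hxH, hyK,
      kron_smul_smul, map_smul]
    rfl

/-- All elements respect one tensor decomposition. -/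
theorem ClsGeometric.of_kron [Nonempty ι] (hM : CF σ M)
    {G : Subgroup (GL ι F)}
    (hGM : G ≤ similarityGroup (frm σ M)) (hirr : ActsIrreducibly (matrixSet G))
    {a m : ℕ} (ha : 2 ≤ a) (hm : 2 ≤ m) (e : ι ≃ Fin a × Fin m) (P : GL ι F)
    (hGT : ∀ g ∈ G, ∃ (x : GL (Fin a) F) (y : GL (Fin m) F), g = glCoords e P (glKron x y))
    {A : Matrix (Fin a) (Fin a) F} {B : Matrix (Fin m) (Fin m) F}
    (hgram : coordGram σ M e P = A ⊗ₖ B) : ClsGeometric σ M G := by
  classical
  haveI : Nonempty (Fin a) := ⟨⟨0, by omega⟩⟩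
  haveI : Nonempty (Fin m) := ⟨⟨0, by omega⟩⟩
  have hcf := hM.coordGram e P
  rw [hgram] at hcf
  obtain ⟨hAu, hBu⟩ := isUnit_kron_factors (by omega) (by omega) hcf.unit
  have hGT' : ∀ g ∈ G, ∃ (x : GL (Fin m) F) (y : GL (Fin a) F),
      g = glCoords (e.trans (Equiv.prodComm (Fin a) (Fin m))) P (glKron x y) := fun g hg => by
    obtain ⟨x, y, rfl⟩ := hGT g hg
    exact ⟨y, x, (glCoords_swap e P x y).symm⟩
  rcases hcf.kind with ⟨hσ, hh⟩ | ⟨hσ, hsk, hdg⟩
  · -- Hermitian
    rw [show (A ⊗ₖ B).map σ = _ from kron_map σ.toRingHom A B, ← Matrix.kroneckerMap_transpose] at hh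
    obtain ⟨l, hl, hlA, hlB⟩ := kron_eq_kron hh hAu.ne_zero hBu.ne_zero
    replace hlA : (A.map σ)ᵀ = l • A := hlA
    replace hlB : (B.map σ)ᵀ = l⁻¹ • B := hlB
    have hll : σ l * l = 1 := by
      have h1 := congrArg (fun Z => (Z.map σ)ᵀ) hlA
      have h2 : ((A.map σ)ᵀ.map σ)ᵀ = A := by
        ext i j; simp [hM.inv]
      rw [h2, show ((l • A).map σ)ᵀ = σ l • (A.map σ)ᵀ from by ext i j; simp, hlA, smul_smul] at h1
      obtain ⟨i, j, hij⟩ : ∃ i j, A i j ≠ 0 := by
        by_contra hcon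
        simp only [not_exists, not_not] at hcon
        exact hAu.ne_zero (Matrix.ext hcon)
      have h3 := congrFun (congrFun h1 i) j
      simp only [Matrix.smul_apply, smul_eq_mul] at h3
      exact mul_right_cancel₀ hij (by rw [one_mul]; exact h3.symm)
    obtain ⟨μ, hμ0, hμ⟩ : ∃ μ : F, μ ≠ 0 ∧ l * σ μ = μ := by
      by_contra hcon
      simp only [not_exists, not_and] at hcon
      have hz : ∀ c : F, c + l * σ c = 0 := fun c => by
        by_contra h
        refine hcon _ h ?_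
        rw [map_add, map_mul, hM.inv]
        linear_combination c * hll
      have h1 := hz 1
      rw [map_one, mul_one] at h1
      refine hσ (RingEquiv.ext fun c => ?_)
      show σ c = c
      linear_combination σ c * h1 - hz c
    have hA' : CF σ (μ • A) := ⟨by rw [show μ • A = (Units.mk0 μ hμ0) • A from rfl]; exact hAu.smul _, hM.inv,
      Or.inl ⟨hσ, by
        rw [show ((μ • A).map σ)ᵀ = σ μ • (A.map σ)ᵀ from by ext i j; simp, hlA, smul_smul,
          mul_comm (σ μ) l, hμ]⟩⟩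
    have hB' : CF σ (μ⁻¹ • B) := ⟨by rw [show μ⁻¹ • B = (Units.mk0 μ⁻¹ (inv_ne_zero hμ0)) • B from rfl]; exact hBu.smul _, hM.inv,
      Or.inl ⟨hσ, by
        rw [show ((μ⁻¹ • B).map σ)ᵀ = σ μ⁻¹ • (B.map σ)ᵀ from by ext i j; simp, hlB, smul_smul,
          map_inv₀, ← mul_inv, mul_comm (σ μ) l, hμ]⟩⟩
    have hgram' : coordGram σ M e P = (μ • A) ⊗ₖ (μ⁻¹ • B) := by
      rw [hgram, kron_smul_smul, mul_inv_cancel₀ hμ0, one_smul]
    rcases lt_trichotomy a m with hlt | rfl | hlt
    · refine .tensor a m e P _ _ ha hm hgram' hA' hB'.unit (fun h => absurd h hσ) (fun _ => ⟨hB', hlt⟩)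
        fun g hg => ?_
      obtain ⟨x, y, rfl⟩ := hGT g hg
      exact mem_tensorProductSubgroup_kron e P x y
    · rcases Nat.lt_or_ge a 3 with hlt3 | ha3
      · obtain rfl : a = 2 := by omega
        exact .of_kron_two hσ hM hGM e P hGT hA' hB' hgram'
      obtain ⟨Da, hDa⟩ := exists_hermitian_sqrt hσ hA'
      obtain ⟨Db, hDb⟩ := exists_hermitian_sqrt hσ hB'
      set K : GL (Fin a × Fin a) F := glKron Da Db with hK
      have hKg : (K : Matrix (Fin a × Fin a) (Fin a × Fin a) F)ᵀ *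
          (K : Matrix (Fin a × Fin a) (Fin a × Fin a) F).map σ = coordGram σ M e P := by
        rw [hgram', hK, glKron_val, ← Matrix.kroneckerMap_transpose,
          show ((Da : Matrix (Fin a) (Fin a) F) ⊗ₖ (Db : Matrix (Fin a) (Fin a) F)).map σ = _ from
            kron_map σ.toRingHom _ _, ← Matrix.mul_kronecker_mul]
        exact congrArg₂ _ hDa hDb
      set P' : GL ι F := P * glCoords e 1 K⁻¹ with hP'
      have hone : coordGram σ M e P' = 1 := by
        rw [hP', coordGram_mul, ← hKg, ← mul_assoc, ← Matrix.transpose_mul, mul_assoc]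
        rw [show (K : Matrix (Fin a × Fin a) (Fin a × Fin a) F).map σ *
            ((K⁻¹ : GL (Fin a × Fin a) F) : Matrix (Fin a × Fin a) (Fin a × Fin a) F).map σ = 1 from by
          rw [← Matrix.map_mul, ← Units.val_mul, mul_inv_cancel, Units.val_one,
            Matrix.map_one σ (map_zero σ) (map_one σ)]]
        rw [mul_one, ← Units.val_mul, mul_inv_cancel, Units.val_one, Matrix.transpose_one]
      refine .power a 2 (e.trans (finTwoArrowEquiv (Fin a)).symm) P' 1 ha le_rfl 1 one_ne_zero ?_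
        (CF.one_of_unitary hσ hM.inv) (fun h => absurd h hσ) (fun _ => ha3) fun g hg =>
        mem_tensorWreathSubgroup _ P' g (Subgroup.subset_closure (Or.inl ?_))
      · rw [coordGram_trans, hone, one_smul, Matrix.submatrix_one_equiv]
        exact ptm_one.symm
      · obtain ⟨x, y, rfl⟩ := hGT g hg
        refine ⟨![Da * x * Da⁻¹, Db * y * Db⁻¹], fun u v => ?_⟩
        rw [Fin.prod_univ_two]
        have hg' : glCoords e P (glKron x y) =
            glCoords e P' (glKron (Da * x * Da⁻¹) (Db * y * Db⁻¹)) := by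
          rw [hP', glCoords_mul_right]
          congr 1
          apply Units.ext
          show (x : Matrix (Fin a) (Fin a) F) ⊗ₖ (y : Matrix (Fin a) (Fin a) F) =
            (((Da⁻¹ : GL (Fin a) F) : Matrix (Fin a) (Fin a) F) ⊗ₖ ((Db⁻¹ : GL (Fin a) F) : Matrix (Fin a) (Fin a) F)) *
              (((Da * x * Da⁻¹ : GL (Fin a) F) : Matrix (Fin a) (Fin a) F) ⊗ₖ
                ((Db * y * Db⁻¹ : GL (Fin a) F) : Matrix (Fin a) (Fin a) F)) *
              ((Da : Matrix (Fin a) (Fin a) F) ⊗ₖ (Db : Matrix (Fin a) (Fin a) F))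
          rw [← Matrix.mul_kronecker_mul, ← Matrix.mul_kronecker_mul]
          congr 1 <;> simp [mul_assoc]
        have hval : ((glCoords (e.trans (finTwoArrowEquiv (Fin a)).symm) P').symm
            (glCoords e P (glKron x y)) : Matrix _ _ F) =
            Matrix.reindexAlgEquiv F F (finTwoArrowEquiv (Fin a)).symm
              (glKron (Da * x * Da⁻¹) (Db * y * Db⁻¹)).val := by
          rw [hg']
          apply (matCoords (e.trans (finTwoArrowEquiv (Fin a)).symm) P').injective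
          rw [matCoords_glCoords_symm, glCoords_val]
          simp only [matCoords, AlgEquiv.trans_apply]
          congr 1
        rw [hval]
        simp [glKron_val, finTwoArrowEquiv]
    · refine .tensor m a (e.trans (Equiv.prodComm _ _)) P _ _ hm ha (coordGram_swap hgram') hB' hA'.unit
        (fun h => absurd h hσ) (fun _ => ⟨hA', hlt⟩) fun g hg => ?_
      obtain ⟨x, y, rfl⟩ := hGT' g hg
      exact mem_tensorProductSubgroup_kron _ P x y
  · -- alternating
    subst hσ
    rw [← Matrix.kroneckerMap_transpose] at hsk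
    have hA0 : -A ≠ 0 := neg_ne_zero.2 hAu.ne_zero
    obtain ⟨l, hl, hlA, hlB⟩ := kron_eq_kron (A' := Aᵀ) (B' := Bᵀ) (A := -A) (B := B)
      (by rw [hsk]; ext ⟨i, u⟩ ⟨j, v⟩; simp) hA0 hBu.ne_zero
    have hll : l * l = 1 := by
      have h1 := congrArg Matrix.transpose hlA
      rw [Matrix.transpose_transpose, Matrix.transpose_smul, Matrix.transpose_neg, hlA] at h1
      simp only [smul_neg, neg_neg, smul_smul] at h1
      obtain ⟨i, j, hij⟩ : ∃ i j, A i j ≠ 0 := by
        by_contra hcon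
        simp only [not_exists, not_not] at hcon
        exact hAu.ne_zero (Matrix.ext hcon)
      have h3 := congrFun (congrFun h1 i) j
      simp only [Matrix.smul_apply, smul_eq_mul] at h3
      exact mul_right_cancel₀ hij (by rw [one_mul]; exact h3.symm)
    by_cases hodd : Odd (Fintype.card F)
    · have h2 : (2 : F) ≠ 0 := two_ne_zero_iff_odd.2 hodd
      rcases mul_self_eq_one_iff.1 hll with rfl | rfl
      · rw [one_smul] at hlA
        rw [inv_one, one_smul] at hlB
        refine .of_kron_odd hM rfl hodd hGM hirr ha hm e P hGT hgram ⟨hAu, fun _ => rfl, Or.inr ⟨rfl, hlA, ?_⟩⟩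
          hBu hlB
        intro i
        have h3 := congrFun (congrFun hlA i) i
        simp only [Matrix.transpose_apply, Matrix.neg_apply] at h3
        exact (mul_eq_zero.1 (show (2 : F) * A i i = 0 by linear_combination h3)).resolve_left h2
      · simp only [inv_neg, inv_one, neg_smul, one_smul, neg_neg] at hlA hlB
        refine .of_kron_odd hM rfl hodd hGM hirr hm ha _ P hGT' (coordGram_swap hgram)
          ⟨hBu, fun _ => rfl, Or.inr ⟨rfl, hlB, ?_⟩⟩ hAu hlA
        intro i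
        have h3 := congrFun (congrFun hlB i) i
        simp only [Matrix.transpose_apply, Matrix.neg_apply] at h3
        exact (mul_eq_zero.1 (show (2 : F) * B i i = 0 by linear_combination h3)).resolve_left h2
    · have h2 : (2 : F) = 0 := by
        by_contra h
        exact hodd (two_ne_zero_iff_odd.1 h)
      have hl1 : l = 1 := by
        have h4 : (l - 1) ^ 2 = 0 := by linear_combination hll - (l - 1) * h2
        exact sub_eq_zero.1 ((pow_eq_zero_iff two_ne_zero).1 h4)
      subst hl1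
      rw [one_smul] at hlA
      rw [inv_one, one_smul] at hlB
      have hneg : ∀ z : F, -z = z := fun z => by linear_combination (-z) * h2
      have hAs : Aᵀ = A := by rw [hlA]; ext i j; exact hneg _
      have hBn : Bᵀ = -B := by rw [hlB]; ext i j; exact (hneg _).symm
      by_cases hAd : ∀ i, A i i = 0
      · exact .of_kron_even hM rfl hodd hGM ha hm e P hGT hgram
          ⟨hAu, fun _ => rfl, Or.inr ⟨rfl, hlA, hAd⟩⟩ hBu hlB
      · simp only [not_forall] at hAd
        obtain ⟨i, hi⟩ := hAd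
        refine .of_kron_even hM rfl hodd hGM hm ha _ P hGT' (coordGram_swap hgram)
          ⟨hBu, fun _ => rfl, Or.inr ⟨rfl, hBn, fun j => ?_⟩⟩ hAu hAs
        exact (mul_eq_zero.1 (hdg (i, j))).resolve_left hi

end H46
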