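import Cfsg.Agent.H46.ClsOutcome
import Cfsg.Agent.H46.AschLinear
import Cfsg.Agent.H38.WittHerm

/-!
Rational structures on forms.
-/

set_option autoImplicit false
set_option linter.style.haveILetI false
set_option linter.unusedSectionVars false
set_option maxHeartbeats 800000

open Cfsg.Geo
open scoped Matrix Kronecker MatrixGroups

namespace H46

variable {ι : Type} [Fintype ι] [DecidableEq ι] {F : Type*} [Field F]

/-- A normalised set spanning over a proper subfield a space of dimension at most n² gives a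
subfield structure. -/
theorem subfield_of_span_rational [Fintype F] [Nonempty ι] {G : Subgroup (GL ι F)}
    (S : Set (Matrix ι ι F)) (h1 : (1 : Matrix ι ι F) ∈ S) (hmul : ∀ x ∈ S, ∀ y ∈ S, x * y ∈ S)
    (hS : Algebra.adjoin F S = ⊤) (hG : ∀ g ∈ G, ∀ s ∈ S, glConj g s ∈ S)
    (F₀ : Subfield F) (hF₀ : F₀ ≠ ⊤)
    (hdim : Module.finrank F₀ (Submodule.span F₀ S) ≤ Fintype.card ι * Fintype.card ι) :
    ∃ (F₁ : Subfield F) (r : ℕ) (P : GL ι F), F₀ ≤ F₁ ∧ r.Prime ∧
      Fintype.card F = Nat.card F₁ ^ r ∧ (∀ s ∈ S, ∀ i j, (glConj P⁻¹ s) i j ∈ F₁) ∧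
      G ≤ subfieldSubgroup F₁ P := by
  classical
  let T : Submonoid (Matrix ι ι F) := ⟨⟨S, fun {a b} ha hb => hmul a ha b hb⟩, h1⟩
  have hclS : (Submonoid.closure S : Set (Matrix ι ι F)) = S := by
    show ((Submonoid.closure (T : Set (Matrix ι ι F)) : Submonoid _) : Set (Matrix ι ι F)) = _
    rw [Submonoid.closure_eq]
    rfl
  set A₀ : Subalgebra F₀ (Matrix ι ι F) := Algebra.adjoin F₀ S with hA₀
  have hA₀span : A₀.toSubmodule = Submodule.span F₀ S := by
    rw [hA₀, Algebra.adjoin_eq_span, hclS]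
  have hspanF : Submodule.span F S = ⊤ := by
    have := congrArg Subalgebra.toSubmodule hS
    rwa [Algebra.adjoin_eq_span, hclS, Algebra.top_toSubmodule] at this
  have hnn : Module.finrank F (Matrix ι ι F) = Fintype.card ι * Fintype.card ι := by
    rw [Module.finrank_matrix]; simp
  -- an F-basis inside S
  obtain ⟨S', hS'sub, hS'span, hS'li⟩ := exists_linearIndependent F S
  rw [hspanF] at hS'span
  let b : Module.Basis S' F (Matrix ι ι F) :=
    Module.Basis.mk hS'li (by rw [Subtype.range_coe]; exact hS'span.ge)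
  haveI : Fintype S' := Fintype.ofFinite S'
  have hcS' : Fintype.card S' = Fintype.card ι * Fintype.card ι := by
    rw [← hnn, Module.finrank_eq_card_basis b]
  have hli₀ : LinearIndependent F₀ (fun x : S' => (x : Matrix ι ι F)) :=
    hS'li.restrict_scalars' F₀
  have hspan₀ : Submodule.span F₀ S' = Submodule.span F₀ S := by
    refine Submodule.eq_of_le_of_finrank_le (Submodule.span_mono hS'sub) ?_
    have := finrank_span_eq_card hli₀
    rw [Subtype.range_coe] at this
    rw [this, hcS']
    exact hdim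
  have hcoef : ∀ x ∈ A₀, ∀ i, b.repr x i ∈ F₀ := by
    intro x hx
    have hx' : x ∈ Submodule.span F₀ S' := by
      rw [hspan₀, ← hA₀span]; exact hx
    induction hx' using Submodule.span_induction with
    | mem y hy =>
      intro i
      rw [show y = b ⟨y, hy⟩ by rw [Module.Basis.mk_apply], Module.Basis.repr_self,
        Finsupp.single_apply]
      split_ifs
      · exact F₀.one_mem
      · exact F₀.zero_mem
    | zero => intro i; simp [F₀.zero_mem]
    | add y z hy hz ihy ihz =>
      intro i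
      rw [map_add, Finsupp.add_apply]
      exact F₀.add_mem (ihy (show y ∈ A₀.toSubmodule by rw [hA₀span, ← hspan₀]; exact hy) i)
        (ihz (show z ∈ A₀.toSubmodule by rw [hA₀span, ← hspan₀]; exact hz) i)
    | smul c y hy ihy =>
      intro i
      rw [show c • y = (c : F) • y from rfl, map_smul, Finsupp.smul_apply, smul_eq_mul]
      exact F₀.mul_mem c.2 (ihy (show y ∈ A₀.toSubmodule by rw [hA₀span, ← hspan₀]; exact hy) i)
  -- simplicity
  haveI : Nontrivial A₀ := ⟨⟨0, 1, fun h => zero_ne_one (α := Matrix ι ι F) (congrArg Subtype.val h)⟩⟩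
  haveI hsimple : IsSimpleRing A₀ := by
    refine IsSimpleRing.of_eq_bot_or_eq_top fun I => or_iff_not_imp_left.2 fun hI => ?_
    let I' : Submodule F₀ A₀ :=
      { carrier := I
        add_mem' := I.add_mem
        zero_mem' := I.zero_mem
        smul_mem' := fun c x hx => by rw [Algebra.smul_def]; exact I.mul_mem_left _ _ hx }
    set U : Submodule F (Matrix ι ι F) := Submodule.span F (Subtype.val '' (I' : Set A₀)) with hU
    have hl : ∀ a ∈ S, ∀ u ∈ U, a * u ∈ U := by
      intro a ha u hu
      induction hu using Submodule.span_induction with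
      | mem y hy =>
        obtain ⟨y, hy, rfl⟩ := hy
        exact Submodule.subset_span ⟨⟨a, Algebra.subset_adjoin ha⟩ * y, I.mul_mem_left _ _ hy, rfl⟩
      | zero => simp
      | add y z _ _ hy hz => rw [mul_add]; exact U.add_mem hy hz
      | smul c y _ hy => rw [Matrix.mul_smul]; exact U.smul_mem c hy
    have hr : ∀ a ∈ S, ∀ u ∈ U, u * a ∈ U := by
      intro a ha u hu
      induction hu using Submodule.span_induction with
      | mem y hy =>
        obtain ⟨y, hy, rfl⟩ := hy
        exact Submodule.subset_span ⟨y * ⟨a, Algebra.subset_adjoin ha⟩, I.mul_mem_right _ _ hy, rfl⟩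
      | zero => simp
      | add y z _ _ hy hz => rw [add_mul]; exact U.add_mem hy hz
      | smul c y _ hy => rw [Matrix.smul_mul]; exact U.smul_mem c hy
    have hlr : ∀ a c : Matrix ι ι F, ∀ u ∈ U, a * u * c ∈ U := by
      intro a c u hu
      have ha : a ∈ Submodule.span F S := hspanF ▸ Submodule.mem_top
      have hau : a * u ∈ U := by
        induction ha using Submodule.span_induction with
        | mem y hy => exact hl y hy u hu
        | zero => simp
        | add y z _ _ hy hz => rw [add_mul]; exact U.add_mem hy hz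
        | smul d y _ hy => rw [Matrix.smul_mul]; exact U.smul_mem d hy
      have hc : c ∈ Submodule.span F S := hspanF ▸ Submodule.mem_top
      induction hc using Submodule.span_induction with
      | mem y hy => exact hr y hy _ hau
      | zero => simp
      | add y z _ _ hy hz => rw [mul_add]; exact U.add_mem hy hz
      | smul d y _ hy => rw [Matrix.mul_smul]; exact U.smul_mem d hy
    obtain ⟨x, hxI, hx0⟩ : ∃ x ∈ I, x ≠ 0 := by
      by_contra h
      simp only [not_exists, not_and, not_not] at h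
      exact hI (eq_bot_iff.2 fun x hx => (TwoSidedIdeal.mem_bot A₀).2 (h x hx))
    obtain ⟨p, q, hpq⟩ : ∃ p q, (x : Matrix ι ι F) p q ≠ 0 := by
      by_contra h
      simp only [not_exists, not_not] at h
      exact hx0 (Subtype.ext (Matrix.ext h))
    have hUtop : U = ⊤ := by
      rw [eq_top_iff]
      intro X _
      rw [Matrix.matrix_eq_sum_single X]
      refine U.sum_mem fun i _ => U.sum_mem fun j _ => ?_
      have := hlr (Matrix.single i p (X i j * ((x : Matrix ι ι F) p q)⁻¹)) (Matrix.single q j 1) x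
        (Submodule.subset_span ⟨x, hxI, rfl⟩)
      rwa [Matrix.single_mul_mul_single, mul_one, mul_assoc, inv_mul_cancel₀ hpq, mul_one] at this
    have hrank : Fintype.card ι * Fintype.card ι ≤ Module.finrank F₀ I' := by
      rw [← hnn, ← finrank_top F (Matrix ι ι F), ← hUtop]
      haveI : Module.Free F₀ I' := Module.Free.of_divisionRing F₀ I'
      let bI := Module.finBasis F₀ I'
      have : U ≤ Submodule.span F (Set.range fun i => ((bI i : A₀) : Matrix ι ι F)) := by
        rw [hU, Submodule.span_le]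
        rintro _ ⟨y, hy, rfl⟩
        have hrep := bI.sum_repr ⟨y, hy⟩
        have := congrArg (fun z : I' => ((z : A₀) : Matrix ι ι F)) hrep
        simp only [Submodule.coe_sum, AddSubmonoidClass.coe_finset_sum, Submodule.coe_smul,
          Subalgebra.coe_smul] at this
        rw [SetLike.mem_coe, ← this]
        refine Submodule.sum_mem _ fun i _ => ?_
        rw [show ∀ (c : F₀) (Y : Matrix ι ι F), c • Y = (c : F) • Y from fun c Y => rfl]
        exact Submodule.smul_mem _ _ (Submodule.subset_span ⟨i, rfl⟩)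
      exact ((Submodule.finrank_mono this).trans (finrank_range_le_card _)).trans_eq (by simp)
    have hI'top : I' = ⊤ := by
      refine Submodule.eq_top_of_finrank_eq (le_antisymm (Submodule.finrank_le _) (le_trans ?_ hrank))
      rw [← Subalgebra.finrank_toSubmodule, hA₀span]
      exact hdim
    rw [eq_top_iff]
    intro y _
    exact (show y ∈ I' by rw [hI'top]; exact Submodule.mem_top)
  haveI : IsSemisimpleRing A₀ := by
    haveI : IsArtinianRing A₀ := IsArtinianRing.of_finite F₀ A₀
    exact IsSimpleRing.isSemisimpleRing_iff_isArtinianRing.2 inferInstance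
  obtain ⟨a, ha, ⟨θ⟩⟩ := exists_algEquiv_matrix_of_central (K := F₀) (A := A₀) (by
    intro z hz
    obtain ⟨c, hc⟩ := eq_scalar_of_commute_generators hS (X := (z : Matrix ι ι F))
      (fun s hs => congrArg Subtype.val (hz ⟨s, Algebra.subset_adjoin hs⟩))
    obtain ⟨i, hi⟩ : ∃ i, b.repr 1 i ≠ 0 := by
      by_contra h
      simp only [not_exists, not_not] at h
      exact one_ne_zero (α := Matrix ι ι F) (b.repr.injective (by ext i; simp [h i]))
    have hcF : c ∈ F₀ := by
      have h3 := hcoef _ z.2 i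
      rw [hc, map_smul, Finsupp.smul_apply, smul_eq_mul] at h3
      have := F₀.mul_mem h3 (F₀.inv_mem (hcoef 1 A₀.one_mem i))
      rwa [mul_inv_cancel_right₀ hi] at this
    refine ⟨⟨c, hcF⟩, Subtype.ext ?_⟩
    rw [hc, Subalgebra.coe_algebraMap, Algebra.algebraMap_eq_smul_one]
    rfl)
  let ψ : Matrix (Fin a) (Fin a) F₀ →ₐ[F₀] Matrix ι ι F := A₀.val.comp θ.toAlgHom
  have haι : Fintype.card ι = a := by
    have h2 : Module.finrank F₀ A₀ = a * a := by
      rw [← θ.toLinearEquiv.finrank_eq, Module.finrank_matrix]; simp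
    have h3 : Module.finrank F₀ A₀ = Fintype.card ι * Fintype.card ι := by
      rw [← Subalgebra.finrank_toSubmodule, hA₀span, ← hspan₀, ← hcS']
      have := finrank_span_eq_card hli₀
      rwa [Subtype.range_coe] at this
    exact Nat.mul_self_inj.1 (h3.symm.trans h2)
  obtain ⟨m, e, P, hm, hP⟩ := matrixUnits_conj (fun x y => ψ (Matrix.single x y 1)) (by
    intro x y z w
    rw [← map_mul]
    split_ifs with h
    · subst h; rw [Matrix.single_mul_single_same, one_mul]
    · rw [Matrix.single_mul_single_of_ne _ _ _ _ h, map_zero]) (by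
    rw [← map_sum, Matrix.sum_single_one, map_one])
  have hm1 : m = 1 := by
    have := Fintype.card_congr e
    rw [Fintype.card_prod, Fintype.card_fin, Fintype.card_fin, haι] at this
    nlinarith
  subst hm1
  obtain ⟨F₁, r, h01, hr, hc⟩ := exists_prime_index_subfield F₀ hF₀
  -- elements of A₀ have entries in F₀ after conjugation
  have hent : ∀ X ∈ A₀, ∀ i j, (glConj P⁻¹ X) i j ∈ F₀ := by
    intro X hX i j
    obtain ⟨M, hM⟩ := θ.surjective ⟨X, hX⟩
    have hX' : X = ∑ x, ∑ y, (M x y : F) • ψ (Matrix.single x y 1) := by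
      have h5 : X = ψ M := (congrArg Subtype.val hM).symm
      conv_lhs => rw [h5, Matrix.matrix_eq_sum_single M]
      simp only [map_sum]
      refine Finset.sum_congr rfl fun x _ => Finset.sum_congr rfl fun y _ => ?_
      rw [show Matrix.single x y (M x y) = M x y • Matrix.single x y (1 : F₀) by
        rw [Matrix.smul_single, smul_eq_mul, mul_one], map_smul]
      rfl
    rw [hX']
    simp only [hP, map_sum, map_smul, Matrix.sum_apply, Matrix.smul_apply, smul_eq_mul,
      ← glConj_mul, inv_mul_cancel, glConj_one]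
    refine sum_mem fun x _ => sum_mem fun y _ => F₀.mul_mem (M x y).2 ?_
    simp only [Matrix.coe_reindexAlgEquiv, Matrix.reindex_apply, Matrix.submatrix_apply,
      kronOne_apply, Matrix.kroneckerMap_apply, Matrix.single_apply, Matrix.one_apply]
    split_ifs <;> simp [F₀.one_mem, F₀.zero_mem]
  refine ⟨F₁, r, P, h01, hr, hc, fun s hs i j => h01 (hent s (Algebra.subset_adjoin hs) i j), fun g hg => ?_⟩
  set h := P⁻¹ * g * P with hh
  have key : ∀ i x y j, (h : Matrix ι ι F) i x * ((h⁻¹ : GL ι F) : Matrix ι ι F) y j ∈ F₀ := by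
    intro i x y j
    have hxy : Matrix.single x y (1 : F) =
        glConj P⁻¹ (ψ (Matrix.single (e x).1 (e y).1 1)) := by
      rw [hP, ← glConj_mul, inv_mul_cancel, glConj_one]
      ext u v
      simp only [Matrix.coe_reindexAlgEquiv, Matrix.reindex_apply, Matrix.submatrix_apply,
        Equiv.symm_symm, kronOne_apply, Matrix.kroneckerMap_apply, Matrix.single_apply,
        Matrix.one_apply]
      have h2 : ∀ u : ι, ∀ z : ι, ((e z).1 = (e u).1) ↔ z = u := fun u z =>
        ⟨fun hz => e.injective (Prod.ext hz (Subsingleton.elim _ _)), fun hz => hz ▸ rfl⟩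
      have h3 : (e u).2 = (e v).2 := Subsingleton.elim _ _
      simp [h2, h3]
    have hmem : glConj h (Matrix.single x y (1 : F)) = glConj P⁻¹
        (glConj g (ψ (Matrix.single (e x).1 (e y).1 1))) := by
      rw [hxy, ← glConj_mul, ← glConj_mul, hh]
      congr 1
      congr 1
      group
    have hgA : ∀ X ∈ A₀, glConj g X ∈ A₀ := by
      intro X hX
      induction hX using Algebra.adjoin_induction with
      | mem s hs => exact Algebra.subset_adjoin (hG g hg s hs)
      | algebraMap c =>
        have : (algebraMap F₀ (Matrix ι ι F) c) = algebraMap F (Matrix ι ι F) (c : F) := rfl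
        rw [this, AlgEquiv.commutes, ← this]
        exact Subalgebra.algebraMap_mem _ _
      | add y z _ _ hy hz => rw [map_add]; exact add_mem hy hz
      | mul y z _ _ hy hz => rw [map_mul]; exact mul_mem hy hz
    have h4 := hent _ (hgA _ (θ (Matrix.single (e x).1 (e y).1 1)).2) i j
    have h5 : (A₀.val (θ (Matrix.single (e x).1 (e y).1 1))) = ψ (Matrix.single (e x).1 (e y).1 1) := rfl
    change glConj P⁻¹ (glConj g (ψ (Matrix.single (e x).1 (e y).1 1))) i j ∈ F₀ at h4
    rw [← hmem, glConj_apply, Matrix.mul_apply] at h4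
    simpa [Matrix.mul_apply, Matrix.single_apply, ite_and] using h4
  obtain ⟨y, j, hyj⟩ : ∃ y j, ((h⁻¹ : GL ι F) : Matrix ι ι F) y j ≠ 0 := by
    by_contra hcon
    simp only [not_exists, not_not] at hcon
    exact (h⁻¹).ne_zero (Matrix.ext hcon)
  set c := ((h⁻¹ : GL ι F) : Matrix ι ι F) y j
  let M : Matrix ι ι F₁ := fun i x => ⟨c * (h : Matrix ι ι F) i x, h01 (by
    rw [mul_comm]; exact key i x y j)⟩
  have hMmap : M.map (F₁.subtype : F₁ →+* F) = c • (h : Matrix ι ι F) := rfl
  have hMdet : IsUnit M.det := by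
    rw [isUnit_iff_ne_zero]
    intro h0
    have := congrArg (F₁.subtype : F₁ →+* F) h0
    rw [RingHom.map_det, map_zero, RingHom.mapMatrix_apply, hMmap, Matrix.det_smul] at this
    rcases mul_eq_zero.1 this with h' | h'
    · exact pow_ne_zero _ hyj h'
    · exact ((Matrix.isUnit_iff_isUnit_det _).1 h.isUnit).ne_zero h'
  refine ⟨h, ?_, by show P * h * P⁻¹ = g; rw [hh]; group⟩
  have hsplit : h = (Units.map (Matrix.scalar ι : F →+* Matrix ι ι F).toMonoidHom (Units.mk0 c hyj)⁻¹)
      * Matrix.GeneralLinearGroup.map (F₁.subtype : F₁ →+* F)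
          ((Matrix.isUnit_iff_isUnit_det M).2 hMdet).unit := by
    apply Units.ext
    refine Eq.trans ?_ (Units.val_mul _ _).symm
    show _ = Matrix.scalar ι ((Units.mk0 c hyj)⁻¹ : Fˣ).val * M.map (F₁.subtype : F₁ →+* F)
    rw [hMmap, Units.val_inv_eq_inv_val, Units.val_mk0, Matrix.scalar_apply,
      ← Matrix.smul_one_eq_diagonal, Matrix.smul_mul, one_mul, smul_smul, inv_mul_cancel₀ hyj, one_smul]
  rw [SetLike.mem_coe, hsplit]
  exact mul_mem (Subgroup.mem_sup_right ⟨_, rfl⟩) (Subgroup.mem_sup_left ⟨_, rfl⟩)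


variable [Fintype F]

/-- A normalised spanning group defined over a proper subfield and consisting of similitudes with
rational multipliers gives a rational structure on the form. -/
theorem ClsGeometric.of_rational [Nonempty ι] {σ : F ≃+* F} {M : Matrix ι ι F} (hM : CF σ M)
    {G R : Subgroup (GL ι F)} (hR : Algebra.adjoin F (matrixSet R) = ⊤)
    (hG : ∀ g ∈ G, ∀ x ∈ R, g * x * g⁻¹ ∈ R) (F₀ : Subfield F) (hF₀ : F₀ ≠ ⊤)
    (hdim : Module.finrank F₀ (Submodule.span F₀ (matrixSet R)) ≤ Fintype.card ι * Fintype.card ι)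
    (hsim : ∀ x ∈ R, ∃ c ∈ F₀, ∀ u v,
      frm σ M ((x : Matrix ι ι F) *ᵥ u) ((x : Matrix ι ι F) *ᵥ v) = c * frm σ M u v) :
    ClsGeometric σ M G := by
  classical
  obtain ⟨F₁, r, P, h01, hr, hc, hrat, hle⟩ := subfield_of_span_rational (G := G) (matrixSet R)
    (one_mem_matrixSet R) (by
      rintro _ ⟨a, ha, rfl⟩ _ ⟨b, hb, rfl⟩
      exact ⟨a * b, mul_mem ha hb, Units.val_mul _ _⟩) hR (glConj_matrixSet hG) F₀ hF₀ hdim
  set G' : Matrix ι ι F := (P : Matrix ι ι F)ᵀ * M * (P : Matrix ι ι F).map σ with hG'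
  have hG'u : IsUnit G' :=
    (((Matrix.isUnit_transpose _).2 P.isUnit).mul hM.unit).mul (P.isUnit.map (σ.toRingHom.mapMatrix (m := ι)))
  -- a projection onto the subfield
  obtain ⟨π, hπ⟩ : ∃ π : F →ₗ[F₁] F₁, ∀ a : F₁, π (a : F) = a := by
    obtain ⟨π, hπ⟩ := LinearMap.exists_leftInverse_of_injective (Algebra.linearMap F₁ F)
      (LinearMap.ker_eq_bot.2 (algebraMap F₁ F).injective)
    exact ⟨π, fun a => LinearMap.congr_fun hπ a⟩
  obtain ⟨i0, j0, hij⟩ : ∃ i j, G' i j ≠ 0 := by
    by_contra hcon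
    simp only [not_exists, not_not] at hcon
    exact hG'u.ne_zero (Matrix.ext hcon)
  set Z : Matrix ι ι F := (G' i0 j0)⁻¹ • G' with hZ
  set Y : Matrix ι ι F := Z.map fun z => (π z : F) with hY
  have hZu : IsUnit Z := by
    rw [Matrix.isUnit_iff_isUnit_det, hZ, Matrix.det_smul]
    exact (IsUnit.mk0 _ (pow_ne_zero _ (inv_ne_zero hij))).mul
      ((Matrix.isUnit_iff_isUnit_det _).1 hG'u)
  have hS' : Algebra.adjoin F (glConj P⁻¹ '' matrixSet R) = ⊤ := by
    rw [show (glConj P⁻¹ '' matrixSet R) = ((glConj P⁻¹).toAlgHom : Matrix ι ι F → Matrix ι ι F) ''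
      matrixSet R from rfl, ← AlgHom.map_adjoin, hR, Algebra.map_top, AlgHom.range_eq_top]
    exact (glConj P⁻¹).surjective
  obtain ⟨lam, hlam⟩ := gram_twisted_unique (σ := σ) (M' := Y) hS' hZu (by
    rintro _ ⟨_, ⟨x, hx, rfl⟩, rfl⟩
    refine ⟨x.isUnit.map (glConj P⁻¹), ?_⟩
    obtain ⟨c, hcF, hcx⟩ := hsim x hx
    have hgram := gram_of_similar hcx
    set s := glConj P⁻¹ (x : Matrix ι ι F) with hs
    have hPs : (P : Matrix ι ι F) * s = (x : Matrix ι ι F) * (P : Matrix ι ι F) := by
      rw [hs, glConj_apply, inv_inv, ← mul_assoc, ← mul_assoc, ← Units.val_mul, mul_inv_cancel,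
        Units.val_one, one_mul]
    have hsG : sᵀ * G' * s.map σ = c • G' := by
      calc sᵀ * G' * s.map σ
          = ((P : Matrix ι ι F) * s)ᵀ * M * ((P : Matrix ι ι F) * s).map σ := by
            simp only [hG', Matrix.transpose_mul, Matrix.map_mul, mul_assoc]
        _ = (P : Matrix ι ι F)ᵀ * ((x : Matrix ι ι F)ᵀ * M * (x : Matrix ι ι F).map σ) *
            (P : Matrix ι ι F).map σ := by
            rw [hPs]; simp only [Matrix.transpose_mul, Matrix.map_mul, mul_assoc]
        _ = c • G' := by rw [hgram, Matrix.mul_smul, Matrix.smul_mul]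
    have hsZ : sᵀ * Z * s.map σ = c • Z := by
      rw [hZ, Matrix.mul_smul, Matrix.smul_mul, hsG, smul_comm]
    refine ⟨c, hsZ, ?_⟩
    have hsF : ∀ a b, s a b ∈ F₁ := hrat _ (mem_matrixSet hx)
    have hcF' : c ∈ F₁ := h01 hcF
    have hπl : ∀ a ∈ F₁, ∀ z : F, (π (a * z) : F) = a * π z := fun a ha z => by
      have := congrArg (fun t : F₁ => (t : F)) (π.map_smul ⟨a, ha⟩ z)
      exact this
    ext a b
    have h1 := congrArg (fun z : F => (π z : F)) (congrFun (congrFun hsZ a) b)
    simp only [Matrix.mul_apply, Matrix.transpose_apply, Matrix.map_apply, Matrix.smul_apply,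
      smul_eq_mul, Finset.sum_mul, map_sum, AddSubmonoidClass.coe_finsetSum, hπl c hcF'] at h1
    simp only [Matrix.mul_apply, Matrix.transpose_apply, hY, Matrix.map_apply, Matrix.smul_apply,
      smul_eq_mul, Finset.sum_mul]
    rw [← h1]
    refine Finset.sum_congr rfl fun i _ => Finset.sum_congr rfl fun j _ => ?_
    rw [mul_right_comm (s j a) (Z j i) (σ (s i b)),
      hπl _ (F₁.mul_mem (hsF j a) (ringEquiv_mem_subfield σ F₁ (hsF i b)))]
    ring)
  have hlam1 : lam = 1 := by
    have h1 := congrFun (congrFun hlam i0) j0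
    have hπ1 : (π (1 : F) : F) = 1 := by
      have := hπ 1
      rw [OneMemClass.coe_one] at this
      rw [this, OneMemClass.coe_one]
    simp [hY, hZ, inv_mul_cancel₀ hij, hπ1] at h1
    exact h1.symm
  rw [hlam1, one_smul] at hlam
  have hent : ∀ a b, (G' i0 j0)⁻¹ * G' a b ∈ F₁ := fun a b => by
    have : Z a b ∈ F₁ := by rw [← hlam]; exact (π (Z a b)).2
    simpa [hZ] using this
  refine .subfield F₁ r P (G' i0 j0)⁻¹ hr hc (inv_ne_zero hij) (fun u v hu hv => ?_) hle
  rw [frm, formOfGram_act, ← hG', formOfGram]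
  rw [Finset.mul_sum]
  refine sum_mem fun a _ => ?_
  rw [Finset.mul_sum]
  refine sum_mem fun b _ => ?_
  rw [show (G' i0 j0)⁻¹ * (u a * G' a b * σ (v b)) = u a * ((G' i0 j0)⁻¹ * G' a b) * σ (v b) by ring]
  exact F₁.mul_mem (F₁.mul_mem (hu a) (hent a b)) (ringEquiv_mem_subfield σ F₁ (hv b))

/-- A normalised spanning group of isometries on which a non-trivial involutive field automorphism
is inner gives a subfield structure. -/
theorem ClsGeometric.of_twist [Nonempty ι] {σ : F ≃+* F} {M : Matrix ι ι F} (hM : CF σ M)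
    {G R : Subgroup (GL ι F)} (hR : Algebra.adjoin F (matrixSet R) = ⊤)
    (hG : ∀ g ∈ G, ∀ x ∈ R, g * x * g⁻¹ ∈ R)
    (hiso : InvGram σ M (matrixSet R)) {τ : F ≃+* F} (hτ : τ ≠ RingEquiv.refl F)
    (hτ2 : ∀ a, τ (τ a) = a) {T : GL ι F}
    (hT : ∀ x ∈ R, (x : Matrix ι ι F).map τ = glConj T (x : Matrix ι ι F)) :
    ClsGeometric σ M G := by
  classical
  let F₀ : Subfield F := τ.toRingHom.eqLocusField (RingHom.id F)
  have hF₀mem : ∀ a, a ∈ F₀ ↔ τ a = a := fun a => Iff.rfl
  have hF₀ : F₀ ≠ ⊤ := fun h => hτ (RingEquiv.ext fun a => (hF₀mem a).1 (h ▸ Subfield.mem_top a))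
  let ψ : Matrix ι ι F → Matrix ι ι F := fun X => glConj T⁻¹ (X.map τ)
  have hψadd : ∀ X Y, ψ (X + Y) = ψ X + ψ Y := fun X Y => by
    simp only [ψ, show (X + Y).map τ = X.map τ + Y.map τ from by ext; simp, map_add]
  have hψsmul : ∀ (a : F) X, ψ (a • X) = τ a • ψ X := fun a X => by
    simp only [ψ, show (a • X).map τ = τ a • X.map τ from by ext; simp, map_smul]
  let ψh : Matrix ι ι F →+ Matrix ι ι F := AddMonoidHom.mk' ψ hψadd
  let Fix : Submodule F₀ (Matrix ι ι F) :=
    { carrier := {X | ψ X = X}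
      add_mem' := fun {a b} ha hb => by
        show ψ (a + b) = a + b
        rw [hψadd, show ψ a = a from ha, show ψ b = b from hb]
      zero_mem' := map_zero ψh
      smul_mem' := fun a X hX => by
        show ψ ((a : F) • X) = (a : F) • X
        rw [hψsmul, (hF₀mem _).1 a.2, show ψ X = X from hX] }
  have hSle : Submodule.span F₀ (matrixSet R) ≤ Fix := by
    rw [Submodule.span_le]
    rintro _ ⟨x, hx, rfl⟩
    show ψ _ = _
    simp only [ψ, hT x hx, ← glConj_mul, inv_mul_cancel, glConj_one]
  have hdim : Module.finrank F₀ Fix ≤ Fintype.card ι * Fintype.card ι := by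
    let b := Module.finBasis F₀ Fix
    have hli : LinearIndependent F (fun i => (b i : Matrix ι ι F)) := by
      rw [Fintype.linearIndependent_iff]
      intro a ha i
      by_contra hai
      obtain ⟨μ, hμ⟩ : ∃ μ, μ + τ μ ≠ 0 :=
        H38.exists_add_conj_ne_zero (σ := (τ : F →+* F))
          (fun h => hτ (RingEquiv.ext fun z => RingHom.congr_fun h z))
      set lam := μ / a i
      have h1 : ∑ j, (lam * a j + τ (lam * a j)) • (b j : Matrix ι ι F) = 0 := by
        have h2 := congrArg ψh (congrArg (fun X => lam • X) ha)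
        have h3 : lam • ∑ j, a j • (b j : Matrix ι ι F) = 0 := by rw [ha, smul_zero]
        simp only [smul_zero, map_zero, Finset.smul_sum, smul_smul, map_sum] at h2
        have h4 : ∀ j, ψh ((lam * a j) • (b j : Matrix ι ι F)) = τ (lam * a j) • (b j : Matrix ι ι F) :=
          fun j => by
            show ψ _ = _
            rw [hψsmul, show ψ (b j : Matrix ι ι F) = b j from (b j).2]
        simp only [h4] at h2
        simp only [Finset.smul_sum, smul_smul] at h3
        simp only [add_smul, Finset.sum_add_distrib, h2, h3, add_zero]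
      have hmem : ∀ j, lam * a j + τ (lam * a j) ∈ F₀ := fun j => by
        rw [hF₀mem, map_add, hτ2, add_comm]
      have h5 : ∑ j, (⟨_, hmem j⟩ : F₀) • b j = 0 := by
        apply Subtype.ext
        rw [Submodule.coe_sum]
        exact h1
      have h6 := congrArg Subtype.val (Fintype.linearIndependent_iff.1 b.linearIndependent _ h5 i)
      simp only [lam, div_mul_cancel₀ _ hai] at h6
      exact hμ h6
    have := hli.fintype_card_le_finrank
    rw [Fintype.card_fin, Module.finrank_matrix] at this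
    simpa using this
  refine .of_rational hM hR hG F₀ hF₀ ((Submodule.finrank_mono hSle).trans hdim) fun x hx => ?_
  refine ⟨1, F₀.one_mem, fun u v => ?_⟩
  rw [one_mul, frm, formOfGram_act, hiso _ (mem_matrixSet hx)]

/-- A spanning group fixing two forms for different automorphisms. -/
theorem ClsGeometric.of_two_grams [Nonempty ι] {σ : F ≃+* F} {M : Matrix ι ι F} (hM : CF σ M)
    {G R : Subgroup (GL ι F)} (hR : Algebra.adjoin F (matrixSet R) = ⊤)
    (hG : ∀ g ∈ G, ∀ x ∈ R, g * x * g⁻¹ ∈ R)
    (hiso : InvGram σ M (matrixSet R)) {σ' : F ≃+* F} (hne : σ' ≠ σ)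
    (hinv : ∀ a, σ' (σ' a) = a) (hone : σ = RingEquiv.refl F ∨ σ' = RingEquiv.refl F)
    {B : Matrix ι ι F} (hB : IsUnit B) (hB' : InvGram σ' B (matrixSet R)) :
    ClsGeometric σ M G := by
  obtain ⟨U, hU⟩ := hM.unit
  obtain ⟨V, hV⟩ := hB
  have key : ∀ x ∈ R, (x : Matrix ι ι F).map σ' =
      glConj (V⁻¹ * U) ((x : Matrix ι ι F).map σ) := by
    intro x hx
    have h1 := hiso _ (mem_matrixSet hx)
    have h2 := hB' _ (mem_matrixSet hx)
    rw [← hU] at h1
    rw [← hV] at h2
    symm
    rw [glConj_eq_iff]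
    have hxV : IsUnit ((x : Matrix ι ι F)ᵀ * (V : Matrix ι ι F)) :=
      ((Matrix.isUnit_transpose _).2 x.isUnit).mul V.isUnit
    refine hxV.mul_left_cancel ?_
    calc (x : Matrix ι ι F)ᵀ * (V : Matrix ι ι F) *
          (((V⁻¹ * U : GL ι F) : Matrix ι ι F) * (x : Matrix ι ι F).map σ)
        = (x : Matrix ι ι F)ᵀ * (U : Matrix ι ι F) * (x : Matrix ι ι F).map σ := by
          simp [mul_assoc]
      _ = (U : Matrix ι ι F) := h1
      _ = (x : Matrix ι ι F)ᵀ * (V : Matrix ι ι F) * (x : Matrix ι ι F).map σ' *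
          ((V⁻¹ * U : GL ι F) : Matrix ι ι F) := by rw [h2]; simp
      _ = _ := by simp only [mul_assoc]
  rcases hone with rfl | rfl
  · refine .of_twist hM hR hG hiso hne hinv (T := V⁻¹ * U) fun x hx => ?_
    rw [key x hx]
    congr 1
  · refine .of_twist hM hR hG hiso (Ne.symm hne) hM.inv (T := (V⁻¹ * U)⁻¹) fun x hx => ?_
    rw [← glConj_symm, AlgEquiv.eq_symm_apply, ← key x hx]
    rfl

end H46
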