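import Cfsg.Agent.H46.ClsNotSimple
import Cfsg.Agent.H46.ClsRational
import Cfsg.Agent.H46.ClsKron
import Cfsg.Agent.H33.TwoPrime

/-!
Commuting matrix algebras closed under the adjoint: tensor power structures.
-/

set_option autoImplicit false
set_option linter.style.haveILetI false
set_option linter.unusedSectionVars false
set_option maxHeartbeats 1000000

open Cfsg.Geo
open scoped Matrix Kronecker MatrixGroups commutatorElement

namespace H46

variable {ι : Type} [Fintype ι] [DecidableEq ι] {F : Type*} [Field F] [Fintype F]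
variable {σ : F ≃+* F} {M : Matrix ι ι F}

/-- Commutators of similitudes are isometries. -/
theorem isometry_of_mem_commutator [Nonempty ι] {f : (ι → F) → (ι → F) → F}
    (hf : IsNondegenerateForm f) {G : Subgroup (GL ι F)} (hG : G ≤ similarityGroup f) {x : GL ι F}
    (hx : x ∈ ⁅G, G⁆) (u v : ι → F) :
    f ((x : Matrix ι ι F) *ᵥ u) ((x : Matrix ι ι F) *ᵥ v) = f u v := by
  let Iso : Subgroup (GL ι F) :=
    { carrier := {g | ∀ u v, f ((g : Matrix ι ι F) *ᵥ u) ((g : Matrix ι ι F) *ᵥ v) = f u v}
      one_mem' := fun u v => by simp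
      mul_mem' := fun {a b} ha hb u v => by
        rw [Units.val_mul, ← Matrix.mulVec_mulVec, ← Matrix.mulVec_mulVec, ha, hb]
      inv_mem' := fun {a} ha u v => by
        rw [← ha, Matrix.mulVec_mulVec, Matrix.mulVec_mulVec, ← Units.val_mul, mul_inv_cancel,
          Units.val_one, Matrix.one_mulVec, Matrix.one_mulVec] }
  have hle : ⁅G, G⁆ ≤ Iso := by
    rw [Subgroup.commutator_le]
    intro a ha b hb u v
    obtain ⟨c, hc⟩ := hG ha
    obtain ⟨d, hd⟩ := hG hb
    have hinv : ∀ {g : GL ι F} {e : Fˣ},
        (∀ u v, f ((g : Matrix ι ι F) *ᵥ u) ((g : Matrix ι ι F) *ᵥ v) = (e : F) * f u v) →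
        ∀ u v, f (((g⁻¹ : GL ι F) : Matrix ι ι F) *ᵥ u) (((g⁻¹ : GL ι F) : Matrix ι ι F) *ᵥ v) =
          ((e⁻¹ : Fˣ) : F) * f u v := by
      intro g e he u v
      have := he (((g⁻¹ : GL ι F) : Matrix ι ι F) *ᵥ u) (((g⁻¹ : GL ι F) : Matrix ι ι F) *ᵥ v)
      rw [Matrix.mulVec_mulVec, Matrix.mulVec_mulVec, ← Units.val_mul, mul_inv_cancel, Units.val_one,
        Matrix.one_mulVec, Matrix.one_mulVec] at this
      rw [this, ← mul_assoc, ← Units.val_mul, inv_mul_cancel, Units.val_one, one_mul]
    rw [commutatorElement_def, Units.val_mul, Units.val_mul, Units.val_mul]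
    simp only [← Matrix.mulVec_mulVec]
    rw [hc, hd, hinv hc, hinv hd]
    simp only [← mul_assoc, ← Units.val_mul]
    rw [show c * d * c⁻¹ * d⁻¹ = 1 by rw [mul_comm c d]; group, Units.val_one, one_mul]
  exact hle hx u v

theorem ptm_map {k a : ℕ} (f : F →+* F) (X : Fin k → Matrix (Fin a) (Fin a) F) :
    (ptm X).map f = ptm fun i => (X i).map f := by
  ext x y
  simp [ptm]

theorem update_one_transpose {k a : ℕ} (i : Fin k) (X : Matrix (Fin a) (Fin a) F) :
    (ptm (Function.update 1 i X))ᵀ = ptm (Function.update 1 i Xᵀ) := by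
  rw [ptm_transpose]
  congr 1
  funext j
  by_cases h : j = i
  · subst h; simp
  · simp [Function.update_of_ne h]

theorem update_one_map {k a : ℕ} (f : F →+* F) (i : Fin k) (X : Matrix (Fin a) (Fin a) F) :
    (ptm (Function.update 1 i X)).map f = ptm (Function.update 1 i (X.map f)) := by
  rw [ptm_map]
  congr 1
  funext j
  by_cases h : j = i
  · subst h; simp
  · simp [Function.update_of_ne h, Matrix.map_one f (map_zero f) (map_one f)]

/-- Equal pure tensors have proportional factors. -/
theorem ptm_eq_ptm {k a : ℕ} {X Y : Fin k → Matrix (Fin a) (Fin a) F} (h : ptm X = ptm Y)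
    (hY : ∀ i, Y i ≠ 0) : ∃ c : Fin k → F, (∀ i, X i = c i • Y i) ∧ ∏ i, c i = 1 := by
  classical
  have hex : ∀ i, ∃ p : Fin a × Fin a, Y i p.1 p.2 ≠ 0 := fun i => by
    by_contra hcon
    simp only [not_exists, not_not] at hcon
    exact hY i (Matrix.ext fun u v => hcon (u, v))
  choose p hp using hex
  have hpt : ∀ x y : Fin k → Fin a, ∏ i, X i (x i) (y i) = ∏ i, Y i (x i) (y i) :=
    fun x y => congrFun (congrFun h x) y
  have h0 := hpt (fun i => (p i).1) (fun i => (p i).2)
  have hY0 : ∏ i, Y i (p i).1 (p i).2 ≠ 0 := Finset.prod_ne_zero_iff.2 fun i _ => hp i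
  have hX0 : ∀ i, X i (p i).1 (p i).2 ≠ 0 := fun i =>
    Finset.prod_ne_zero_iff.1 (h0 ▸ hY0) i (Finset.mem_univ i)
  refine ⟨fun i => X i (p i).1 (p i).2 / Y i (p i).1 (p i).2, fun i => ?_, by
    rw [Finset.prod_div_distrib, h0, div_self hY0]⟩
  ext u v
  have h1 := hpt (Function.update (fun j => (p j).1) i u) (Function.update (fun j => (p j).2) i v)
  have hu : ∀ (Z : Fin k → Matrix (Fin a) (Fin a) F),
      ∏ j, Z j (Function.update (fun j => (p j).1) i u j) (Function.update (fun j => (p j).2) i v j) =
        Z i u v * ∏ j ∈ Finset.univ.erase i, Z j (p j).1 (p j).2 := fun Z => by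
    rw [← Finset.mul_prod_erase _ _ (Finset.mem_univ i), Function.update_self, Function.update_self]
    congr 1
    refine Finset.prod_congr rfl fun j hj => ?_
    rw [Function.update_of_ne (Finset.ne_of_mem_erase hj), Function.update_of_ne (Finset.ne_of_mem_erase hj)]
  rw [hu, hu] at h1
  rw [← Finset.mul_prod_erase _ _ (Finset.mem_univ i), ← Finset.mul_prod_erase _ _ (Finset.mem_univ i)] at h0
  have hXe : ∏ j ∈ Finset.univ.erase i, X j (p j).1 (p j).2 ≠ 0 :=
    Finset.prod_ne_zero_iff.2 fun j _ => hX0 j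
  rw [Matrix.smul_apply, smul_eq_mul, div_mul_eq_mul_div, eq_div_iff (hp i)]
  refine mul_right_cancel₀ hXe ?_
  linear_combination Y i (p i).1 (p i).2 * h1 - Y i u v * h0

/-- An element permuting the standard copies is a permutation times a pure tensor. -/
theorem exists_perm_ptm [Nonempty ι] {k a : ℕ} (hk : 0 < k) (ha : 0 < a) (e : ι ≃ (Fin k → Fin a))
    (P : GL ι F) (φ : Fin k → (Matrix (Fin a) (Fin a) F →ₐ[F] Matrix ι ι F))
    (hgen : Algebra.adjoin F (⋃ i, Set.range (φ i)) = ⊤)
    (hφ : ∀ i X, φ i X = matCoords e P (ptm (Function.update 1 i X)))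
    (h : GL (Fin k → Fin a) F) (s : Equiv.Perm (Fin k))
    (hs : ∀ i X, ∃ Y, glConj h (ptm (Function.update 1 i X)) = ptm (Function.update 1 (s i) Y)) :
    ∃ gs : Fin k → GL (Fin a) F, h = glPerm s * glPtm gs := by
  classical
  haveI : Nonempty (Fin a) := ⟨⟨0, ha⟩⟩
  let upd : Fin k → (Matrix (Fin a) (Fin a) F →ₐ[F] Matrix (Fin k → Fin a) (Fin k → Fin a) F) :=
    fun i => (matCoords e P).symm.toAlgHom.comp (φ i)
  have hupd : ∀ i X, upd i X = ptm (Function.update 1 i X) := fun i X => by
    show (matCoords e P).symm (φ i X) = _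
    rw [hφ, AlgEquiv.symm_apply_apply]
  haveI : Nonempty (Fin k → Fin a) := ⟨fun _ => ⟨0, ha⟩⟩
  have hinj : ∀ i, Function.Injective (upd i) := fun i => RingHom.injective (upd i).toRingHom
  have hψ : ∀ i, ∃ x : GL (Fin a) F, ∀ X,
      glConj h (upd i X) = upd (s i) (glConj x X) := by
    intro i
    have hmem : ∀ X, ((glConj h).toAlgHom.comp (upd i)) X ∈ (upd (s i)).range := fun X => by
      obtain ⟨Y, hY⟩ := hs i X
      exact ⟨Y, by
        show upd (s i) Y = glConj h (upd i X)
        rw [hupd, hupd, hY]⟩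
    obtain ⟨x, hx⟩ := algEnd_matrix_conj
      ((AlgEquiv.ofInjective (upd (s i)) (hinj (s i))).symm.toAlgHom.comp
        (((glConj h).toAlgHom.comp (upd i)).codRestrict _ hmem))
    refine ⟨x, fun X => ?_⟩
    rw [← hx X]
    exact (congrArg Subtype.val ((AlgEquiv.ofInjective (upd (s i)) (hinj (s i))).apply_symm_apply
      ⟨_, hmem X⟩)).symm
  choose x hx using hψ
  set T : GL (Fin k → Fin a) F := glPerm s * glPtm x with hT
  have hTU : ∀ i X, glConj T (ptm (Function.update 1 i X)) =
      ptm (Function.update 1 (s i) (glConj (x i) X)) := by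
    intro i X
    rw [hT, glConj_mul, glConj_apply (glPtm x)]
    show glConj (glPerm s) (ptm _ * ptm _ * ptm _) = _
    rw [← ptm_mul, ← ptm_mul, glPerm_ptm]
    congr 1
    funext j
    obtain ⟨j, rfl⟩ := s.surjective j
    simp only [Function.comp_apply, Equiv.symm_apply_apply, Pi.mul_apply]
    by_cases hij : j = i
    · subst hij
      simp [glConj_apply]
    · rw [Function.update_of_ne hij, Function.update_of_ne (fun h => hij (s.injective h)),
        Pi.one_apply, Pi.one_apply, mul_one, ← Units.val_mul, mul_inv_cancel, Units.val_one]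
  have hfix : ∀ i X, glConj (T⁻¹ * h) (ptm (Function.update 1 i X)) = ptm (Function.update 1 i X) := by
    intro i X
    have h1 := hx i X
    rw [hupd, hupd] at h1
    rw [glConj_mul, h1, ← hTU, ← glConj_mul, inv_mul_cancel, glConj_one]
  obtain ⟨c, hc⟩ := eq_scalar_of_commute_generators hgen
    (X := matCoords e P ((T⁻¹ * h : GL (Fin k → Fin a) F) : Matrix (Fin k → Fin a) (Fin k → Fin a) F)) (by
      rintro _ ⟨_, ⟨i, rfl⟩, X, rfl⟩
      rw [hφ]
      exact Commute.map (show Commute _ _ from (glConj_eq_iff _ _ _).1 (hfix i X)) (matCoords e P))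
  have hval : ((T⁻¹ * h : GL (Fin k → Fin a) F) : Matrix (Fin k → Fin a) (Fin k → Fin a) F) = c • 1 := by
    apply (matCoords e P).injective
    rw [map_smul, map_one]
    exact hc
  have hc0 : c ≠ 0 := by
    rintro rfl
    rw [zero_smul] at hval
    exact (T⁻¹ * h).ne_zero hval
  let i0 : Fin k := ⟨0, hk⟩
  let sc : Fin k → GL (Fin a) F :=
    Function.update 1 i0 (Units.map (Matrix.scalar (Fin a) : F →+* _).toMonoidHom (Units.mk0 c hc0))
  have hsc : (T⁻¹ * h : GL (Fin k → Fin a) F) = glPtm sc := by
    apply Units.ext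
    rw [hval, glPtm_val,
      show (fun i => (sc i : Matrix (Fin a) (Fin a) F)) =
        fun i => (Function.update (1 : Fin k → F) i0 c i) • (1 : Matrix (Fin a) (Fin a) F) from
        funext fun i => by
          rcases eq_or_ne i i0 with rfl | hi
          · simp [sc, Matrix.smul_one_eq_diagonal]
          · simp [sc, Function.update_of_ne hi],
      ptm_smul, Finset.prod_update_of_mem (Finset.mem_univ _),
      show (fun _ : Fin k => (1 : Matrix (Fin a) (Fin a) F)) = 1 from rfl, ptm_one]
    simp
  refine ⟨fun i => x i * sc i, ?_⟩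
  rw [show h = T * glPtm sc by rw [← hsc, mul_inv_cancel_left], hT, mul_assoc]
  congr 1
  apply Units.ext
  rw [Units.val_mul, glPtm_val, glPtm_val, glPtm_val, ← ptm_mul]
  rfl

/-- A permutation times a pure tensor acting on a pure tensor form. -/
theorem perm_ptm_gram {k a : ℕ} (σ : F ≃+* F) (s : Equiv.Perm (Fin k)) (gs : Fin k → GL (Fin a) F)
    (A : Fin k → Matrix (Fin a) (Fin a) F) :
    ((glPerm s * glPtm gs : GL (Fin k → Fin a) F) : Matrix (Fin k → Fin a) (Fin k → Fin a) F)ᵀ * ptm A *
        ((glPerm s * glPtm gs : GL (Fin k → Fin a) F) : Matrix (Fin k → Fin a) (Fin k → Fin a) F).map σ =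
      ptm fun i => (gs i : Matrix (Fin a) (Fin a) F)ᵀ * A (s i) * (gs i : Matrix (Fin a) (Fin a) F).map σ := by
  set S : Matrix (Fin k → Fin a) (Fin k → Fin a) F := (glPerm s : GL (Fin k → Fin a) F).val with hS
  have h2 : Sᵀ = (((glPerm s)⁻¹ : GL (Fin k → Fin a) F) : Matrix (Fin k → Fin a) (Fin k → Fin a) F) := rfl
  have hmapS : S.map σ = S := by
    ext x y
    show σ (if y = x ∘ s then 1 else 0) = if y = x ∘ s then (1 : F) else 0
    split_ifs <;> simp
  have hmid : Sᵀ * ptm A * S = ptm fun i => A (s i) := by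
    have h3 : glConj (glPerm s)⁻¹ (ptm A) = ptm fun i => A (s i) := by
      rw [← glConj_symm, AlgEquiv.symm_apply_eq, glPerm_ptm]
      congr 1
      funext i
      simp
    rw [← h3, glConj_apply, inv_inv, h2]
  rw [Units.val_mul, ← hS, glPtm_val, Matrix.transpose_mul, ptm_transpose, Matrix.map_mul, hmapS,
    show (ptm fun i => (gs i : Matrix (Fin a) (Fin a) F)).map σ = _ from ptm_map σ.toRingHom _]
  calc _ = (ptm fun i => (gs i : Matrix (Fin a) (Fin a) F)ᵀ) * (Sᵀ * ptm A * S) *
      ptm (fun i => (gs i : Matrix (Fin a) (Fin a) F).map σ) := by simp only [mul_assoc]; rfl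
    _ = _ := by
      rw [hmid, ← ptm_mul, ← ptm_mul]
      rfl

/-- The standard alternating matrix of size two. -/
def jMat : Matrix (Fin 2) (Fin 2) F := !![0, 1; -1, 0]

theorem jMat_isUnit : IsUnit (jMat (F := F)) := by
  rw [Matrix.isUnit_iff_isUnit_det, jMat, Matrix.det_fin_two_of]
  simp

theorem jMat_act (X : Matrix (Fin 2) (Fin 2) F) : Xᵀ * jMat * X = X.det • jMat (F := F) := by
  ext i j
  fin_cases i <;> fin_cases j <;>
    simp [jMat, Matrix.mul_apply, Fin.sum_univ_two, Matrix.det_fin_two] <;> ring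

theorem jMat_cf : CF (RingEquiv.refl F) (jMat (F := F)) :=
  ⟨jMat_isUnit, fun _ => rfl, Or.inr ⟨rfl, by ext i j; fin_cases i <;> fin_cases j <;> simp [jMat],
    fun i => by fin_cases i <;> simp [jMat]⟩⟩

/-- A perfect group of pure tensors of 2 × 2 matrices over three elements is trivial. -/
theorem eq_bot_of_perfect_ptm {k : ℕ} (hq : Fintype.card F = 3) (e : ι ≃ (Fin k → Fin 2)) (P : GL ι F)
    {R : Subgroup (GL ι F)} (hperf : ⁅R, R⁆ = R)
    (h : ∀ x ∈ R, ∃ gs : Fin k → GL (Fin 2) F, x = glCoords e P (glPtm gs)) : R = ⊥ := by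
  classical
  let θ : (Fin k → GL (Fin 2) F) →* GL ι F :=
    (glCoords e P).toMonoidHom.comp
      { toFun := glPtm
        map_one' := Units.ext (by rw [glPtm_val, Units.val_one]; exact ptm_one)
        map_mul' := fun x y => Units.ext (by rw [Units.val_mul, glPtm_val, glPtm_val, glPtm_val, ← ptm_mul]; rfl) }
  have hle : R ≤ θ.range := fun x hx => by
    obtain ⟨gs, rfl⟩ := h x hx
    exact ⟨gs, rfl⟩
  have hdvd : Nat.card R ∣ 48 ^ k := by
    refine (Subgroup.card_dvd_of_le hle).trans ((Subgroup.card_range_dvd θ).trans ?_)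
    rw [Nat.card_pi, Finset.prod_const, Finset.card_univ, Fintype.card_fin, Matrix.card_GL_field,
      Fin.prod_univ_two, hq]
    norm_num
  haveI : Group.IsSolvable R := H33.isSolvable_of_two_primes Nat.prime_two Nat.prime_three fun r hr hr' => by
    have h4 : r ∣ 2 ^ 4 * 3 := hr.dvd_of_dvd_pow (hr'.trans hdvd)
    rcases hr.dvd_mul.1 h4 with h5 | h5
    · exact Or.inl ((Nat.prime_dvd_prime_iff_eq hr Nat.prime_two).1 (hr.dvd_of_dvd_pow h5))
    · exact Or.inr ((Nat.prime_dvd_prime_iff_eq hr Nat.prime_three).1 h5)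
  by_contra hne
  haveI : Nontrivial R := (Subgroup.nontrivial_iff_ne_bot _).2 hne
  refine (Group.IsSolvable.commutator_lt_top_of_nontrivial R).ne ?_
  apply Subgroup.map_injective R.subtype_injective
  rw [commutator_def, Subgroup.map_commutator, ← MonoidHom.range_eq_map, Subgroup.range_subtype, hperf]

/-- Permuted commuting matrix algebras closed under the adjoint give a geometric structure. -/
theorem ClsGeometric.of_tensor [Nonempty ι] (hM : CF σ M)
    {G R : Subgroup (GL ι F)} (hperf : ⁅R, R⁆ = R) (hGM : G ≤ similarityGroup (frm σ M))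
    (hR : Algebra.adjoin F (matrixSet R) = ⊤) (hRG : ∀ g ∈ G, ∀ x ∈ R, g * x * g⁻¹ ∈ R)
    (hRc : R ≤ ⁅G, G⁆) {k a : ℕ} (hk : 2 ≤ k) (ha : 2 ≤ a)
    (φ : Fin k → (Matrix (Fin a) (Fin a) F →ₐ[F] Matrix ι ι F))
    (hc : ∀ i j, i ≠ j → ∀ X Y, Commute (φ i X) (φ j Y))
    (hgen : Algebra.adjoin F (⋃ i, Set.range (φ i)) = ⊤)
    (hadj : ∀ i X, ∃ Y, adj σ M (φ i X) = φ i Y)
    (hperm : ∀ g ∈ G, ∃ s : Equiv.Perm (Fin k), ∀ i X, ∃ Y, glConj g (φ i X) = φ (s i) Y)
    (htrans : ∀ i j, ∃ g ∈ G, ∃ s : Equiv.Perm (Fin k), s i = j ∧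
      ∀ i X, ∃ Y, glConj g (φ i X) = φ (s i) Y)
    (hfixR : ∀ x ∈ R, ∀ i X, ∃ Y, glConj x (φ i X) = φ i Y) : ClsGeometric σ M G := by
  classical
  haveI : Nonempty (Fin a) := ⟨⟨0, by omega⟩⟩
  obtain ⟨e, P, hφ⟩ := exists_tensor_coords φ hc hgen
  have hconj : ∀ (h : GL (Fin k → Fin a) F) Z,
      glConj (glCoords e P h) (matCoords e P Z) = matCoords e P (glConj h Z) := by
    intro h Z
    rw [glConj_apply, glConj_apply, ← map_inv, glCoords_val, glCoords_val, map_mul, map_mul]
  have hdec : ∀ (g : GL ι F) (s : Equiv.Perm (Fin k)),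
      (∀ i X, ∃ Y, glConj g (φ i X) = φ (s i) Y) →
        ∃ gs : Fin k → GL (Fin a) F, g = glCoords e P (glPerm s * glPtm gs) := by
    intro g s hs
    obtain ⟨h, rfl⟩ := (glCoords e P).surjective g
    obtain ⟨gs, hgs⟩ := exists_perm_ptm (by omega) (by omega) e P φ hgen hφ h s fun i X => by
      obtain ⟨Y, hY⟩ := hs i X
      rw [hφ, hφ, hconj] at hY
      exact ⟨Y, (matCoords e P).injective hY⟩
    exact ⟨gs, by rw [hgs]⟩
  have hGT : ∀ g ∈ G, ∃ (s : Equiv.Perm (Fin k)) (gs : Fin k → GL (Fin a) F),
      g = glCoords e P (glPerm s * glPtm gs) := fun g hg => by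
    obtain ⟨s, hs⟩ := hperm g hg
    exact ⟨s, hdec g s hs⟩
  have hRT : ∀ x ∈ R, ∃ gs : Fin k → GL (Fin a) F, x = glCoords e P (glPtm gs) := fun x hx => by
    obtain ⟨gs, hgs⟩ := hdec x (Equiv.refl _) fun i X => hfixR x hx i X
    refine ⟨gs, hgs.trans ?_⟩
    congr 1
    rw [show glPerm (Equiv.refl (Fin k)) = (1 : GL (Fin k → Fin a) F) from Units.ext (by
      ext u v; simp [glPerm, Matrix.one_apply, eq_comm]), one_mul]
  have hcf := hM.coordGram e P
  -- the Gram matrix is a pure tensor
  obtain ⟨U, hU⟩ := hcf.unit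
  obtain ⟨us, hus⟩ := exists_perm_ptm (by omega) (by omega) e P φ hgen hφ U⁻¹ (Equiv.refl _) fun i X => by
    obtain ⟨Z, hZ⟩ := hadj i Xᵀ
    refine ⟨Z.map σ, ?_⟩
    have h1 := hM.adj_coords e P (ptm (Function.update 1 i Xᵀ))
    rw [← hφ, hZ, hφ, AlgEquiv.symm_apply_apply, adj] at h1
    have h2 := congrArg (fun W : Matrix (Fin k → Fin a) (Fin k → Fin a) F => W.map σ) h1
    rw [← hU, update_one_transpose, Matrix.transpose_transpose] at h2
    rw [glConj_apply, inv_inv, Matrix.coe_units_inv]
    refine Eq.trans ?_ (h2.trans (update_one_map σ.toRingHom i Z))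
    ext u v
    simp only [Matrix.map_apply, hM.inv]
  set A : Fin k → Matrix (Fin a) (Fin a) F :=
    fun i => (((us i)⁻¹ : GL (Fin a) F) : Matrix (Fin a) (Fin a) F) with hA
  have hAu : ∀ i, IsUnit (A i) := fun i => ((us i)⁻¹).isUnit
  have hA0 : ∀ i, A i ≠ 0 := fun i => (hAu i).ne_zero
  have hgram : coordGram σ M e P = ptm A := by
    rw [show glPerm (Equiv.refl (Fin k)) = (1 : GL (Fin k → Fin a) F) from Units.ext (by
      ext u v; simp [glPerm, Matrix.one_apply, eq_comm]), one_mul] at hus
    rw [← hU, ← inv_inv U, hus]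
    rfl
  rw [hgram] at hcf
  let i0 : Fin k := ⟨0, by omega⟩
  have hsmul : ∀ (c : F) (B : Fin k → Matrix (Fin a) (Fin a) F),
      c • ptm B = ptm fun i => Function.update (1 : Fin k → F) i0 c i • B i := fun c B => by
    rw [ptm_smul, Finset.prod_update_of_mem (Finset.mem_univ _)]
    simp
  rcases hcf.kind with ⟨hσ, hh⟩ | ⟨hσ, hsk, hdg⟩
  · -- Hermitian
    rcases Nat.lt_or_ge a 3 with ha3 | ha3
    · -- a second, bilinear, form
      obtain rfl : a = 2 := by omega
      let B : Matrix ι ι F := ((P⁻¹ : GL ι F) : Matrix ι ι F)ᵀ *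
        (ptm fun _ : Fin k => jMat (F := F)).submatrix e e * ((P⁻¹ : GL ι F) : Matrix ι ι F)
      have hBu : IsUnit B :=
        (((Matrix.isUnit_transpose _).2 (P⁻¹).isUnit).mul
          ((isUnit_ptm fun _ => jMat_isUnit).map (Matrix.reindexAlgEquiv F F e.symm))).mul (P⁻¹).isUnit
      have hBg : coordGram (RingEquiv.refl F) B e P = ptm fun _ => jMat := by
        have hmapr : (P : Matrix ι ι F).map (RingEquiv.refl F) = (P : Matrix ι ι F) := by ext; simp
        rw [coordGram, hmapr]
        have h1 : (P : Matrix ι ι F)ᵀ * B * (P : Matrix ι ι F) =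
            (ptm fun _ : Fin k => jMat (F := F)).submatrix e e := by
          simp only [B, ← mul_assoc, ← Matrix.transpose_mul, ← Units.val_mul, inv_mul_cancel,
            Units.val_one, Matrix.transpose_one, one_mul]
          rw [mul_assoc, ← Units.val_mul, inv_mul_cancel, Units.val_one, mul_one]
        rw [h1, Matrix.submatrix_submatrix]
        simp
      have hGB : G ≤ similarityGroup (frm (RingEquiv.refl F) B) := by
        intro g hg
        obtain ⟨s, gs, rfl⟩ := hGT g hg
        have hd : ∏ i, (gs i : Matrix (Fin 2) (Fin 2) F).det ≠ 0 :=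
          Finset.prod_ne_zero_iff.2 fun i _ => ((Matrix.isUnit_iff_isUnit_det _).1 (gs i).isUnit).ne_zero
        refine ⟨Units.mk0 _ hd, fun u v => ?_⟩
        obtain ⟨x, rfl⟩ := exists_coord_vec e P u
        obtain ⟨y, rfl⟩ := exists_coord_vec e P v
        rw [glCoords_val, matCoords_mulVec, matCoords_mulVec, frm_coords, frm_coords, hBg, frm,
          formOfGram_act, perm_ptm_gram]
        rw [show (fun i => (gs i : Matrix (Fin 2) (Fin 2) F)ᵀ * jMat * (gs i : Matrix (Fin 2) (Fin 2) F).map (RingEquiv.refl F)) =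
          fun i => (gs i : Matrix (Fin 2) (Fin 2) F).det • jMat (F := F) from funext fun i => by
            rw [show (gs i : Matrix (Fin 2) (Fin 2) F).map (RingEquiv.refl F) = (gs i : Matrix (Fin 2) (Fin 2) F) from by ext; simp]
            exact jMat_act _, ptm_smul, formOfGram_smul_gram]
        rfl
      have hiso : ∀ {τ : F ≃+* F} {C : Matrix ι ι F}, IsUnit C → G ≤ similarityGroup (frm τ C) →
          InvGram τ C (matrixSet R) := by
        intro τ C hC hGC
        rintro _ ⟨x, hx, rfl⟩
        have h1 := isometry_of_mem_commutator (formOfGram_nondegenerate τ C hC) hGC (hRc hx)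
        have h2 := gram_of_similar (σ := τ) (M := C) (g := x) (c := 1) fun u v => by rw [one_mul]; exact h1 u v
        rwa [one_smul] at h2
      exact .of_two_grams hM hR hRG (hiso hM.unit hGM) (Ne.symm hσ) (fun _ => rfl) (Or.inr rfl) hBu
        (hiso hBu hGB)
    · -- all factors isometric
      have hh' : ptm (fun i => ((A i).map σ)ᵀ) = ptm A := by
        rw [← ptm_transpose]
        exact (congrArg Matrix.transpose (ptm_map σ.toRingHom A).symm).trans hh
      obtain ⟨l, hl, -⟩ := ptm_eq_ptm hh' hA0
      have hμ : ∀ i, ∃ μ : F, μ ≠ 0 ∧ l i * σ μ = μ := by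
        intro i
        have hll : σ (l i) * l i = 1 := by
          have h1 := congrArg (fun Z => (Z.map σ)ᵀ) (hl i)
          have h2 : ((((A i).map σ)ᵀ).map σ)ᵀ = A i := by ext u v; simp [hM.inv]
          rw [h2, show ((l i • A i).map σ)ᵀ = σ (l i) • ((A i).map σ)ᵀ from by ext u v; simp, hl i,
            smul_smul] at h1
          obtain ⟨u, v, huv⟩ : ∃ u v, A i u v ≠ 0 := by
            by_contra hcon
            simp only [not_exists, not_not] at hcon
            exact hA0 i (Matrix.ext hcon)
          have h3 := congrFun (congrFun h1 u) v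
          simp only [Matrix.smul_apply, smul_eq_mul] at h3
          exact mul_right_cancel₀ huv (by rw [one_mul]; exact h3.symm)
        by_contra hcon
        simp only [not_exists, not_and] at hcon
        have hz : ∀ c : F, c + l i * σ c = 0 := fun c => by
          by_contra h
          refine hcon _ h ?_
          rw [map_add, map_mul, hM.inv]
          linear_combination c * hll
        have h1 := hz 1
        rw [map_one, mul_one] at h1
        refine hσ (RingEquiv.ext fun c => ?_)
        show σ c = c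
        linear_combination σ c * h1 - hz c
      choose μ hμ0 hμeq using hμ
      have hA' : ∀ i, CF σ (μ i • A i) := fun i => ⟨by
        rw [show μ i • A i = (Units.mk0 (μ i) (hμ0 i)) • A i from rfl]; exact (hAu i).smul _,
        hM.inv, Or.inl ⟨hσ, by
          rw [show ((μ i • A i).map σ)ᵀ = σ (μ i) • ((A i).map σ)ᵀ from by ext u v; simp, hl i,
            smul_smul, mul_comm (σ (μ i)), hμeq]⟩⟩
      choose D hD using fun i => exists_hermitian_sqrt hσ (hA' i)
      set K : GL (Fin k → Fin a) F := glPtm D with hK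
      set c : F := (∏ i, μ i)⁻¹ with hcdef
      have hc0 : c ≠ 0 := inv_ne_zero (Finset.prod_ne_zero_iff.2 fun i _ => hμ0 i)
      have hKg : c • ((K : Matrix (Fin k → Fin a) (Fin k → Fin a) F)ᵀ *
          (K : Matrix (Fin k → Fin a) (Fin k → Fin a) F).map σ) = coordGram σ M e P := by
        rw [hgram, hK, glPtm_val, ptm_transpose,
          show (ptm fun i => (D i : Matrix (Fin a) (Fin a) F)).map σ = _ from ptm_map σ.toRingHom _,
          ← ptm_mul]
        rw [show ((fun i => (D i : Matrix (Fin a) (Fin a) F)ᵀ) *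
          fun i => (D i : Matrix (Fin a) (Fin a) F).map σ.toRingHom) = fun i => μ i • A i from
          funext fun i => hD i, ptm_smul, smul_smul, hcdef,
          inv_mul_cancel₀ (Finset.prod_ne_zero_iff.2 fun i _ => hμ0 i), one_smul]
      set P' : GL ι F := P * glCoords e 1 K⁻¹ with hP'
      have hone : coordGram σ M e P' = c • 1 := by
        rw [hP', coordGram_mul, ← hKg, Matrix.mul_smul, Matrix.smul_mul]
        congr 1
        rw [← mul_assoc, ← Matrix.transpose_mul, mul_assoc, ← Units.val_mul, mul_inv_cancel,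
          Units.val_one, Matrix.transpose_one, one_mul, ← Matrix.map_mul, ← Units.val_mul,
          mul_inv_cancel, Units.val_one, Matrix.map_one σ (map_zero σ) (map_one σ)]
      refine .power a k e P' 1 ha hk c hc0 ?_ (CF.one_of_unitary hσ hM.inv)
        (fun h => absurd h hσ) (fun _ => ha3) fun g hg => mem_tensorWreathSubgroup _ P' g ?_
      · rw [hone, show (fun _ : Fin k => (1 : Matrix (Fin a) (Fin a) F)) = 1 from rfl, ptm_one]
      · obtain ⟨s, gs, rfl⟩ := hGT g hg
        have hg' : glCoords e P (glPerm s * glPtm gs) =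
            glCoords e P' (K * (glPerm s * glPtm gs) * K⁻¹) := by
          rw [hP', glCoords_mul_right]
          simp [mul_assoc]
        rw [hg', MulEquiv.symm_apply_apply]
        have hKmem : K ∈ tensorWreathStandard a k F :=
          Subgroup.subset_closure (Or.inl ⟨D, fun u v => rfl⟩)
        exact mul_mem (mul_mem hKmem (mul_mem (Subgroup.subset_closure (Or.inr ⟨s, fun u v => rfl⟩))
          (Subgroup.subset_closure (Or.inl ⟨gs, fun u v => rfl⟩)))) (inv_mem hKmem)
  · -- alternating
    subst hσ
    have hid : ∀ X : Matrix (Fin a) (Fin a) F, X.map (RingEquiv.refl F) = X := fun X => by ext; simp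
    obtain ⟨d, hd, hdp⟩ := ptm_eq_ptm (X := fun i => (A i)ᵀ)
      (Y := fun i => Function.update (1 : Fin k → F) i0 (-1) i • A i)
      (by rw [← ptm_transpose, hsk, ← hsmul, neg_one_smul]) (fun i => smul_ne_zero (by
        rcases eq_or_ne i i0 with rfl | h
        · simp
        · simp [Function.update_of_ne h]) (hA0 i))
    set ε : Fin k → F := fun i => d i * Function.update (1 : Fin k → F) i0 (-1) i with hεdef
    have hεA : ∀ i, (A i)ᵀ = ε i • A i := fun i => by
      rw [show (A i)ᵀ = _ from hd i, smul_smul]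
    have hεp : ∏ i, ε i = -1 := by
      simp only [hεdef]
      rw [Finset.prod_mul_distrib, hdp, one_mul, Finset.prod_update_of_mem (Finset.mem_univ _)]
      simp
    have hne : ∀ i, ∃ u v, A i u v ≠ 0 := fun i => by
      by_contra hcon
      simp only [not_exists, not_not] at hcon
      exact hA0 i (Matrix.ext hcon)
    have hεsq : ∀ i, ε i * ε i = 1 := by
      intro i
      obtain ⟨u, v, huv⟩ := hne i
      have h1 := congrFun (congrFun (hεA i) u) v
      have h2 := congrFun (congrFun (hεA i) v) u
      simp only [Matrix.transpose_apply, Matrix.smul_apply, smul_eq_mul] at h1 h2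
      exact mul_right_cancel₀ huv (by rw [one_mul, mul_assoc, ← h1, ← h2])
    -- all factors have the same kind
    have hrel : ∀ i j, ∃ (y : GL (Fin a) F) (c : F), c ≠ 0 ∧
        (y : Matrix (Fin a) (Fin a) F)ᵀ * A j * (y : Matrix (Fin a) (Fin a) F) = c • A i := by
      intro i j
      obtain ⟨g, hg, s, hsij, hs⟩ := htrans i j
      obtain ⟨gs, rfl⟩ := hdec g s hs
      have h1 := similar_coords (σ := RingEquiv.refl F) (M := M) e P (hGM hg)
      rw [hgram] at h1
      obtain ⟨c, hc⟩ := h1
      have h2 := gram_of_similar hc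
      rw [perm_ptm_gram, hsmul] at h2
      obtain ⟨w, hw, hwp⟩ := ptm_eq_ptm h2 (fun i => smul_ne_zero (by
        rcases eq_or_ne i i0 with rfl | h
        · simp
        · simp [Function.update_of_ne h]) (hA0 i))
      have h3 := hw i
      rw [smul_smul, hsij, hid] at h3
      refine ⟨gs i, _, mul_ne_zero ?_ ?_, h3⟩
      · exact Finset.prod_ne_zero_iff.1 (hwp ▸ one_ne_zero) i (Finset.mem_univ i)
      · rcases eq_or_ne i i0 with rfl | h
        · simp
        · simp [Function.update_of_ne h]
    have hεeq : ∀ i j, ε i = ε j := by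
      intro i j
      obtain ⟨y, c, hc, hy⟩ := hrel i j
      have h1 := congrArg Matrix.transpose hy
      rw [Matrix.transpose_mul, Matrix.transpose_mul, Matrix.transpose_transpose, Matrix.transpose_smul,
        hεA i, hεA j, Matrix.smul_mul, Matrix.mul_smul, ← mul_assoc, hy, smul_smul, smul_smul] at h1
      obtain ⟨u, v, huv⟩ := hne i
      have h2 := congrFun (congrFun h1 u) v
      simp only [Matrix.smul_apply, smul_eq_mul] at h2
      refine (mul_left_cancel₀ hc ?_).symm
      exact mul_right_cancel₀ huv (by rw [mul_comm c (ε j)]; exact h2)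
    have hεk : ε i0 ^ k = -1 := by
      rw [← hεp, show (∏ i, ε i) = ∏ _i : Fin k, ε i0 from Finset.prod_congr rfl fun i _ => hεeq i i0]
      simp
    by_cases hodd : Odd (Fintype.card F)
    · have h2 : (2 : F) ≠ 0 := two_ne_zero_iff_odd.2 hodd
      have hε1 : ∀ i, ε i = -1 := by
        intro i
        rw [hεeq i i0]
        refine (mul_self_eq_one_iff.1 (hεsq i0)).resolve_left fun h => ?_
        rw [h, one_pow] at hεk
        exact h2 (by linear_combination hεk)
      have hkodd : Odd k := by
        rcases Nat.even_or_odd k with hev | ho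
        · rw [hε1, hev.neg_one_pow] at hεk
          exact absurd (by linear_combination hεk) h2
        · exact ho
      have hk3 : 3 ≤ k := by
        obtain ⟨t, rfl⟩ := hkodd
        omega
      -- equalising the factors
      choose y c hc0 hy using fun j => hrel i0 j
      set K : GL (Fin k → Fin a) F := glPtm y with hK
      set P' : GL ι F := P * glCoords e 1 K with hP'
      have hone : coordGram (RingEquiv.refl F) M e P' = (∏ i, c i) • ptm (fun _ : Fin k => A i0) := by
        rw [hP', coordGram_mul, hgram, hK, glPtm_val, ptm_transpose,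
          show (ptm fun i => (y i : Matrix (Fin a) (Fin a) F)).map (RingEquiv.refl F) =
            ptm fun i => (y i : Matrix (Fin a) (Fin a) F) from by ext u v; simp,
          ← ptm_mul, ← ptm_mul, ← ptm_smul]
        congr 1
        funext i
        exact hy i
      have hskew : ∀ i, (A i)ᵀ = -A i := fun i => by rw [hεA i, hε1, neg_one_smul]
      have hcf0 : CF (RingEquiv.refl F) (A i0) := ⟨hAu i0, fun _ => rfl, Or.inr ⟨rfl, hskew i0, fun u => by
        have := congrFun (congrFun (hskew i0) u) u
        simp only [Matrix.transpose_apply, Matrix.neg_apply] at this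
        exact (mul_eq_zero.1 (show (2 : F) * A i0 u u = 0 by linear_combination this)).resolve_left h2⟩⟩
      refine .power a k e P' (A i0) ha (by omega) _ (Finset.prod_ne_zero_iff.2 fun i _ => hc0 i) hone hcf0
        (fun _ => ⟨hodd, hkodd, hk3, ?_⟩) (fun h => absurd rfl h) fun g hg =>
          mem_tensorWreathSubgroup e P' g ?_
      · rintro ⟨hq, rfl⟩
        have hbot := eq_bot_of_perfect_ptm hq e P hperf hRT
        haveI : Nonempty (Fin k) := ⟨i0⟩
        haveI : Nontrivial ι := e.nontrivial
        exact not_adjoin_top_of_comm (R := R) (fun x hx z _ => by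
          rw [hbot, Subgroup.mem_bot] at hx; rw [hx, one_mul, mul_one]) hR
      · obtain ⟨s, gs, rfl⟩ := hGT g hg
        have hg' : glCoords e P (glPerm s * glPtm gs) =
            glCoords e P' (K⁻¹ * (glPerm s * glPtm gs) * K) := by
          rw [hP', glCoords_mul_right]
          congr 1
          group
        rw [hg', MulEquiv.symm_apply_apply]
        have hKmem : K ∈ tensorWreathStandard a k F :=
          Subgroup.subset_closure (Or.inl ⟨y, fun u v => rfl⟩)
        exact mul_mem (mul_mem (inv_mem hKmem) (mul_mem (Subgroup.subset_closure (Or.inr ⟨s, fun u v => rfl⟩))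
          (Subgroup.subset_closure (Or.inl ⟨gs, fun u v => rfl⟩)))) hKmem
    · -- a quadratic form
      have h2 : (2 : F) = 0 := by
        by_contra h
        exact hodd (two_ne_zero_iff_odd.1 h)
      have hsym : ∀ i u v, A i v u = A i u v := by
        intro i u v
        have h1 : ε i = 1 := by
          have h4 : (ε i - 1) ^ 2 = 0 := by linear_combination hεsq i - (ε i - 1) * h2
          exact sub_eq_zero.1 ((pow_eq_zero_iff two_ne_zero).1 h4)
        have := congrFun (congrFun (hεA i) u) v
        simpa [h1] using this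
      have hneg : ∀ z : F, -z = z := fun z => by linear_combination (-z) * h2
      have halt : ∀ i u, A i u u = 0 := by
        obtain ⟨j, hj⟩ : ∃ j, ∀ u, A j u u = 0 := by
          by_contra hcon
          simp only [not_exists, not_forall] at hcon
          choose w hw using hcon
          exact Finset.prod_ne_zero_iff.2 (fun i _ => hw i)
            (show ∏ i, A i (w i) (w i) = 0 from hdg w)
        intro i u
        obtain ⟨y, c, hc0, hy⟩ := hrel i j
        have hcfj : CF (RingEquiv.refl F) (A j) := ⟨hAu j, fun _ => rfl, Or.inr ⟨rfl, by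
          ext p r; rw [Matrix.transpose_apply, Matrix.neg_apply, hneg, hsym], hj⟩⟩
        have h1 := hcfj.alt rfl ((y : Matrix (Fin a) (Fin a) F) *ᵥ Pi.single u 1)
        rw [frm, formOfGram_act, hid, hy, formOfGram_single, Matrix.smul_apply, smul_eq_mul] at h1
        exact (mul_eq_zero.1 h1).resolve_left hc0
      obtain ⟨k', rfl⟩ : ∃ k', k = k' + 1 := ⟨k - 1, by omega⟩
      let E : (Fin (k' + 1) → Fin a) ≃ Fin a × Fin (a ^ k') :=
        (Fin.consEquiv fun _ : Fin (k' + 1) => Fin a).symm.trans
          (Equiv.prodCongr (Equiv.refl _) finFunctionFinEquiv)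
      let Bt : Matrix (Fin (a ^ k')) (Fin (a ^ k')) F :=
        (ptm fun j : Fin k' => A j.succ).submatrix finFunctionFinEquiv.symm finFunctionFinEquiv.symm
      have hsplit : ∀ (X : Fin (k' + 1) → Matrix (Fin a) (Fin a) F),
          (ptm X).submatrix E.symm E.symm = X 0 ⊗ₖ
            ((ptm fun j : Fin k' => X j.succ).submatrix finFunctionFinEquiv.symm finFunctionFinEquiv.symm) := by
        intro X
        ext ⟨p, u⟩ ⟨r, v⟩
        simp [E, ptm, Fin.prod_univ_succ, Fin.consEquiv]
      have hgram' : coordGram (RingEquiv.refl F) M (e.trans E) P = A 0 ⊗ₖ Bt := by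
        rw [coordGram_trans, hgram, hsplit]
      obtain ⟨Q, hQ, hpol, hle⟩ := exists_quad_of_tensor rfl hodd hM (by omega) (e.trans E) P hgram'
        (by ext p r; rw [Matrix.transpose_apply, Matrix.neg_apply, hneg, hsym]) (halt 0)
        (by
          ext p r
          rw [Matrix.transpose_apply, Matrix.neg_apply, hneg]
          simp only [Bt, Matrix.submatrix_apply, ptm, Matrix.of_apply]
          exact Finset.prod_congr rfl fun i _ => hsym _ _ _)
        (fun p => by
          simp only [Bt, Matrix.submatrix_apply, ptm, Matrix.of_apply]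
          exact Finset.prod_eq_zero (Finset.mem_univ (⟨0, by omega⟩ : Fin k')) (halt _ _))
      refine .quad Q rfl hodd hQ hpol fun g hg => ?_
      obtain ⟨c, hc⟩ := hGM hg
      have hfix : FixesQuadForm (matrixSet R) Q := by
        rintro _ ⟨x, hx, rfl⟩ v
        obtain ⟨gs, hgs⟩ := hRT x hx
        have hxT : x ∈ tensorProductSubgroup a (a ^ k') (e.trans E) P := by
          let f := finFunctionFinEquiv (m := a) (n := k')
          let tl : GL (Fin (a ^ k')) F :=
            ⟨Matrix.reindexAlgEquiv F F f (glPtm fun j => gs j.succ).val,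
              Matrix.reindexAlgEquiv F F f (glPtm fun j => gs j.succ).inv,
              by rw [← map_mul, (glPtm fun j => gs j.succ).val_inv, map_one],
              by rw [← map_mul, (glPtm fun j => gs j.succ).inv_val, map_one]⟩
          have hx' : x = glCoords (e.trans E) P (glKron (gs 0) tl) := by
            rw [hgs]
            apply Units.ext
            rw [glCoords_val, glCoords_val]
            simp only [matCoords, AlgEquiv.trans_apply]
            congr 1
            rw [glKron_val, show (tl : Matrix _ _ F) =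
              (ptm fun j : Fin k' => (gs j.succ : Matrix (Fin a) (Fin a) F)).submatrix f.symm f.symm from rfl,
              ← hsplit (fun i => (gs i : Matrix (Fin a) (Fin a) F)), glPtm_val]
            ext p r
            simp
          rw [hx']
          exact mem_tensorProductSubgroup_kron _ P _ _
        have h1 := isometry_of_mem_commutator hM.nondeg hGM (hRc hx)
        obtain ⟨c', hc'⟩ := hle ⟨hxT, ⟨1, fun u w => by rw [h1, Units.val_one, one_mul]⟩⟩
        obtain ⟨u, hu⟩ : ∃ u : ι → F, u ≠ 0 := exists_ne 0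
        obtain ⟨w, hw⟩ := (hM.nondeg u hu).2
        have h3 := h1 u w
        rw [← hpol, ← hpol, QuadraticMap.polar, QuadraticMap.polar, ← Matrix.mulVec_add, hc', hc', hc'] at h3
        have hc1 : (c' : F) = 1 := by
          refine mul_right_cancel₀ (b := frm (RingEquiv.refl F) M u w) hw ?_
          rw [one_mul, ← hpol, QuadraticMap.polar]
          linear_combination h3
        rw [hc', hc1, one_mul]
      refine mem_quadSimilarity_of_normalizes ?_ hodd hQ hR hfix (hRG g hg) (c := c) fun u v => by
        rw [hpol, hpol]; exact hc u v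
      rw [Fintype.card_congr e, Fintype.card_fun, Fintype.card_fin, Fintype.card_fin]
      exact le_trans ha (Nat.le_self_pow (by omega) a)

end H46
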