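import Cfsg.Agent.H46.ClsMinus
import Cfsg.Agent.H46.ClsTensor
import Cfsg.Agent.H46.AschSympType

/-!
A normal subgroup abelian modulo scalars gives a symplectic-type group or a subfield structure.
-/

set_option autoImplicit false
set_option linter.style.haveILetI false
set_option linter.unusedSectionVars false
set_option maxHeartbeats 2000000

open Cfsg.Geo
open scoped Matrix Kronecker MatrixGroups commutatorElement

namespace H46

variable {ι : Type} [Fintype ι] [DecidableEq ι] {F : Type*} [Field F] [Fintype F]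

/-- A normal subgroup, non-scalar, abelian modulo scalars and with spanning non-scalar normal
subgroups, yields a geometric structure. -/
theorem ClsGeometric.of_abelian {σ : F ≃+* F} {M : Matrix ι ι F} (hM : CF σ M)
    (hn : 3 ≤ Fintype.card ι) {G : Subgroup (GL ι F)} (hGM : G ≤ similarityGroup (frm σ M))
    (hspan : ∀ N : Subgroup (GL ι F), N ≤ G → (∀ g ∈ G, ∀ x ∈ N, g * x * g⁻¹ ∈ N) →
      ¬ N ≤ scalars ι F → Algebra.adjoin F (matrixSet N) = ⊤)
    {N : Subgroup (GL ι F)} (hNG : N ≤ G) (hZN : scalars ι F ≤ N)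
    (hnorm : ∀ g ∈ G, ∀ x ∈ N, g * x * g⁻¹ ∈ N) (hns : ¬ N ≤ scalars ι F)
    (hmin : ∀ M : Subgroup (GL ι F), scalars ι F ≤ M → M ≤ N →
      (∀ g ∈ G, ∀ x ∈ M, g * x * g⁻¹ ∈ M) → M = scalars ι F ∨ M = N)
    (hab : ∀ x ∈ N, ∀ y ∈ N, x * y * x⁻¹ * y⁻¹ ∈ scalars ι F) : ClsGeometric σ M G := by
  classical
  haveI hne : Nonempty ι := Fintype.card_pos_iff.1 (by omega)
  haveI : Nontrivial ι := Fintype.one_lt_card_iff_nontrivial.1 (by omega)
  -- commutator scalar
  have hcs : ∀ x ∈ N, ∀ y ∈ N, ∃ c : Fˣ, y * x = x * y * scl ι c := by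
    intro x hx y hy
    obtain ⟨c, hc⟩ := exists_scl (hab y hy x hx)
    refine ⟨c, ?_⟩
    rw [← (scl_comm c (x * y)).eq, ← hc]
    group
  have hnab : ¬ ∀ x ∈ N, ∀ y ∈ N, x * y = y * x := fun h =>
    not_adjoin_top_of_comm h (hspan N hNG hnorm hns)
  obtain ⟨x1, hx1, hx1s⟩ := SetLike.not_le_iff_exists.1 hns
  have hex : ∃ k, 0 < k ∧ x1 ^ k ∈ scalars ι F :=
    ⟨orderOf x1, orderOf_pos x1, by rw [pow_orderOf_eq_one]; exact one_mem _⟩
  set k1 := Nat.find hex with hk1
  obtain ⟨hk10, hk1m⟩ := Nat.find_spec hex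
  rw [← hk1] at hk10 hk1m
  have hk11 : k1 ≠ 1 := fun h => hx1s (by rw [h, pow_one] at hk1m; exact hk1m)
  set r := k1.minFac
  have hr : r.Prime := Nat.minFac_prime hk11
  haveI : Fact r.Prime := ⟨hr⟩
  set z1 := x1 ^ (k1 / r) with hz1def
  have hz1N : z1 ∈ N := pow_mem hx1 _
  have hz1s : z1 ∉ scalars ι F := fun h => Nat.find_min hex (show k1 / r < k1 from
    Nat.div_lt_self hk10 hr.one_lt) ⟨Nat.div_pos (Nat.minFac_le hk10) hr.pos, h⟩
  have hz1r : z1 ^ r ∈ scalars ι F := by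
    rw [hz1def, ← pow_mul, Nat.div_mul_cancel (Nat.minFac_dvd k1)]; exact hk1m
  have hmulpow : ∀ x ∈ N, ∀ y ∈ N, ∃ c : Fˣ, y * x = x * y * scl ι c ∧
      (x * y) ^ r = x ^ r * y ^ r * scl ι (c ^ r.choose 2) := by
    intro x hx y hy
    obtain ⟨c, hc⟩ := hcs x hx y hy
    exact ⟨c, hc, by rw [mul_pow_central (scl_comm c) hc, map_pow]⟩
  -- all r-th powers are scalar
  let Nr : Subgroup (GL ι F) :=
    { carrier := {x | x ∈ N ∧ x ^ r ∈ scalars ι F}
      one_mem' := ⟨one_mem _, by rw [one_pow]; exact one_mem _⟩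
      mul_mem' := by
        rintro a b ⟨ha, ha'⟩ ⟨hb, hb'⟩
        obtain ⟨c, -, hc⟩ := hmulpow a ha b hb
        exact ⟨mul_mem ha hb, by rw [hc]; exact mul_mem (mul_mem ha' hb') (scl_mem _)⟩
      inv_mem' := by
        rintro a ⟨ha, ha'⟩
        exact ⟨inv_mem ha, by rw [inv_pow]; exact inv_mem ha'⟩ }
  have hNr : Nr = N := by
    refine (hmin Nr (fun z hz => ⟨hZN hz, pow_mem hz r⟩) (fun x hx => hx.1) ?_).resolve_left
      fun h => hz1s (h ▸ (show z1 ∈ Nr from ⟨hz1N, hz1r⟩))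
    rintro g hg x ⟨hx, hx'⟩
    exact ⟨hnorm g hg x hx, by rw [conj_pow]; exact (scalars_normal).conj_mem _ hx' g⟩
  have hpow : ∀ x ∈ N, ∃ v : Fˣ, x ^ r = scl ι v := fun x hx =>
    exists_scl (show x ^ r ∈ scalars ι F by
      have : x ∈ Nr := hNr ▸ hx
      exact this.2)
  have hcr : ∀ x ∈ N, ∀ y ∈ N, ∀ c : Fˣ, y * x = x * y * scl ι c → c ^ r = 1 := by
    intro x hx y hy c hc
    obtain ⟨v, hv⟩ := hpow y hy
    have := pow_mul_comm_central (scl_comm c) hc r
    rw [hv, (scl_comm v x).eq, ← map_pow] at this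
    exact scl_injective (by rw [map_one]; exact (left_eq_mul.1 this))
  -- characteristic
  obtain ⟨p, hp⟩ := CharP.exists F
  haveI := hp
  obtain ⟨e', hpp, hq⟩ := FiniteField.card F p
  haveI : Fact p.Prime := ⟨hpp⟩
  set e : ℕ := (e' : ℕ) with he'
  have he0 : 0 < e := e'.pos
  haveI : ExpChar F p := ExpChar.prime hpp
  obtain ⟨c0, hc0, hc01⟩ : ∃ c : Fˣ, c ^ r = 1 ∧ c ≠ 1 := by
    by_contra hcon
    apply hnab
    intro x hx y hy
    obtain ⟨c, hc⟩ := hcs x hx y hy
    have h1 : c = 1 := by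
      by_contra h
      exact hcon ⟨c, hcr x hx y hy c hc, h⟩
    rw [hc, h1, map_one, mul_one]
  have hc0ord : orderOf c0 = r := orderOf_eq_prime hc0 hc01
  have hrp : r ≠ p := by
    intro h
    apply hc01
    apply Units.ext
    have h2 : (((c0 : F)) - 1) ^ p = 0 := by
      rw [sub_pow_char, one_pow, ← h, ← Units.val_pow_eq_pow_val, hc0, Units.val_one, sub_self]
    simpa [sub_eq_zero] using pow_eq_zero_iff hpp.ne_zero |>.1 h2
  -- the group R₀
  let good : Fˣ → Prop := fun u => u ^ r = 1 ∨ (r = 2 ∧ u ^ r = -1)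
  have good_iff_sq : ∀ u, r = 2 → (good u ↔ (u ^ r = 1 ∨ u ^ r = -1)) := fun u h2 => by simp [good, h2]
  let okv : Fˣ → Prop := fun v => v = 1 ∨ (r = 2 ∧ v = -1)
  have okv_mul : ∀ a b, okv a → okv b → okv (a * b) := by
    rintro a b (rfl | ⟨h2, rfl⟩) (rfl | ⟨h2', rfl⟩)
    · exact Or.inl (one_mul 1)
    · exact Or.inr ⟨h2', one_mul _⟩
    · exact Or.inr ⟨h2, mul_one _⟩
    · exact Or.inl (neg_one_mul _ |>.trans (neg_neg 1))
  have okv_inv : ∀ a, okv a → okv a⁻¹ := by
    rintro a (rfl | ⟨h2, rfl⟩)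
    · exact Or.inl inv_one
    · exact Or.inr ⟨h2, by simp⟩
  have okv_choose : ∀ c : Fˣ, c ^ r = 1 → okv (c ^ r.choose 2) := by
    intro c hc
    rcases hr.eq_two_or_odd' with h2 | hodd
    · rw [h2] at hc ⊢
      simp only [Nat.choose_self, pow_one]
      rcases (sq_eq_one_iff.1 (by rw [← Units.val_pow_eq_pow_val, hc, Units.val_one] :
        (c : F) ^ 2 = 1)) with h | h
      · exact Or.inl (Units.ext h)
      · exact Or.inr ⟨h2, Units.ext (by simp [h])⟩
    · left
      obtain ⟨j, hj⟩ := hodd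
      rw [Nat.choose_two_right, show r * (r - 1) / 2 = r * j by
        rw [hj, Nat.add_sub_cancel, show (2 * j + 1) * (2 * j) = (2 * j + 1) * j * 2 by ring,
          Nat.mul_div_cancel _ two_pos], pow_mul, hc, one_pow]
  let R₀ : Subgroup (GL ι F) :=
    { carrier := {x | x ∈ N ∧ ∃ v, okv v ∧ x ^ r = scl ι v}
      one_mem' := ⟨one_mem _, 1, Or.inl rfl, by rw [one_pow, map_one]⟩
      mul_mem' := by
        rintro a b ⟨ha, u, hu, hau⟩ ⟨hb, v, hv, hbv⟩
        obtain ⟨c, hc, hpw⟩ := hmulpow a ha b hb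
        exact ⟨mul_mem ha hb, u * v * c ^ r.choose 2,
          okv_mul _ _ (okv_mul _ _ hu hv) (okv_choose c (hcr a ha b hb c hc)),
          by rw [hpw, hau, hbv, map_mul, map_mul]⟩
      inv_mem' := by
        rintro a ⟨ha, u, hu, hau⟩
        exact ⟨inv_mem ha, u⁻¹, okv_inv u hu, by rw [inv_pow, hau, map_inv]⟩ }
  have hRN₀ : R₀ ≤ N := fun x hx => hx.1
  have hRnorm₀ : ∀ g ∈ G, ∀ x ∈ R₀, g * x * g⁻¹ ∈ R₀ := by
    rintro g hg x ⟨hx, v, hv, hxv⟩
    refine ⟨hnorm g hg x hx, v, hv, ?_⟩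
    rw [conj_pow, hxv, ← (scl_comm v g).eq, mul_inv_cancel_right]
  have hsclR₀ : ∀ u : Fˣ, scl ι u ∈ R₀ ↔ good u := by
    intro u
    constructor
    · rintro ⟨-, v, hv, huv⟩
      rw [← map_pow] at huv
      rcases hv with rfl | ⟨h2, rfl⟩
      · exact Or.inl (scl_injective huv)
      · exact Or.inr ⟨h2, scl_injective huv⟩
    · rintro (h | ⟨h2, h⟩)
      · exact ⟨hZN (scl_mem u), 1, Or.inl rfl, by rw [← map_pow, h]⟩
      · exact ⟨hZN (scl_mem u), -1, Or.inr ⟨h2, rfl⟩, by rw [← map_pow, h]⟩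
  -- R₀ is not scalar
  obtain ⟨w, hw⟩ := IsCyclic.exists_generator (α := Fˣ)
  have hrq : r ∣ orderOf w := by
    rw [orderOf_eq_card_of_forall_mem_zpowers hw, ← hc0ord]
    exact orderOf_dvd_natCard c0
  have hRns₀ : ¬ R₀ ≤ scalars ι F := by
    intro hR
    apply hnab
    -- rescalable elements are scalar
    have hres : ∀ x ∈ N, ∀ s v : Fˣ, okv v → x ^ r = scl ι (s ^ r * v) → x ∈ scalars ι F := by
      intro x hx s v hv hxs
      have : scl ι s⁻¹ * x ∈ R₀ := ⟨mul_mem (hZN (scl_mem _)) hx, v, hv, by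
        rw [(scl_comm _ x).mul_pow, hxs, ← map_pow, ← map_mul, inv_pow, inv_mul_cancel_left]⟩
      have h2 := mul_mem (scl_mem (ι := ι) s) (hR this)
      rwa [map_inv, mul_inv_cancel_left] at h2
    have hval : ∀ x ∈ N, ∃ i : ℤ, x ^ r = scl ι (w ^ i) := fun x hx => by
      obtain ⟨v, hv⟩ := hpow x hx
      obtain ⟨i, hi⟩ := Subgroup.mem_zpowers_iff.1 (hw v)
      exact ⟨i, by rw [hv, hi]⟩
    obtain ⟨i0, hi0⟩ := hval z1 hz1N
    have hi0r : ¬ (r : ℤ) ∣ i0 := by
      rintro ⟨j, rfl⟩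
      exact hz1s (hres z1 hz1N (w ^ j) 1 (Or.inl rfl) (by
        rw [hi0, mul_one, ← zpow_natCast, ← zpow_mul, mul_comm]))
    have hgen : ∀ x ∈ N, ∃ j : ℕ, ∃ s : Fˣ, x * z1 ^ j = scl ι s := by
      intro x hx
      obtain ⟨i, hi⟩ := hval x hx
      obtain ⟨j, hj⟩ : ∃ j : ℕ, (r : ℤ) ∣ i + j * i0 := by
        have h0 : (i0 : ZMod r) ≠ 0 := fun h => hi0r ((ZMod.intCast_zmod_eq_zero_iff_dvd _ _).1 h)
        refine ⟨(-(i : ZMod r) / (i0 : ZMod r)).val, (ZMod.intCast_zmod_eq_zero_iff_dvd _ _).1 ?_⟩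
        push_cast
        rw [ZMod.natCast_zmod_val, div_mul_cancel₀ _ h0, add_neg_cancel]
      obtain ⟨c, hc, hpw⟩ := hmulpow x hx (z1 ^ j) (pow_mem hz1N j)
      obtain ⟨l, hl⟩ := hj
      refine ⟨j, exists_scl (hres _ (mul_mem hx (pow_mem hz1N j)) (w ^ l) (c ^ r.choose 2)
        (okv_choose c (hcr x hx _ (pow_mem hz1N j) c hc)) ?_)⟩
      rw [hpw, hi, ← pow_mul, mul_comm j r, pow_mul, hi0, ← map_pow, ← map_mul, ← map_mul]
      congr 1
      congr 1
      rw [← zpow_natCast, ← zpow_mul, ← zpow_add, ← zpow_natCast, ← zpow_mul]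
      congr 1
      linear_combination hl
    intro x hx y hy
    have hcent : ∀ x ∈ N, Commute z1 x := by
      intro x hx
      obtain ⟨j, s, hs⟩ := hgen x hx
      rw [show x = scl ι s * (z1 ^ j)⁻¹ by rw [← hs, mul_inv_cancel_right]]
      exact (scl_comm s z1).symm.mul_right ((Commute.refl z1).pow_right j).inv_right
    obtain ⟨j, s, hs⟩ := hgen x hx
    rw [show x = scl ι s * (z1 ^ j)⁻¹ by rw [← hs, mul_inv_cancel_right]]
    exact ((scl_comm s y).mul_left ((hcent y hy).pow_left j).inv_left).eq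
  have hRspan₀ := hspan R₀ (hRN₀.trans hNG) hRnorm₀ hRns₀
  have hncomm : ∀ {S : Subgroup (GL ι F)}, Algebra.adjoin F (matrixSet S) = ⊤ →
      ∃ x ∈ S, ∃ y ∈ S, x * y ≠ y * x := by
    intro S hS
    by_contra hcon
    simp only [not_exists, not_and, not_not] at hcon
    exact not_adjoin_top_of_comm hcon hS
  obtain ⟨εf, -, -, hεf⟩ := hM.exists_sign
  obtain ⟨u₀, hu₀⟩ : ∃ u : ι → F, u ≠ 0 := exists_ne 0
  obtain ⟨w₀, hw₀⟩ := (hM.nondeg u₀ hu₀).2
  have hmultσ : ∀ (g : GL ι F) (c : F),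
      (∀ u v, frm σ M ((g : Matrix ι ι F) *ᵥ u) ((g : Matrix ι ι F) *ᵥ v) = c * frm σ M u v) → σ c = c := by
    intro g c hc
    have h1 := hc u₀ w₀
    rw [hεf, hc, map_mul, mul_left_comm, ← hεf] at h1
    exact mul_right_cancel₀ hw₀ h1
  have hmultr : ∀ x ∈ R₀, ∀ c : F,
      (∀ u v, frm σ M ((x : Matrix ι ι F) *ᵥ u) ((x : Matrix ι ι F) *ᵥ v) = c * frm σ M u v) →
        c ^ r = 1 := by
    rintro x ⟨-, v, hv, hxv⟩ c hc
    have hpw : ∀ (n : ℕ) u w, frm σ M (((x ^ n : GL ι F) : Matrix ι ι F) *ᵥ u)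
        (((x ^ n : GL ι F) : Matrix ι ι F) *ᵥ w) = c ^ n * frm σ M u w := by
      intro n
      induction n with
      | zero => intro u w; simp
      | succ n ih =>
        intro u w
        rw [pow_succ, Units.val_mul, ← Matrix.mulVec_mulVec, ← Matrix.mulVec_mulVec, ih, hc, pow_succ,
          mul_assoc]
    have h1 := hpw r u₀ w₀
    rw [hxv, scl_val, Matrix.smul_mulVec, Matrix.smul_mulVec, Matrix.one_mulVec, Matrix.one_mulVec,
      frm_smul_left, frm_smul_right, ← mul_assoc] at h1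
    have h2 : (v : F) * σ (v : F) = 1 := by
      rcases hv with rfl | ⟨-, rfl⟩ <;> simp
    rw [h2] at h1
    exact mul_right_cancel₀ hw₀ h1.symm
  -- roots of unity in the commutators
  obtain ⟨xa, hxa, ya, hya, hxya⟩ := hncomm hRspan₀
  obtain ⟨c1, hc1⟩ := hcs xa (hRN₀ hxa) ya (hRN₀ hya)
  have hc1r : c1 ^ r = 1 := hcr xa (hRN₀ hxa) ya (hRN₀ hya) c1 hc1
  have hc1ne : c1 ≠ 1 := fun h => hxya (by rw [hc1, h, map_one, mul_one])
  have hc1ord : orderOf c1 = r := orderOf_eq_prime hc1r hc1ne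
  have hc1iso : (c1 : F) * σ (c1 : F) = 1 := by
    have hmem : scl ι c1 ∈ ⁅G, G⁆ := by
      have h1 : scl ι c1 = ⁅ya⁻¹, xa⁻¹⁆ := by
        rw [commutatorElement_def, inv_inv, inv_inv, mul_assoc, hc1]
        group
      rw [h1]
      exact Subgroup.commutator_mem_commutator (inv_mem (hNG (hRN₀ hya))) (inv_mem (hNG (hRN₀ hxa)))
    have h2 := isometry_of_mem_commutator hM.nondeg hGM hmem u₀ w₀
    rw [scl_val, Matrix.smul_mulVec, Matrix.smul_mulVec, Matrix.one_mulVec, Matrix.one_mulVec,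
      frm_smul_left, frm_smul_right, ← mul_assoc] at h2
    exact mul_right_cancel₀ hw₀ (by rw [one_mul]; exact h2)
  have hprimr : IsPrimitiveRoot (c1 : F) r := by
    rw [IsPrimitiveRoot.coe_units_iff]
    exact hc1ord ▸ IsPrimitiveRoot.orderOf c1
  haveI : NeZero r := ⟨hr.ne_zero⟩
  have hroot : ∀ u : Fˣ, u ^ r = 1 → u ∈ Subgroup.zpowers c1 := by
    intro u hu
    obtain ⟨i, -, hi⟩ := hprimr.eq_pow_of_pow_eq_one (ξ := (u : F)) (by
      rw [← Units.val_pow_eq_pow_val, hu, Units.val_one])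
    exact ⟨i, by show _ ^ (i : ℤ) = u; rw [zpow_natCast]; exact Units.ext (by rw [Units.val_pow_eq_pow_val, hi])⟩
  have hrootI : ∀ u : Fˣ, u ^ r = 1 → (u : F) * σ (u : F) = 1 := by
    intro u hu
    obtain ⟨k, rfl⟩ := hroot u hu
    simp only [Units.val_zpow_eq_zpow_val, map_zpow₀, ← mul_zpow, hc1iso, one_zpow]
  -- the group of isometries in it
  let R : Subgroup (GL ι F) :=
    { carrier := {x | x ∈ R₀ ∧
        ∀ u v, frm σ M ((x : Matrix ι ι F) *ᵥ u) ((x : Matrix ι ι F) *ᵥ v) = frm σ M u v}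
      one_mem' := ⟨one_mem _, fun u v => by simp⟩
      mul_mem' := fun {a b} ha hb => ⟨mul_mem ha.1 hb.1, fun u v => by
        rw [Units.val_mul, ← Matrix.mulVec_mulVec, ← Matrix.mulVec_mulVec, ha.2, hb.2]⟩
      inv_mem' := fun {a} ha => ⟨inv_mem ha.1, fun u v => by
        rw [← ha.2, Matrix.mulVec_mulVec, Matrix.mulVec_mulVec, ← Units.val_mul, mul_inv_cancel,
          Units.val_one, Matrix.one_mulVec, Matrix.one_mulVec]⟩ }
  have hRN : R ≤ N := fun x hx => hRN₀ hx.1
  have hRnorm : ∀ g ∈ G, ∀ x ∈ R, g * x * g⁻¹ ∈ R := by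
    intro g hg x hx
    refine ⟨hRnorm₀ g hg x hx.1, fun u v => ?_⟩
    obtain ⟨c, hc⟩ := hGM hg
    obtain ⟨u', rfl⟩ : ∃ u', (g : Matrix ι ι F) *ᵥ u' = u :=
      ⟨((g⁻¹ : GL ι F) : Matrix ι ι F) *ᵥ u, by simp [Matrix.mulVec_mulVec]⟩
    obtain ⟨v', rfl⟩ : ∃ v', (g : Matrix ι ι F) *ᵥ v' = v :=
      ⟨((g⁻¹ : GL ι F) : Matrix ι ι F) *ᵥ v, by simp [Matrix.mulVec_mulVec]⟩
    have he : ∀ z, ((g * x * g⁻¹ : GL ι F) : Matrix ι ι F) *ᵥ ((g : Matrix ι ι F) *ᵥ z) =
        (g : Matrix ι ι F) *ᵥ ((x : Matrix ι ι F) *ᵥ z) := fun z => by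
      rw [Matrix.mulVec_mulVec, Matrix.mulVec_mulVec, ← Units.val_mul, ← Units.val_mul,
        inv_mul_cancel_right]
    rw [he, he, hc, hc, hx.2]
  let goodI : Fˣ → Prop := fun u => good u ∧ (u : F) * σ (u : F) = 1
  have hsclR : ∀ u : Fˣ, scl ι u ∈ R ↔ goodI u := by
    intro u
    constructor
    · rintro ⟨h1, h2⟩
      refine ⟨(hsclR₀ u).1 h1, ?_⟩
      have h3 := h2 u₀ w₀
      rw [scl_val, Matrix.smul_mulVec, Matrix.smul_mulVec, Matrix.one_mulVec, Matrix.one_mulVec,
        frm_smul_left, frm_smul_right, ← mul_assoc] at h3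
      exact mul_right_cancel₀ hw₀ (by rw [one_mul]; exact h3)
    · rintro ⟨h1, h2⟩
      refine ⟨(hsclR₀ u).2 h1, fun a b => ?_⟩
      rw [scl_val, Matrix.smul_mulVec, Matrix.smul_mulVec, Matrix.one_mulVec, Matrix.one_mulVec,
        frm_smul_left, frm_smul_right, ← mul_assoc, h2, one_mul]
  have hRns : ¬ R ≤ scalars ι F := by
    intro hle
    have hone : ∀ x ∈ R₀, ∀ c : F,
        (∀ u v, frm σ M ((x : Matrix ι ι F) *ᵥ u) ((x : Matrix ι ι F) *ᵥ v) = c * frm σ M u v) →
          c = 1 ∨ c = -1 := by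
      intro x hx c hc
      have h1 := hmultr x hx c hc
      have hc0 : c ≠ 0 := fun h => by rw [h, zero_pow hr.ne_zero] at h1; exact zero_ne_one h1
      have h2 := hrootI (Units.mk0 c hc0) (Units.ext (by simpa using h1))
      simp only [Units.val_mk0, hmultσ x c hc] at h2
      exact mul_self_eq_one_iff.1 h2
    have hscal : ∀ x ∈ R₀,
        (∀ u v, frm σ M ((x : Matrix ι ι F) *ᵥ u) ((x : Matrix ι ι F) *ᵥ v) = frm σ M u v) →
          x ∈ scalars ι F := fun x hx h => hle ⟨hx, h⟩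
    have hnx : xa ∉ scalars ι F := fun h => hxya (scalars_mul_comm h ya)
    have hny : ya ∉ scalars ι F := fun h => hxya (scalars_mul_comm h xa).symm
    obtain ⟨cx, hcx⟩ := hGM (hNG (hRN₀ hxa))
    obtain ⟨cy, hcy⟩ := hGM (hNG (hRN₀ hya))
    rcases hone xa hxa _ hcx with h | h
    · exact hnx (hscal xa hxa fun u v => by rw [hcx, h, one_mul])
    rcases hone ya hya _ hcy with h' | h'
    · exact hny (hscal ya hya fun u v => by rw [hcy, h', one_mul])
    have hxy : xa * ya ∈ scalars ι F := hscal _ (mul_mem hxa hya) fun u v => by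
      rw [Units.val_mul, ← Matrix.mulVec_mulVec, ← Matrix.mulVec_mulVec, hcx, hcy, h, h']
      ring
    apply hxya
    have h5 := scalars_mul_comm hxy xa
    rw [mul_assoc] at h5
    exact (mul_left_cancel h5).symm
  have hRspan := hspan R (hRN.trans hNG) hRnorm hRns
  -- traces
  have hcomR : ∀ x ∈ R, x ∉ scalars ι F → (x : Matrix ι ι F).trace = 0 := by
    intro x hx hxs
    obtain ⟨y, hy, hyx⟩ : ∃ y ∈ R, x * y ≠ y * x := by
      by_contra h
      exact hxs (mem_scalars_of_commute hRspan fun y hy => by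
        by_contra h'
        exact h ⟨y, hy, h'⟩)
    obtain ⟨c, hc⟩ := hcs x (hRN hx) y (hRN hy)
    have hc1 : (c : F) ≠ 1 := fun h => hyx (by
      rw [hc, Units.ext (h.trans Units.val_one.symm), map_one, mul_one])
    have hconj : (y * x * y⁻¹ : GL ι F) = scl ι c * x := by
      rw [hc, (scl_comm c x).eq, mul_assoc x y, ← (scl_comm c y).eq, mul_assoc, mul_inv_cancel_right]
    have h2 := congrArg (fun g : GL ι F => (g : Matrix ι ι F).trace) hconj
    simp only [scl_mul_val, Matrix.trace_smul, smul_eq_mul] at h2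
    rw [Units.val_mul, Units.val_mul, Matrix.trace_mul_comm, ← mul_assoc, ← Units.val_mul,
      inv_mul_cancel, Units.val_one, one_mul] at h2
    rcases mul_eq_zero.1 (show ((c : F) - 1) * (x : Matrix ι ι F).trace = 0 by
      linear_combination -h2) with h | h
    · exact absurd (sub_eq_zero.1 h) hc1
    · exact h
  have hRsp : Submodule.span F (matrixSet R) = ⊤ := by
    rw [← adjoin_matrixSet_eq_span, hRspan, Algebra.top_toSubmodule]
  have hnF : (Fintype.card ι : F) ≠ 0 := by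
    intro h0
    have hall : ∀ X : Matrix ι ι F, X.trace = 0 := by
      intro X
      have hX : X ∈ Submodule.span F (matrixSet R) := hRsp ▸ Submodule.mem_top
      induction hX using Submodule.span_induction with
      | mem z hz =>
        obtain ⟨x, hx, rfl⟩ := hz
        by_cases hxs : x ∈ scalars ι F
        · obtain ⟨u, rfl⟩ := exists_scl hxs
          show ((scl ι u : GL ι F) : Matrix ι ι F).trace = 0
          rw [scl_val, Matrix.trace_smul, Matrix.trace_one, h0, smul_zero]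
        · exact hcomR x hx hxs
      | zero => simp
      | add a b _ _ ha hb => rw [Matrix.trace_add, ha, hb, add_zero]
      | smul d a _ ha => rw [Matrix.trace_smul, ha, smul_zero]
    obtain ⟨i⟩ := hne
    have := hall (Matrix.single i i 1)
    rw [Matrix.trace_single_eq_same] at this
    exact one_ne_zero this
  obtain ⟨S', hS'sub, hS'span, hS'li⟩ := exists_linearIndependent F (matrixSet R)
  rw [hRsp] at hS'span
  let b : Module.Basis S' F (Matrix ι ι F) :=
    Module.Basis.mk hS'li (by rw [Subtype.range_coe]; exact hS'span.ge)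
  haveI : Fintype S' := Fintype.ofFinite S'
  have hB : Fintype.card S' = Fintype.card ι * Fintype.card ι := by
    rw [← Module.finrank_eq_card_basis b, Module.finrank_matrix]; simp
  have hbS : ∀ i : S', ∃ y ∈ R, (y : Matrix ι ι F) = b i := fun i => by
    obtain ⟨y, hy, hyi⟩ := hS'sub i.2
    exact ⟨y, hy, by rw [Module.Basis.mk_apply]; exact hyi⟩
  choose y hy hyb using hbS
  have hdec : ∀ x ∈ R, ∃ (u : Fˣ) (i : S'), goodI u ∧ x = scl ι u * y i := by
    intro x hx
    by_contra hcon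
    have h0 : ∀ i, (((y i)⁻¹ * x : GL ι F) : Matrix ι ι F).trace = 0 := by
      intro i
      refine hcomR _ (mul_mem (inv_mem (hy i)) hx) fun hs => hcon ?_
      obtain ⟨u, hu⟩ := exists_scl hs
      refine ⟨u, i, (hsclR u).1 (hu ▸ mul_mem (inv_mem (hy i)) hx), ?_⟩
      rw [(scl_comm u _).eq, ← hu, mul_inv_cancel_left]
    have hoth : ∀ i j, i ≠ j → (((y i)⁻¹ * y j : GL ι F) : Matrix ι ι F).trace = 0 := by
      intro i j hij
      refine hcomR _ (mul_mem (inv_mem (hy i)) (hy j)) fun hs => ?_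
      obtain ⟨u, hu⟩ := exists_scl hs
      have h3 : y j = scl ι u * y i := by rw [(scl_comm u _).eq, ← hu, mul_inv_cancel_left]
      have h4 := congrArg (fun g : GL ι F => b.repr (g : Matrix ι ι F) j) h3
      simp only [scl_mul_val, hyb, map_smul, Module.Basis.repr_self, Finsupp.smul_apply,
        Finsupp.single_eq_same, Finsupp.single_eq_of_ne (Ne.symm hij), smul_zero] at h4
      exact one_ne_zero h4
    have hsum := b.sum_repr (x : Matrix ι ι F)
    apply x.ne_zero
    rw [← hsum]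
    refine Finset.sum_eq_zero fun i _ => ?_
    have h5 := h0 i
    rw [Units.val_mul, ← hsum, Finset.mul_sum, Matrix.trace_sum, Finset.sum_eq_single i] at h5
    · rw [Matrix.mul_smul, Matrix.trace_smul, ← hyb, ← Units.val_mul, inv_mul_cancel, Units.val_one,
        Matrix.trace_one, smul_eq_mul] at h5
      rw [(mul_eq_zero.1 h5).resolve_right hnF, zero_smul]
    · intro j _ hj
      rw [Matrix.mul_smul, Matrix.trace_smul, ← hyb, ← Units.val_mul, hoth i j (Ne.symm hj), smul_zero]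
    · simp
  have hcommR : ∀ x ∈ R, ∀ y ∈ R, ∃ c : Fˣ, y * x = x * y * scl ι c := fun x hx y hy =>
    hcs x (hRN hx) y (hRN hy)
  have hInv : InvGram σ M (matrixSet R) := by
    rintro _ ⟨x, hx, rfl⟩
    have h2 := gram_of_similar (σ := σ) (M := M) (g := x) (c := 1) fun u v => by rw [one_mul]; exact hx.2 u v
    rwa [one_smul] at h2
  have hsim1 : ∀ (F₀ : Subfield F), ∀ x ∈ R, ∃ c ∈ F₀, ∀ u v,
      frm σ M ((x : Matrix ι ι F) *ᵥ u) ((x : Matrix ι ι F) *ᵥ v) = c * frm σ M u v :=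
    fun F₀ x hx => ⟨1, F₀.one_mem, fun u v => by rw [one_mul]; exact hx.2 u v⟩
  -- a generator of the scalars in R
  obtain ⟨ζ, hζg, hζgen⟩ : ∃ ζ : Fˣ, goodI ζ ∧ ∀ u, goodI u → u ∈ Subgroup.zpowers ζ := by
    by_cases hbig : ∃ u, goodI u ∧ u ∉ Subgroup.zpowers c1
    · obtain ⟨u, hu, hun⟩ := hbig
      refine ⟨u, hu, fun v hv => ?_⟩
      have h2 : r = 2 := by
        rcases hu.1 with h | ⟨h, -⟩
        · exact absurd (hroot u h) hun
        · exact h
      have hu2 : u ^ 2 = -1 := by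
        rcases hu.1 with h | ⟨-, h⟩
        · exact absurd (hroot u h) hun
        · rwa [h2] at h
      have hc1m : c1 = -1 := by
        have h := hc1r
        rw [h2] at h
        rcases (sq_eq_one_iff.1 (by rw [← Units.val_pow_eq_pow_val, h, Units.val_one] : (c1 : F) ^ 2 = 1)) with h3 | h3
        · exact absurd (Units.ext h3) hc1ne
        · exact Units.ext (by simp [h3])
      rcases hv.1 with h | ⟨-, h⟩
      · obtain ⟨k, rfl⟩ := hroot v h
        show c1 ^ k ∈ _
        rw [hc1m, ← hu2]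
        exact zpow_mem (pow_mem (Subgroup.mem_zpowers u) 2) k
      · rw [h2] at h
        have h4 : (v : F) ^ 2 = (u : F) ^ 2 := by
          rw [← Units.val_pow_eq_pow_val, ← Units.val_pow_eq_pow_val, h, hu2]
        rcases sq_eq_sq_iff_eq_or_eq_neg.1 h4 with h5 | h5
        · rw [Units.ext h5]; exact Subgroup.mem_zpowers u
        · rw [show v = u ^ 3 from Units.ext (by
            rw [h5, pow_succ, hu2, neg_one_mul, Units.val_neg])]
          exact pow_mem (Subgroup.mem_zpowers u) 3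
    · simp only [not_exists, not_and, not_not] at hbig
      exact ⟨c1, ⟨Or.inl hc1r, hc1iso⟩, hbig⟩
  set z := orderOf ζ with hz
  have hzr : r ∣ z := by
    rw [← hc1ord]
    obtain ⟨k, hk⟩ := hζgen c1 ⟨Or.inl hc1r, hc1iso⟩
    rw [← hk]
    exact orderOf_dvd_of_mem_zpowers ⟨k, rfl⟩
  have hzcases : z = r ∨ (r = 2 ∧ z = 4) := by
    rcases hζg.1 with h | ⟨h2, h⟩
    · exact Or.inl (Nat.dvd_antisymm (orderOf_dvd_of_pow_eq_one h) hzr)
    · have h4 : ζ ^ 4 = 1 := by
        rw [show (4 : ℕ) = 2 * 2 from rfl, pow_mul, show ζ ^ 2 = -1 from h2 ▸ h]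
        simp
      obtain ⟨j, hj, hzj⟩ := (Nat.dvd_prime_pow Nat.prime_two).1
        (show z ∣ 2 ^ 2 from orderOf_dvd_of_pow_eq_one h4)
      rw [h2, hzj] at hzr
      interval_cases j
      · norm_num at hzr
      · exact Or.inl (by rw [hzj, h2]; rfl)
      · exact Or.inr ⟨h2, by rw [hzj]; rfl⟩
  have hspanF : ∀ F₀ : Subfield F, (ζ : F) ∈ F₀ →
      Module.finrank F₀ (Submodule.span F₀ (matrixSet R)) ≤ Fintype.card ι * Fintype.card ι := by
    intro F₀ hζF
    refine ((Submodule.finrank_mono (Submodule.span_le.2 ?_)).trans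
      (finrank_range_le_card (R := F₀) (fun i : S' => b i))).trans hB.le
    rintro _ ⟨x, hx, rfl⟩
    obtain ⟨u, i, hu, rfl⟩ := hdec x hx
    have huF : (u : F) ∈ F₀ := by
      obtain ⟨k, rfl⟩ := hζgen u hu
      simp only [Units.val_zpow_eq_zpow_val]
      exact zpow_mem hζF k
    simp only [scl_mul_val, hyb, SetLike.mem_coe]
    exact Submodule.smul_mem _ (⟨(u : F), huF⟩ : F₀) (Submodule.subset_span ⟨i, rfl⟩)
  -- the group data
  have hpgroup : IsPGroup r R := by
    rintro ⟨x, hx⟩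
    refine ⟨2, Subtype.ext ?_⟩
    obtain ⟨⟨-, v, hv, hxv⟩, -⟩ := hx
    rw [SubmonoidClass.coe_pow, OneMemClass.coe_one, sq, pow_mul, hxv, ← map_pow]
    rcases hv with rfl | ⟨h2, rfl⟩
    · rw [one_pow, map_one]
    · rw [h2, neg_one_sq, map_one]
  have hcardR : Nat.card R = z * (Fintype.card ι * Fintype.card ι) := by
    have hzm : ∀ q : Subgroup.zpowers ζ, scl ι (q : Fˣ) ∈ R := by
      rintro ⟨q, k, rfl⟩
      show scl ι (ζ ^ k) ∈ R
      rw [map_zpow]
      exact zpow_mem ((hsclR ζ).2 hζg) k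
    let φ : Subgroup.zpowers ζ × S' → R := fun q => ⟨scl ι (q.1 : Fˣ) * y q.2, mul_mem (hzm q.1) (hy q.2)⟩
    have hφ : Function.Bijective φ := by
      constructor
      · rintro ⟨⟨u, hu⟩, i⟩ ⟨⟨v, hv⟩, j⟩ huv
        have h1 := congrArg (fun g : R => b.repr ((g : GL ι F) : Matrix ι ι F) i) huv
        simp only [φ, scl_mul_val, hyb, map_smul, Module.Basis.repr_self, Finsupp.smul_apply,
          Finsupp.single_eq_same, smul_eq_mul, mul_one] at h1
        by_cases hij : j = i
        · subst hij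
          rw [Finsupp.single_eq_same, mul_one] at h1
          exact Prod.ext (Subtype.ext (Units.ext h1)) rfl
        · rw [Finsupp.single_eq_of_ne (Ne.symm hij), mul_zero] at h1
          exact absurd h1 u.ne_zero
      · rintro ⟨x, hx⟩
        obtain ⟨u, i, hu, rfl⟩ := hdec x hx
        exact ⟨⟨⟨u, hζgen u hu⟩, i⟩, rfl⟩
    rw [← Nat.card_eq_of_bijective φ hφ, Nat.card_prod, Nat.card_zpowers, ← hz,
      Nat.card_eq_fintype_card, hB]
  obtain ⟨k, hk⟩ : ∃ k, Fintype.card ι = r ^ k := by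
    obtain ⟨j, hj⟩ := hpgroup.exists_card_eq
    rw [hcardR] at hj
    obtain ⟨i, -, hi⟩ := (Nat.dvd_prime_pow hr).1
      ((dvd_mul_left _ _).trans (Dvd.intro_left z hj) : Fintype.card ι ∣ r ^ j)
    exact ⟨i, hi⟩
  have hk0 : 1 ≤ k := by
    rcases Nat.eq_zero_or_pos k with rfl | h
    · rw [pow_zero] at hk; omega
    · exact h
  have hcenter : Nat.card (Subgroup.center R) = z := by
    rw [hz, ← Nat.card_zpowers]
    symm
    let ψ : Subgroup.zpowers ζ → Subgroup.center R := fun q => ⟨⟨scl ι (q : Fˣ), by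
      obtain ⟨k, hk⟩ := q.2
      rw [← hk]
      show scl ι (ζ ^ k) ∈ R
      rw [map_zpow]
      exact zpow_mem ((hsclR ζ).2 hζg) k⟩,
      Subgroup.mem_center_iff.2 fun g => Subtype.ext ((scl_comm (q : Fˣ) (g : GL ι F)).eq.symm)⟩
    refine Nat.card_eq_of_bijective ψ ⟨fun a c hac => Subtype.ext (scl_injective
      (congrArg (fun t : Subgroup.center R => ((t : R) : GL ι F)) hac)), ?_⟩
    rintro ⟨⟨x, hx⟩, hc⟩
    have hxs : x ∈ scalars ι F := mem_scalars_of_commute hRspan fun g hg =>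
      (congrArg Subtype.val (Subgroup.mem_center_iff.1 hc ⟨g, hg⟩)).symm
    obtain ⟨u, rfl⟩ := exists_scl hxs
    exact ⟨⟨u, hζgen u ((hsclR u).1 hx)⟩, rfl⟩
  have hexp : Monoid.exponent R = r * Nat.gcd 2 r := by
    have hpw : ∀ x ∈ R, x ^ (r * Nat.gcd 2 r) = 1 := by
      rintro x ⟨⟨hx, v, hv, hxv⟩, -⟩
      rw [pow_mul, hxv, ← map_pow]
      rcases hv with rfl | ⟨h2, rfl⟩
      · rw [one_pow, map_one]
      · rw [h2, show Nat.gcd 2 2 = 2 from rfl, neg_one_sq, map_one]
    refine Nat.dvd_antisymm (Monoid.exponent_dvd_of_forall_pow_eq_one fun x => Subtype.ext ?_) ?_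
    · rw [SubmonoidClass.coe_pow, OneMemClass.coe_one]; exact hpw x x.2
    · obtain ⟨x, hx, y', hy', hne'⟩ := hncomm hRspan
      rcases hr.eq_two_or_odd' with h2 | hodd
      · -- an element of order four
        rw [h2, show Nat.gcd 2 2 = 2 from rfl]
        obtain ⟨w, hw, hw2⟩ : ∃ w ∈ R, w ^ 2 ≠ 1 := by
          by_contra hcon
          simp only [not_exists, not_and, not_not] at hcon
          apply hne'
          have e1 := hcon x hx
          have e2 := hcon y' hy'
          have e3 := hcon _ (mul_mem hx hy')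
          rw [sq] at e1 e2 e3
          calc x * y' = x * (x * y' * (x * y')) * y' := by rw [e3, mul_one]
            _ = (x * x) * (y' * x) * (y' * y') := by simp only [mul_assoc]
            _ = y' * x := by rw [e1, e2, one_mul, mul_one]
        have hord : orderOf (⟨w, hw⟩ : R) = 2 ^ 2 := orderOf_eq_prime_pow (fun h => hw2 (by
          rw [pow_one] at h
          simpa using congrArg Subtype.val h)) (Subtype.ext (by
          rw [SubmonoidClass.coe_pow, OneMemClass.coe_one]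
          have := hpw w hw
          rwa [h2] at this))
        show 2 ^ 2 ∣ _
        rw [← hord]
        exact Monoid.order_dvd_exponent _
      · rw [show Nat.gcd 2 r = 1 from (Nat.coprime_primes Nat.prime_two hr).2 fun h' => by
          rw [← h'] at hodd; exact absurd hodd (by decide), mul_one]
        have h1 := Monoid.order_dvd_exponent (⟨scl ι ζ, (hsclR ζ).2 hζg⟩ : R)
        rw [← Subgroup.orderOf_coe, orderOf_injective (scl ι) scl_injective, ← hz] at h1
        exact hzr.trans h1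
  have hcyc : ∀ A : Subgroup R, A.Characteristic → IsMulCommutative A → IsCyclic A := by
    intro A hA hAc
    have hAn : ∀ g ∈ G, ∀ x ∈ A.map R.subtype, g * x * g⁻¹ ∈ A.map R.subtype := by
      rintro g hg _ ⟨a, ha, rfl⟩
      let cg : R ≃* R :=
        { toFun := fun x => ⟨g * x * g⁻¹, hRnorm g hg x x.2⟩
          invFun := fun x => ⟨g⁻¹ * x * g, by simpa using hRnorm g⁻¹ (inv_mem hg) x x.2⟩
          left_inv := fun x => Subtype.ext (by simp [mul_assoc])
          right_inv := fun x => Subtype.ext (by simp [mul_assoc])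
          map_mul' := fun x x' => Subtype.ext (by simp [mul_assoc]) }
      refine ⟨cg a, ?_, rfl⟩
      exact (hA.fixed cg).ge ha
    have hle : A.map R.subtype ≤ scalars ι F := by
      by_contra hcon
      refine not_adjoin_top_of_comm ?_ (hspan _
        ((Subgroup.map_subtype_le A).trans (hRN.trans hNG)) hAn hcon)
      rintro _ ⟨a, ha, rfl⟩ _ ⟨c, hc, rfl⟩
      exact congrArg (fun t : A => ((t : R) : GL ι F)) (hAc.is_comm.comm ⟨a, ha⟩ ⟨c, hc⟩)
    obtain ⟨i0⟩ := hne
    have hval : ∀ a : A, ∀ i j, (((a : R) : GL ι F) : Matrix ι ι F) i j =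
        if i = j then (((a : R) : GL ι F) : Matrix ι ι F) i0 i0 else 0 := by
      intro a i j
      obtain ⟨u, hu⟩ := exists_scl (hle ⟨a, a.2, rfl⟩)
      rw [show ((a : R) : GL ι F) = scl ι u from hu, scl_val]
      simp [Matrix.one_apply]
    let f : A →* F :=
      { toFun := fun a => (((a : R) : GL ι F) : Matrix ι ι F) i0 i0
        map_one' := by simp
        map_mul' := fun a c => by
          simp only [Subgroup.coe_mul, Units.val_mul, Matrix.mul_apply]
          rw [Finset.sum_eq_single i0]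
          · intro j _ hj
            rw [hval a i0 j, if_neg (Ne.symm hj), zero_mul]
          · intro hi; exact absurd (Finset.mem_univ _) hi }
    refine isCyclic_of_subgroup_isDomain f fun a c hac => ?_
    apply Subtype.ext; apply Subtype.ext; apply Units.ext
    ext i j
    rw [hval a, hval c]
    simp only [f, MonoidHom.coe_mk, OneHom.coe_mk] at hac
    rw [hac]
  have hnormle : G ≤ subgroupNormalizer R := by
    intro g hg
    rw [subgroupNormalizer, Subgroup.mem_normalizer_iff]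
    intro x
    refine ⟨fun hx => hRnorm g hg x hx, fun hx => ?_⟩
    have := hRnorm g⁻¹ (inv_mem hg) _ hx
    simpa [mul_assoc] using this
  have hST : IsSymplecticTypeGroup r R := ⟨hr, hpgroup, hcyc, hexp⟩
  have habs := actsAbsolutelyIrreducibly_of_adjoin hRspan
  by_cases hσ : σ = RingEquiv.refl F
  · -- the symplectic case
    have hsq : (ζ : F) ^ 2 = 1 := by
      have := hζg.2
      rw [hσ] at this
      rw [sq]; exact this
    have hr2 : r = 2 := by
      have h := hc1iso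
      rw [hσ] at h
      exact (Nat.prime_dvd_prime_iff_eq hr Nat.prime_two).1
        (hc1ord ▸ orderOf_dvd_of_pow_eq_one (Units.ext (by rw [Units.val_pow_eq_pow_val, sq, Units.val_one]; exact h)))
    have hz2 : z = 2 := by
      rcases hzcases with h | ⟨-, h⟩
      · rw [h, hr2]
      · exfalso
        have : z ∣ 2 := orderOf_dvd_of_pow_eq_one (Units.ext (by rw [Units.val_pow_eq_pow_val, hsq, Units.val_one]))
        rw [h] at this
        exact absurd (Nat.le_of_dvd two_pos this) (by norm_num)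
    by_cases he1 : e = 1
    swap
    · have hζpm : (ζ : F) = 1 ∨ (ζ : F) = -1 := sq_eq_one_iff.1 hsq
      refine .of_rational hM hRspan hRnorm ⊥ (fun htop => he1 ?_) (hspanF ⊥ ?_) (hsim1 ⊥)
      · have hle : (⊥ : Subfield F) ≤ (iterateFrobenius F p 1).eqLocusField (RingHom.id F) := bot_le
        rw [htop] at hle
        have := orderOf_frobenius_fixed hq one_pos fun x => hle (Subfield.mem_top x)
        omega
      · rcases hζpm with h | h <;> rw [h]
        · exact Subfield.one_mem _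
        · exact Subfield.neg_mem _ (Subfield.one_mem _)
    have hqp : Fintype.card F = p := by rw [hq, he1, pow_one]
    have hp2 : p ≠ 2 := hr2 ▸ hrp.symm
    have hcardR2 : Nat.card R = 2 ^ (1 + 2 * k) := by
      rw [hcardR, hz2, hk, hr2, pow_add, two_mul k, pow_add, pow_one]
    refine .sympType r k p e R hST habs (fun x hx => hx.2) hk0 hk hpp hp hq hrp
      (fun _ => ⟨hr2, he1, hcenter.trans hz2, hcardR2, ?_⟩) (fun h => absurd hσ h) hnormle
    intro A hAc hA2
    by_contra hbig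
    simp only [not_lt] at hbig
    haveI : Fintype A := Fintype.ofFinite A
    have hdecA : ∀ x : A, ∃ (u : Fˣ) (i : S'), goodI u ∧ ((x : R) : GL ι F) = scl ι u * y i :=
      fun x => hdec _ (x : R).2
    choose ua ia hua hxa' using hdecA
    let S : Set (Matrix ι ι F) := Set.range fun x : A => (((x : R) : GL ι F) : Matrix ι ι F)
    let T : Finset S' := Finset.univ.image ia
    have hcount : Nat.card A ≤ 2 * T.card := by
      let ψ : A → Subgroup.zpowers ζ × T := fun x =>
        (⟨ua x, hζgen _ (hua x)⟩, ⟨ia x, Finset.mem_image_of_mem _ (Finset.mem_univ x)⟩)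
      have hψ : Function.Injective ψ := by
        intro x x' h
        simp only [ψ, Prod.mk.injEq, Subtype.mk.injEq] at h
        exact Subtype.ext (Subtype.ext (by rw [hxa' x, hxa' x', h.1, h.2]))
      have := Nat.card_le_card_of_injective ψ hψ
      rwa [Nat.card_prod, Nat.card_zpowers, ← hz, hz2, Nat.card_eq_fintype_card (α := T), Fintype.card_coe] at this
    have hdim : T.card ≤ Module.finrank F (Algebra.adjoin F S) := by
      have hmem : ∀ i : T, b (i : S') ∈ Algebra.adjoin F S := by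
        rintro ⟨i, hi⟩
        obtain ⟨x, -, rfl⟩ := Finset.mem_image.1 hi
        have h1 : b (ia x) = ((ua x)⁻¹ : Fˣ).val • (((x : R) : GL ι F) : Matrix ι ι F) := by
          rw [hxa' x, scl_mul_val, smul_smul, ← Units.val_mul, inv_mul_cancel, Units.val_one, one_smul, hyb]
        show b (ia x) ∈ _
        rw [h1]
        exact Subalgebra.smul_mem _ (Algebra.subset_adjoin (s := S) ((Set.mem_range).2 ⟨x, rfl⟩)) _
      have hli : LinearIndependent F (fun i : T => (⟨_, hmem i⟩ : Algebra.adjoin F S)) :=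
        LinearIndependent.of_comp (Algebra.adjoin F S).val.toLinearMap
          (b.linearIndependent.comp (fun i : T => (i : S')) Subtype.val_injective)
      have := hli.fintype_card_le_finrank
      rwa [Fintype.card_coe] at this
    subst hσ
    have hfin := two_mul_finrank_le_of_involutions hM hqp hp2 S (by
        rintro _ ⟨x, rfl⟩ _ ⟨x', rfl⟩
        exact congrArg (fun t : A => ((((t : R) : GL ι F)) : Matrix ι ι F)) (hAc.is_comm.comm x x')) (by
        rintro _ ⟨x, rfl⟩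
        exact congrArg (fun t : R => ((t : GL ι F) : Matrix ι ι F)) (hA2 x x.2)) (by
        rintro _ ⟨x, rfl⟩
        refine hM.adj_eq fun u v => ?_
        have hxx : (((x : R) : GL ι F) : Matrix ι ι F) * (((x : R) : GL ι F) : Matrix ι ι F) = 1 :=
          congrArg (fun t : R => ((t : GL ι F) : Matrix ι ι F)) (hA2 x x.2)
        conv_rhs => rw [← (x : R).2.2, Matrix.mulVec_mulVec, hxx, Matrix.one_mulVec])
    rw [pow_succ] at hbig
    rw [hk, hr2] at hfin
    have : 0 < 2 ^ k := Nat.two_pow_pos k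
    omega
  -- the Hermitian case
  by_cases hz2 : z = 2
  · -- only signs: a bilinear form is fixed as well
    have hpm : ∀ u : Fˣ, goodI u → (u : F) = 1 ∨ (u : F) = -1 := by
      intro u hu
      obtain ⟨j, rfl⟩ := hζgen u hu
      have h1 : (ζ ^ j) ^ 2 = (1 : Fˣ) := by
        rw [← zpow_natCast, ← zpow_mul, mul_comm, zpow_mul, zpow_natCast,
          show ζ ^ 2 = 1 from hz2 ▸ pow_orderOf_eq_one ζ, one_zpow]
      exact sq_eq_one_iff.1 (by rw [← Units.val_pow_eq_pow_val, h1, Units.val_one])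
    obtain ⟨B, hBu, hBi⟩ := exists_invGram_of_basis (RingEquiv.refl F) R b (fun x hx => by
      obtain ⟨u, i, hu, hxu⟩ := hdec x hx
      refine ⟨u, i, y i, hy i, hyb i, hxu, ?_⟩
      rcases hpm u hu with h | h <;> simp [h]) (fun i => ⟨y i, hy i, hyb i⟩)
    exact .of_two_grams hM hRspan hRnorm hInv (Ne.symm hσ) (fun _ => rfl) (Or.inr rfl) hBu hBi
  set F₀ := Subfield.closure {(ζ : F)} with hF₀def
  by_cases hF₀ : F₀ = ⊤
  swap
  · exact .of_rational hM hRspan hRnorm F₀ hF₀ (hspanF F₀ (Subfield.subset_closure (Set.mem_singleton _)))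
      (hsim1 F₀)
  have hzq : z ∣ p ^ e - 1 := by
    have := orderOf_dvd_natCard ζ
    rwa [← hz, Nat.card_units, Nat.card_eq_fintype_card, hq] at this
  have hfix : ∀ d, 0 < d → z ∣ p ^ d - 1 → e ≤ d := by
    intro d hd hdvd
    refine orderOf_frobenius_fixed hq hd (subfield_closure_le_fixed d ?_ hF₀)
    have h1 : ζ ^ (p ^ d - 1) = 1 := orderOf_dvd_iff_pow_eq_one.1 hdvd
    have h2 := congrArg (fun u : Fˣ => (u : F) * (ζ : F)) h1
    simp only [Units.val_pow_eq_pow_val, Units.val_one, one_mul, ← pow_succ] at h2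
    rwa [Nat.sub_add_cancel (Nat.one_le_pow _ _ hpp.pos)] at h2
  obtain ⟨q₀, hq₀, hσq⟩ := exists_sigma_pow hσ hM.inv
  have hdvdq : q₀ ∣ p ^ e := ⟨q₀, by rw [← sq, ← hq₀, hq]⟩
  obtain ⟨h, -, hh⟩ := (Nat.dvd_prime_pow hpp).1 hdvdq
  have heh : e = h + h := Nat.pow_right_injective hpp.two_le
    (show p ^ e = p ^ (h + h) by rw [← hq, hq₀, hh, sq, pow_add])
  have hdvdz : z ∣ p ^ (e / 2) + 1 := by
    rw [show e / 2 = h by omega, ← hh]
    apply orderOf_dvd_of_pow_eq_one
    apply Units.ext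
    rw [Units.val_pow_eq_pow_val, pow_succ, ← hσq, mul_comm, hζg.2, Units.val_one]
  refine .sympType r k p e R hST habs (fun x hx => hx.2) hk0 hk hpp hp hq hrp (fun hh' => absurd hh' hσ)
    (fun _ => ⟨hcenter ▸ ⟨hpp, hp, hq, hzq, fun d hd hde hdvd => absurd (hfix d hd hdvd) (not_le.2 hde)⟩,
      ⟨h, heh⟩, hcenter ▸ hdvdz, ?_⟩) hnormle
  rcases hr.eq_two_or_odd' with h2 | hodd
  · have hz4 : z = 4 := by
      rcases hzcases with h' | ⟨-, h'⟩
      · exact absurd (h'.trans h2) hz2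
      · exact h'
    refine Or.inr ⟨h2, hcenter.trans hz4, ?_⟩
    rw [hcardR, hz4, hk, h2, pow_add, two_mul k, pow_add]
    rfl
  · have hzr' : z = r := by
      rcases hzcases with h' | ⟨h', -⟩
      · exact h'
      · rw [h'] at hodd; exact absurd hodd (by decide)
    refine Or.inl ⟨hodd, hcenter.trans hzr', ?_⟩
    rw [hcardR, hzr', hk, two_mul k, pow_add, pow_one, pow_add]

end H46
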