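import Cfsg.Agent.H46.ClsIdem

/-!
A commutative normalised adjoint-closed algebra gives a geometric structure.
-/

set_option autoImplicit false
set_option linter.style.haveILetI false
set_option linter.unusedSectionVars false
set_option maxHeartbeats 1000000

open Cfsg.Geo
open scoped Matrix MatrixGroups

namespace H46

variable {ι : Type} [Fintype ι] [DecidableEq ι] {F : Type*} [Field F] [Fintype F]
variable {σ : F ≃+* F} {M : Matrix ι ι F}

theorem exists_prime_dvd_odd {d : ℕ} (hd : 1 < d) (ho : Odd d) :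
    ∃ r, r.Prime ∧ Odd r ∧ r ∣ d :=
  ⟨d.minFac, Nat.minFac_prime (by omega), ho.of_dvd_nat d.minFac_dvd, d.minFac_dvd⟩

/-- A field of operators, closed under the adjoint and normalised. -/
theorem ClsGeometric.of_field [Nonempty ι] (hM : CF σ M) {G : Subgroup (GL ι F)}
    (hGM : G ≤ similarityGroup (frm σ M))
    (Z : Subalgebra F (Matrix ι ι F)) (hcomm : ∀ x ∈ Z, ∀ y ∈ Z, x * y = y * x)
    (hinv : ∀ x ∈ Z, x ≠ 0 → ∃ y ∈ Z, x * y = 1) (hne : Z ≠ ⊥)
    (hG : ∀ g ∈ G, ∀ X ∈ Z, glConj g X ∈ Z) (hadj : ∀ X ∈ Z, adj σ M X ∈ Z) :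
    ClsGeometric σ M G := by
  classical
  haveI : Nontrivial Z :=
    ⟨⟨0, 1, fun h => zero_ne_one (α := Matrix ι ι F) (congrArg Subtype.val h)⟩⟩
  have hfld : IsField Z :=
    { exists_pair_ne := exists_pair_ne _
      mul_comm := fun a b => Subtype.ext (hcomm _ a.2 _ b.2)
      mul_inv_cancel := fun {a} ha => by
        obtain ⟨y, hy, h⟩ := hinv a.1 a.2 (fun h => ha (Subtype.ext h))
        exact ⟨⟨y, hy⟩, Subtype.ext h⟩ }
  letI : Field Z := hfld.toField
  haveI : Finite Z := inferInstance
  haveI : Fintype Z := Fintype.ofFinite Z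
  haveI : Module.Finite F Z := Module.Finite.of_finite
  set q := Fintype.card F with hq
  set d := Module.finrank F Z with hd
  have hd1 : 1 < d := by
    have h0 : 0 < d := Module.finrank_pos
    rcases Nat.lt_or_ge 1 d with h | h
    · exact h
    exact absurd (Subalgebra.eq_bot_of_finrank_one (hd ▸ (by omega : d = 1))) hne
  have hcard : Fintype.card Z = q ^ d := Module.card_eq_pow_finrank (K := F) (V := Z)
  let τ : Z →+* Z :=
    { toFun := fun z => ⟨adj σ M z, hadj z z.2⟩
      map_one' := Subtype.ext hM.adj_one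
      map_mul' := fun a b => Subtype.ext (by
        show adj σ M ((a : Matrix ι ι F) * b) = adj σ M a * adj σ M b
        rw [hM.adj_mul]
        exact hcomm _ (hadj b b.2) _ (hadj a a.2))
      map_zero' := Subtype.ext hM.adj_zero
      map_add' := fun a b => Subtype.ext (hM.adj_add _ _) }
  have hτv : ∀ z, ((τ z : Z) : Matrix ι ι F) = adj σ M z := fun z => rfl
  have hτ2 : ∀ z, τ (τ z) = z := fun z => Subtype.ext (hM.adj_adj _)
  have hτF : ∀ c : F, τ (algebraMap F Z c) = algebraMap F Z (σ c) := fun c => Subtype.ext (by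
    rw [hτv, Subalgebra.coe_algebraMap, Subalgebra.coe_algebraMap, hM.adj_algebraMap])
  -- subextensions
  have hsub : ∀ r, r ∣ d → ∃ K : Subalgebra F (Matrix ι ι F), IsFieldSubalgebra r K ∧
      (∀ k ∈ K, ∃ z : Z, (z : Matrix ι ι F) = k ∧ z ^ q ^ r = z) ∧
      (∀ X ∈ K, adj σ M X ∈ K) ∧ G ≤ subalgebraNormalizer K ∧ r ∣ Fintype.card ι := by
    intro r hr
    obtain ⟨L, hLr, hLmem, hLinv⟩ := exists_subalgebra_degree (F := F) (E := Z) hr
    have hK : IsFieldSubalgebra r (L.map Z.val) := by
      refine ⟨?_, ?_, ?_⟩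
      · rintro _ ⟨x, -, rfl⟩ _ ⟨y, -, rfl⟩
        exact hcomm _ x.2 _ y.2
      · rintro _ ⟨x, hx, rfl⟩ hx0
        have hx0' : x ≠ 0 := fun h => hx0 (by rw [h, map_zero])
        exact ⟨_, ⟨x⁻¹, hLinv x hx, rfl⟩, by rw [← map_mul, mul_inv_cancel₀ hx0', map_one]⟩
      · rw [← (Subalgebra.equivMapOfInjective L Z.val Subtype.val_injective).toLinearEquiv.finrank_eq]
        exact hLr
    refine ⟨L.map Z.val, hK, ?_, ?_, le_subalgebraNormalizer fun g hg X hX => ?_,
      dvd_card_of_isFieldSubalgebra hK⟩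
    · rintro _ ⟨x, hx, rfl⟩
      exact ⟨x, rfl, (hLmem x).1 hx⟩
    · rintro _ ⟨x, hx, rfl⟩
      refine ⟨τ x, (hLmem _).2 ?_, rfl⟩
      rw [← map_pow, (hLmem x).1 hx]
    · obtain ⟨x, hx, rfl⟩ := hX
      let c : Z →ₐ[F] Z :=
        (((glConj g).toAlgHom).comp Z.val).codRestrict Z fun y => hG g hg y.1 y.2
      refine ⟨c x, (hLmem _).2 ?_, rfl⟩
      rw [← map_pow, (hLmem x).1 hx]
  by_cases hσ : σ = RingEquiv.refl F
  swap
  · -- Hermitian: the degree is odd
    have hodd : Odd d := by
      by_contra hev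
      obtain ⟨e, he⟩ := Nat.not_odd_iff_even.1 hev
      apply hσ
      refine RingEquiv.ext fun c => ?_
      show σ c = c
      have hτne : τ ≠ RingHom.id Z := fun h => hσ (RingEquiv.ext fun a => by
        have := congrArg Subtype.val ((hτF a).symm.trans (RingHom.congr_fun h _))
        rw [RingHom.id_apply, Subalgebra.coe_algebraMap, Subalgebra.coe_algebraMap] at this
        exact FaithfulSMul.algebraMap_injective F (Matrix ι ι F) this)
      have hfix := card_fixed_sq τ hτne hτ2
      rw [hcard, show d = e * 2 by omega, pow_mul] at hfix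
      have hQ : Nat.card (τ.eqLocusField (RingHom.id Z)) = q ^ e :=
        Nat.pow_left_injective two_ne_zero hfix
      have hmem : (algebraMap F Z c) ∈ τ.eqLocusField (RingHom.id Z) := by
        rw [subfield_mem_iff_pow _ hQ, ← map_pow, FiniteField.pow_card_pow]
      have h1 : τ (algebraMap F Z c) = algebraMap F Z c := hmem
      rw [hτF] at h1
      exact (algebraMap F Z).injective h1
    obtain ⟨r, hr, hro, hrd⟩ := exists_prime_dvd_odd hd1 hodd
    obtain ⟨K, hK, -, hKa, hKn, hdvd⟩ := hsub r hrd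
    exact .twistField r K hr hK (fun k hk => ⟨_, hKa k hk, fun u v => hM.frm_adj k u v⟩)
      (fun h => absurd h hσ) (fun _ => hro) hdvd hKn
  subst hσ
  have hskew : ∀ u v, frm (RingEquiv.refl F) M u v = -frm (RingEquiv.refl F) M v u := by
    intro u v
    have h1 := hM.alt rfl (u + v)
    rw [frm_add_left, frm_add_right, frm_add_right, hM.alt rfl, hM.alt rfl] at h1
    linear_combination h1
  have mkSelf : ∀ r, r.Prime → r ∣ d → (∀ z : Z, z ^ q ^ r = z → τ z = z) →
      ClsGeometric (RingEquiv.refl F) M G := by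
    intro r hr hrd hfix
    obtain ⟨K, hK, hKz, -, hKn, -⟩ := hsub r hrd
    have hsa : IsSelfAdjointFor (frm (RingEquiv.refl F) M) K := by
      intro k hk u v
      obtain ⟨z, hz, hzp⟩ := hKz k hk
      rw [hM.frm_adj, ← hz, ← hτv, hfix z hzp]
    have halt : ∀ k ∈ K, ∀ v, frm (RingEquiv.refl F) M (k *ᵥ v) v = 0 := by
      intro k hk v
      by_cases h2 : (2 : F) = 0
      · -- every element of the field is a square
        obtain ⟨z, hz, hzp⟩ := hKz k hk
        haveI : CharP Z 2 := (Algebra.charP_iff F Z 2).1 (CharTwo.of_one_ne_zero_of_two_eq_zero one_ne_zero h2)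
        obtain ⟨l, hl⟩ := (FiniteField.isSquare_of_char_two (ringChar.eq_iff.2 ‹CharP Z 2›) z)
        have h2Z : (2 : Z) = 0 := by
          have := congrArg (algebraMap F Z) h2
          rwa [map_ofNat, map_zero] at this
        have hlp : l ^ q ^ r = l := by
          have h1 : (l ^ q ^ r) * (l ^ q ^ r) = l * l := by rw [← mul_pow, ← hl, hzp]
          have h3 : (l ^ q ^ r - l) ^ 2 = 0 := by
            linear_combination h1 + (l * l - l ^ q ^ r * l) * h2Z
          exact sub_eq_zero.1 (pow_eq_zero_iff two_ne_zero |>.1 h3)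
        rw [← hz, hl, MulMemClass.coe_mul, ← Matrix.mulVec_mulVec, hM.frm_adj, ← hτv, hfix l hlp]
        exact hM.alt rfl _
      · have h1 := hskew (k *ᵥ v) v
        rw [← hsa k hk v v] at h1
        exact (mul_eq_zero.1 (show (2 : F) * frm (RingEquiv.refl F) M (k *ᵥ v) v = 0 by
          linear_combination h1)).resolve_left h2
    exact .selfField r K rfl hr hK hsa halt (two_mul_dvd_of_selfAdjoint hM rfl hK hsa halt) hKn
  by_cases hτid : τ = RingHom.id Z
  · exact mkSelf d.minFac (Nat.minFac_prime (by omega)) d.minFac_dvd fun z _ => by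
      rw [hτid]; rfl
  -- the adjoint is a non-trivial automorphism
  have hfix := card_fixed_sq τ hτid hτ2
  rw [hcard] at hfix
  set Fix := τ.eqLocusField (RingHom.id Z) with hFix
  have hFle : ∀ c : F, algebraMap F Z c ∈ Fix := fun c => hτF c
  let FF : Subfield Z := (algebraMap F Z).fieldRange
  have hFFcard : Nat.card FF = q := by
    rw [hq, ← Nat.card_eq_fintype_card]
    exact (Nat.card_congr ((RingEquiv.ofBijective (algebraMap F Z).rangeRestrictField
      ⟨fun a b h => (algebraMap F Z).injective (congrArg Subtype.val h),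
        (algebraMap F Z).rangeRestrictField_bijective.2⟩).toEquiv)).symm
  obtain ⟨e, he⟩ : Even d := by
    let τA : Z ≃ₐ[F] Z :=
      AlgEquiv.ofBijective { τ with commutes' := fun c => hτF c }
        (Function.Involutive.bijective hτ2)
    have hord : orderOf τA = 2 := by
      rw [orderOf_eq_prime_iff]
      refine ⟨AlgEquiv.ext fun z => hτ2 z, fun h => hτid (RingHom.ext fun z => ?_)⟩
      exact DFunLike.congr_fun h z
    have h1 : orderOf τA ∣ Nat.card (Z ≃ₐ[F] Z) := orderOf_dvd_natCard τA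
    rw [hord, IsGalois.card_aut_eq_finrank, ← hd] at h1
    exact even_iff_two_dvd.2 h1
  have hQ : Nat.card Fix = q ^ e := by
    rw [show d = e * 2 by omega, pow_mul] at hfix
    exact Nat.pow_left_injective two_ne_zero hfix
  rcases Nat.lt_or_ge 1 e with he1 | he1
  · refine mkSelf e.minFac (Nat.minFac_prime (by omega))
      (e.minFac_dvd.trans ⟨2, by omega⟩) fun z hz => ?_
    obtain ⟨j, hj⟩ := e.minFac_dvd
    have hz' : z ∈ Fix := by
      rw [subfield_mem_iff_pow _ hQ, hj]
      clear hj hQ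
      induction j with
      | zero => simp
      | succ j ih => rw [Nat.mul_succ, pow_add, pow_mul, ih, hz]
    exact hz'
  -- degree two
  have he' : e = 1 := by omega
  subst he'
  rw [pow_one] at hQ
  by_cases hodd : Odd q
  · obtain ⟨K, hK, hKz, hKa, hKn, hdvd⟩ := hsub d dvd_rfl
    have hd2 : d = 2 := by omega
    rw [hd2] at hK hdvd
    refine .twistField 2 K Nat.prime_two hK (fun k hk => ⟨_, hKa k hk, fun u v => hM.frm_adj k u v⟩)
      (fun _ => ⟨rfl, hodd, fun hsa => hτid ?_⟩) (fun h => absurd rfl h) hdvd hKn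
    refine RingHom.ext fun z => Subtype.ext ?_
    obtain ⟨K', hK', hK'z⟩ : ∃ K' : Subalgebra F (Matrix ι ι F), K' = K ∧ (z : Matrix ι ι F) ∈ K := by
      refine ⟨K, rfl, ?_⟩
      have hKle : K ≤ Z := fun k hk => by
        obtain ⟨y, hy, -⟩ := hKz k hk
        exact hy ▸ y.2
      rw [Subalgebra.eq_of_le_of_finrank_eq hKle (by rw [hK.finrank_eq, ← hd2])]
      exact z.2
    exact hM.adj_eq (hsa _ hK'z)
  · -- even order: a quadratic form
    have h2 : (2 : F) = 0 := by
      by_contra h
      exact hodd (two_ne_zero_iff_odd.1 h)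
    have h2Z : (2 : Z) = 0 := by
      have := congrArg (algebraMap F Z) h2
      rwa [map_ofNat, map_zero] at this
    have hneg : ∀ z : F, -z = z := fun z => by linear_combination (-z) * h2
    obtain ⟨k, hk⟩ := H38.exists_trace_eq hτid hτ2 (t := (1 : Z)) (map_one τ)
    let Q : (ι → F) → F := fun v => frm (RingEquiv.refl F) M ((k : Matrix ι ι F) *ᵥ v) v
    have hpol : ∀ u v, QuadraticMap.polar Q u v = frm (RingEquiv.refl F) M u v := by
      intro u v
      have h1 : frm (RingEquiv.refl F) M ((k : Matrix ι ι F) *ᵥ v) u =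
          frm (RingEquiv.refl F) M ((τ k : Matrix ι ι F) *ᵥ u) v := by
        rw [hM.frm_adj, hskew, hneg, hτv]
      have h3 : frm (RingEquiv.refl F) M u v =
          frm (RingEquiv.refl F) M ((k : Matrix ι ι F) *ᵥ u) v +
          frm (RingEquiv.refl F) M ((τ k : Matrix ι ι F) *ᵥ u) v := by
        rw [← frm_add_left, ← Matrix.add_mulVec, ← Subalgebra.coe_add, hk, Subalgebra.coe_one,
          Matrix.one_mulVec]
      rw [QuadraticMap.polar, h3, ← h1]
      simp only [Q, Matrix.mulVec_add, frm_add_left, frm_add_right]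
      ring
    have hQf : IsNondegenerateQuadraticForm Q := by
      have hfun : QuadraticMap.polar Q = frm (RingEquiv.refl F) M := funext fun u => funext (hpol u)
      refine ⟨fun c v => ?_, ?_, ?_⟩
      · simp only [Q, Matrix.mulVec_smul, frm_smul_left, frm_smul_right, RingEquiv.refl_apply]
        ring
      · rw [hfun]; exact (hM.symplectic rfl).bilinear
      · rw [hfun]; exact hM.nondeg
    refine .quad Q rfl hodd hQf hpol fun g hg => ?_
    obtain ⟨c, hc⟩ := hGM hg
    refine ⟨c, fun v => ?_⟩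
    have hmem : glConj g⁻¹ (k : Matrix ι ι F) ∈ Z := hG g⁻¹ (inv_mem hg) _ k.2
    set k' : Z := ⟨_, hmem⟩ with hk'
    have hw : τ (k' + k) = k' + k := by
      have h1 : k' + τ k' = 1 := Subtype.ext (by
        show glConj g⁻¹ (k : Matrix ι ι F) + adj (RingEquiv.refl F) M (glConj g⁻¹ (k : Matrix ι ι F)) = 1
        rw [hM.adj_glConj (hGM (inv_mem hg)), ← map_add, ← hτv, ← Subalgebra.coe_add, hk,
          Subalgebra.coe_one, map_one])
      rw [map_add]
      linear_combination h1 + hk + (1 - k' - k) * h2Z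
    obtain ⟨w, hw'⟩ : ∃ w : F, algebraMap F Z w = k' + k := by
      have h1 : (k' + k) ∈ FF := by
        rw [subfield_mem_iff_pow _ hFFcard, ← subfield_mem_iff_pow _ hQ]
        exact hw
      exact h1
    show frm (RingEquiv.refl F) M ((k : Matrix ι ι F) *ᵥ ((g : Matrix ι ι F) *ᵥ v))
      ((g : Matrix ι ι F) *ᵥ v) = (c : F) * Q v
    have hgk : (k : Matrix ι ι F) * (g : Matrix ι ι F) = (g : Matrix ι ι F) * (k' : Matrix ι ι F) := by
      rw [hk']
      show _ = (g : Matrix ι ι F) * glConj g⁻¹ (k : Matrix ι ι F)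
      rw [glConj_apply, inv_inv, ← mul_assoc, ← mul_assoc, ← Units.val_mul, mul_inv_cancel,
        Units.val_one, one_mul]
    have hkk : (k' : Matrix ι ι F) = algebraMap F (Matrix ι ι F) w + (k : Matrix ι ι F) := by
      have h1 : k' = algebraMap F Z w + k := by linear_combination -hw' - k * h2Z
      rw [h1, Subalgebra.coe_add, Subalgebra.coe_algebraMap]
    rw [Matrix.mulVec_mulVec, hgk, ← Matrix.mulVec_mulVec, hc, hkk, Matrix.add_mulVec, frm_add_left,
      Algebra.algebraMap_eq_smul_one, Matrix.smul_mulVec, Matrix.one_mulVec, frm_smul_left,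
      hM.alt rfl, mul_zero, zero_add]

/-- A commutative normalised adjoint-closed algebra, not the scalars. -/
theorem ClsGeometric.of_comm [Nonempty ι] (hM : CF σ M) {G : Subgroup (GL ι F)}
    (hGM : G ≤ similarityGroup (frm σ M)) (hirr : ActsIrreducibly (matrixSet G))
    (Z : Subalgebra F (Matrix ι ι F)) (hcomm : ∀ x ∈ Z, ∀ y ∈ Z, x * y = y * x)
    (hne : Z ≠ ⊥) (hG : ∀ g ∈ G, ∀ X ∈ Z, glConj g X ∈ Z) (hadj : ∀ X ∈ Z, adj σ M X ∈ Z) :
    ClsGeometric σ M G := by
  classical
  by_cases hfield : ∀ x ∈ Z, x ≠ 0 → ∃ y ∈ Z, x * y = 1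
  · exact .of_field hM hGM Z hcomm hfield hne hG hadj
  simp only [not_forall, not_exists, not_and] at hfield
  obtain ⟨x, hx, hx0, hxu⟩ := hfield
  haveI := isSemisimpleRing_of_normalized hirr Z hG
  letI : CommRing Z :=
    { (inferInstance : Ring Z) with mul_comm := fun a b => Subtype.ext (hcomm _ a.2 _ b.2) }
  haveI : IsReduced Z := by
    refine ⟨fun z hz => ?_⟩
    obtain ⟨n, hn⟩ := hz
    induction n using Nat.strong_induction_on generalizing z with
    | _ n ih =>
      by_cases hn2 : n ≤ 1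
      · interval_cases n
        · rw [pow_zero] at hn
          rw [← mul_one z, hn, mul_zero]
        · rwa [pow_one] at hn
      · refine eq_zero_of_central_sq_zero (fun y => mul_comm z y) (ih ((n + 1) / 2) (by omega) (z * z) ?_)
        rw [← sq, ← pow_mul]
        exact pow_eq_zero_of_le (by omega) hn
  obtain ⟨e, he, he0, he1⟩ := exists_idempotent_of_not_field (M := Z) (a := ⟨x, hx⟩)
    (fun h => hx0 (congrArg Subtype.val h)) (fun h => by
      obtain ⟨u, hu⟩ := h
      refine hxu ((u⁻¹ : Zˣ) : Z).1 ((u⁻¹ : Zˣ) : Z).2 ?_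
      have := congrArg Subtype.val u.mul_inv
      rw [hu] at this
      simpa using this)
  exact .of_idempotents hM hGM hirr Z hcomm hG hadj
    ⟨e, e.2, congrArg Subtype.val he, fun h => he0 (Subtype.ext h), fun h => he1 (Subtype.ext h)⟩

end H46
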