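import Cfsg.Agent.H46.AschSubfield

/-!
Groups of similitudes of a symplectic or Hermitian Gram matrix: adjoints, orthogonal complements,
and the reducible case.
-/

set_option autoImplicit false
set_option linter.style.haveILetI false
set_option linter.unusedSectionVars false
set_option maxHeartbeats 800000

open Cfsg.Geo
open scoped Matrix MatrixGroups

namespace H46

variable {ι : Type} [Fintype ι] [DecidableEq ι] {F : Type*} [Field F]

/-- The two-argument form of a Gram matrix. -/
abbrev frm (σ : F ≃+* F) (M : Matrix ι ι F) : (ι → F) → (ι → F) → F := formOfGram (σ : F → F) M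

/-- M is the Gram matrix of a symplectic form (σ trivial) or of a unitary form. -/
structure CF (σ : F ≃+* F) (M : Matrix ι ι F) : Prop where
  unit : IsUnit M
  inv : ∀ a, σ (σ a) = a
  kind : (σ ≠ RingEquiv.refl F ∧ (M.map σ)ᵀ = M) ∨
    (σ = RingEquiv.refl F ∧ Mᵀ = -M ∧ ∀ i, M i i = 0)

section basic

variable {σ : F ≃+* F} {M : Matrix ι ι F}

theorem frm_add_left (x y v : ι → F) : frm σ M (x + y) v = frm σ M x v + frm σ M y v := by
  simp [formOfGram_eq, add_dotProduct]

theorem frm_smul_left (c : F) (x v : ι → F) : frm σ M (c • x) v = c * frm σ M x v := by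
  simp [formOfGram_eq]

theorem frm_add_right (v x y : ι → F) : frm σ M v (x + y) = frm σ M v x + frm σ M v y := by
  have h : (σ : F → F) ∘ (x + y) = (σ : F → F) ∘ x + (σ : F → F) ∘ y := by funext i; simp
  simp [formOfGram_eq, h, Matrix.mulVec_add, dotProduct_add]

theorem frm_smul_right (c : F) (v x : ι → F) : frm σ M v (c • x) = σ c * frm σ M v x := by
  have h : (σ : F → F) ∘ (c • x) = σ c • ((σ : F → F) ∘ x) := by funext i; simp
  simp [formOfGram_eq, h, Matrix.mulVec_smul]

theorem frm_zero_left (v : ι → F) : frm σ M 0 v = 0 := by simp [formOfGram_eq]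

theorem frm_zero_right (v : ι → F) : frm σ M v 0 = 0 := by
  have := frm_smul_right (σ := σ) (M := M) 0 v 0
  simpa using this

theorem frm_sum_right {α : Type*} (s : Finset α) (v : ι → F) (u : α → ι → F) :
    frm σ M v (∑ a ∈ s, u a) = ∑ a ∈ s, frm σ M v (u a) :=
  map_sum (AddMonoidHom.mk' (fun x => frm σ M v x) (fun x y => frm_add_right v x y)) u s

theorem frm_sum_left {α : Type*} (s : Finset α) (v : ι → F) (u : α → ι → F) :
    frm σ M (∑ a ∈ s, u a) v = ∑ a ∈ s, frm σ M (u a) v :=
  map_sum (AddMonoidHom.mk' (fun x => frm σ M x v) (fun x y => frm_add_left x y v)) u s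

theorem frm_swap_mat (v w : ι → F) :
    frm σ M v w = frm (RingEquiv.refl F) Mᵀ ((σ : F → F) ∘ w) v := by
  simp only [formOfGram, RingEquiv.coe_refl, id_eq, Matrix.transpose_apply, Function.comp_apply]
  rw [Finset.sum_comm]
  exact Finset.sum_congr rfl fun a _ => Finset.sum_congr rfl fun b _ => by ring

/-- The sign of the form. -/
theorem CF.exists_sign (h : CF σ M) :
    ∃ ε : F, ε * ε = 1 ∧ σ ε = ε ∧ ∀ v w, frm σ M v w = ε * σ (frm σ M w v) := by
  rcases h.kind with ⟨-, hh⟩ | ⟨rfl, hs, -⟩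
  · refine ⟨1, one_mul 1, map_one σ, fun v w => ?_⟩
    simp only [one_mul, formOfGram, map_sum, map_mul, h.inv]
    rw [Finset.sum_comm]
    refine Finset.sum_congr rfl fun a _ => Finset.sum_congr rfl fun b _ => ?_
    have := congrFun (congrFun hh b) a
    simp only [Matrix.transpose_apply, Matrix.map_apply] at this
    rw [← this]; ring
  · refine ⟨-1, by ring, rfl, fun v w => ?_⟩
    simp only [formOfGram, RingEquiv.coe_refl, id_eq, RingEquiv.refl_apply, Finset.mul_sum]
    rw [Finset.sum_comm]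
    refine Finset.sum_congr rfl fun a _ => Finset.sum_congr rfl fun b _ => ?_
    have := congrFun (congrFun hs a) b
    simp only [Matrix.transpose_apply, Matrix.neg_apply] at this
    rw [this]; ring

theorem CF.orth_symm (h : CF σ M) {v w : ι → F} (h0 : frm σ M v w = 0) : frm σ M w v = 0 := by
  obtain ⟨ε, -, -, hε⟩ := h.exists_sign
  rw [hε, h0, map_zero, mul_zero]

theorem CF.nondeg (h : CF σ M) : IsNondegenerateForm (frm σ M) :=
  formOfGram_nondegenerate σ M h.unit

theorem CF.eq_of_right (h : CF σ M) {x y : ι → F} (hxy : ∀ u, frm σ M u x = frm σ M u y) :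
    x = y := by
  by_contra hne
  obtain ⟨u, hu⟩ := (h.nondeg (x - y) (sub_ne_zero.2 hne)).1
  apply hu
  show frm σ M u (x - y) = 0
  rw [sub_eq_add_neg, ← neg_one_smul F y, frm_add_right, frm_smul_right, hxy, map_neg, map_one]
  ring

theorem CF.alt (h : CF σ M) (hσ : σ = RingEquiv.refl F) (v : ι → F) : frm σ M v v = 0 := by
  rcases h.kind with ⟨hne, -⟩ | ⟨-, hs, hd⟩
  · exact absurd hσ hne
  · subst hσ
    exact (isSymplecticForm_gram M h.unit hs hd).alternating v

theorem CF.symplectic (h : CF σ M) (hσ : σ = RingEquiv.refl F) : IsSymplecticForm (frm σ M) := by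
  rcases h.kind with ⟨hne, -⟩ | ⟨-, hs, hd⟩
  · exact absurd hσ hne
  · subst hσ
    exact isSymplecticForm_gram M h.unit hs hd

theorem CF.unitary (h : CF σ M) (hσ : σ ≠ RingEquiv.refl F) : IsUnitaryForm σ (frm σ M) := by
  obtain ⟨ε, -, -, hε⟩ := h.exists_sign
  refine ⟨hσ, h.inv, frm_add_left, frm_smul_left, fun v w => ?_, h.nondeg⟩
  rcases h.kind with ⟨-, hh⟩ | ⟨he, -⟩
  · simp only [formOfGram, map_sum, map_mul, h.inv]
    rw [Finset.sum_comm]
    refine Finset.sum_congr rfl fun a _ => Finset.sum_congr rfl fun b _ => ?_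
    have := congrFun (congrFun hh b) a
    simp only [Matrix.transpose_apply, Matrix.map_apply] at this
    rw [← this]; ring
  · exact absurd he hσ

/-- The adjoint. -/
noncomputable def adj (σ : F ≃+* F) (M X : Matrix ι ι F) : Matrix ι ι F :=
  (M⁻¹ * Xᵀ * M).map σ

theorem CF.frm_adj (h : CF σ M) (X : Matrix ι ι F) (u v : ι → F) :
    frm σ M (X *ᵥ u) v = frm σ M u (adj σ M X *ᵥ v) := by
  have hd : IsUnit M.det := (Matrix.isUnit_iff_isUnit_det M).1 h.unit
  have hc : (σ : F → F) ∘ (adj σ M X *ᵥ v) = (M⁻¹ * Xᵀ * M) *ᵥ ((σ : F → F) ∘ v) := by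
    have hA : (adj σ M X).map σ = M⁻¹ * Xᵀ * M := by
      ext i j
      simp only [adj, Matrix.map_apply, h.inv]
    rw [← hA]
    funext i
    simp [Matrix.mulVec, dotProduct, map_sum, map_mul]
  rw [frm, formOfGram_eq, formOfGram_eq, hc, Matrix.mulVec_mulVec, ← mul_assoc, ← mul_assoc,
    Matrix.mul_nonsing_inv _ hd, one_mul, ← Matrix.mulVec_mulVec, Matrix.dotProduct_mulVec u Xᵀ,
    Matrix.vecMul_transpose]

theorem CF.adj_eq (h : CF σ M) {X Y : Matrix ι ι F}
    (hY : ∀ u v, frm σ M (X *ᵥ u) v = frm σ M u (Y *ᵥ v)) : adj σ M X = Y := by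
  apply Matrix.ext_of_mulVec_single
  intro i
  exact h.eq_of_right fun u => by rw [← h.frm_adj, hY]

theorem CF.adj_one (h : CF σ M) : adj σ M 1 = 1 := h.adj_eq fun u v => by simp

theorem CF.adj_mul (h : CF σ M) (X Y : Matrix ι ι F) :
    adj σ M (X * Y) = adj σ M Y * adj σ M X := h.adj_eq fun u v => by
  rw [← Matrix.mulVec_mulVec, ← Matrix.mulVec_mulVec, h.frm_adj, h.frm_adj]

theorem CF.adj_add (h : CF σ M) (X Y : Matrix ι ι F) :
    adj σ M (X + Y) = adj σ M X + adj σ M Y := h.adj_eq fun u v => by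
  simp only [Matrix.add_mulVec, frm_add_left, frm_add_right, ← h.frm_adj]

theorem CF.adj_smul (h : CF σ M) (c : F) (X : Matrix ι ι F) :
    adj σ M (c • X) = σ c • adj σ M X := h.adj_eq fun u v => by
  simp only [Matrix.smul_mulVec, frm_smul_left, frm_smul_right, ← h.frm_adj, h.inv]

theorem CF.adj_zero (h : CF σ M) : adj σ M 0 = 0 := h.adj_eq fun u v => by
  simp [frm_zero_left, frm_zero_right]

theorem CF.adj_adj (h : CF σ M) (X : Matrix ι ι F) : adj σ M (adj σ M X) = X := by
  obtain ⟨ε, hε2, hεσ, hε⟩ := h.exists_sign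
  refine h.adj_eq fun u v => ?_
  rw [hε, ← h.frm_adj, hε u]

theorem CF.adj_sum (h : CF σ M) {α : Type*} (s : Finset α) (X : α → Matrix ι ι F) :
    adj σ M (∑ a ∈ s, X a) = ∑ a ∈ s, adj σ M (X a) :=
  map_sum (AddMonoidHom.mk' (adj σ M) h.adj_add) X s

theorem CF.adj_scalar (h : CF σ M) (c : F) : adj σ M (c • 1) = σ c • 1 := by
  rw [h.adj_smul, h.adj_one]

theorem CF.adj_algebraMap (h : CF σ M) (c : F) :
    adj σ M (algebraMap F (Matrix ι ι F) c) = algebraMap F (Matrix ι ι F) (σ c) := by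
  simp only [Algebra.algebraMap_eq_smul_one, h.adj_scalar]

theorem CF.adj_injective (h : CF σ M) : Function.Injective (adj σ M) := fun X Y hXY => by
  rw [← h.adj_adj X, hXY, h.adj_adj]

theorem frm_inv {g : GL ι F} {c : F}
    (hc : ∀ u v, frm σ M ((g : Matrix ι ι F) *ᵥ u) ((g : Matrix ι ι F) *ᵥ v) = c * frm σ M u v)
    (u v : ι → F) : frm σ M ((g : Matrix ι ι F) *ᵥ u) v =
      c * frm σ M u (((g⁻¹ : GL ι F) : Matrix ι ι F) *ᵥ v) := by
  have := hc u (((g⁻¹ : GL ι F) : Matrix ι ι F) *ᵥ v)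
  rwa [Matrix.mulVec_mulVec v (g : Matrix ι ι F), ← Units.val_mul, mul_inv_cancel, Units.val_one,
    Matrix.one_mulVec] at this

theorem CF.adj_similar (h : CF σ M) {g : GL ι F} {c : F}
    (hc : ∀ u v, frm σ M ((g : Matrix ι ι F) *ᵥ u) ((g : Matrix ι ι F) *ᵥ v) = c * frm σ M u v) :
    adj σ M (g : Matrix ι ι F) = σ c • ((g⁻¹ : GL ι F) : Matrix ι ι F) := h.adj_eq fun u v => by
  rw [Matrix.smul_mulVec, frm_smul_right, h.inv]
  exact frm_inv hc u v

theorem CF.adj_glConj (h : CF σ M) {g : GL ι F} (hg : g ∈ similarityGroup (frm σ M))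
    (X : Matrix ι ι F) : adj σ M (glConj g X) = glConj g (adj σ M X) := by
  obtain ⟨c, hc⟩ := hg
  refine h.adj_eq fun u v => ?_
  rw [glConj_apply, glConj_apply, ← Matrix.mulVec_mulVec, ← Matrix.mulVec_mulVec, frm_inv hc,
    h.frm_adj, ← hc, Matrix.mulVec_mulVec u, ← Units.val_mul, mul_inv_cancel, Units.val_one,
    Matrix.one_mulVec, Matrix.mulVec_mulVec, Matrix.mulVec_mulVec, mul_assoc]

/-- The algebra generated by similitudes is closed under adjoints. -/
theorem CF.adj_mem_adjoin (h : CF σ M) {N : Subgroup (GL ι F)} (hN : N ≤ similarityGroup (frm σ M))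
    {X : Matrix ι ι F} (hX : X ∈ Algebra.adjoin F (matrixSet N)) :
    adj σ M X ∈ Algebra.adjoin F (matrixSet N) := by
  induction hX using Algebra.adjoin_induction with
  | mem y hy =>
    obtain ⟨y, hy, rfl⟩ := hy
    obtain ⟨c, hc⟩ := hN hy
    rw [h.adj_similar hc]
    exact Subalgebra.smul_mem _ (Algebra.subset_adjoin (mem_matrixSet (inv_mem hy))) _
  | algebraMap r => rw [h.adj_algebraMap]; exact Subalgebra.algebraMap_mem _ _
  | add y z _ _ hy hz => rw [h.adj_add]; exact add_mem hy hz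
  | mul y z _ _ hy hz => rw [h.adj_mul]; exact mul_mem hz hy

/-- Multiplier one on rank: the Gram equation of a similitude. -/
theorem gram_of_similar {g : GL ι F} {c : F}
    (hc : ∀ u v, frm σ M ((g : Matrix ι ι F) *ᵥ u) ((g : Matrix ι ι F) *ᵥ v) = c * frm σ M u v) :
    (g : Matrix ι ι F)ᵀ * M * (g : Matrix ι ι F).map σ = c • M := by
  refine gram_eq_of_forms_eq σ fun x y => ?_
  rw [← formOfGram_act, formOfGram_smul_gram]
  exact hc x y

/-- The orthogonal complement. -/
def perp (σ : F ≃+* F) (M : Matrix ι ι F) (W : Submodule F (ι → F)) : Submodule F (ι → F) where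
  carrier := {v | ∀ w ∈ W, frm σ M v w = 0}
  add_mem' := fun {a b} ha hb w hw => by rw [frm_add_left, ha w hw, hb w hw, add_zero]
  zero_mem' := fun w _ => frm_zero_left w
  smul_mem' := fun c v hv w hw => by rw [frm_smul_left, hv w hw, mul_zero]

theorem mem_perp {W : Submodule F (ι → F)} {v : ι → F} :
    v ∈ perp σ M W ↔ ∀ w ∈ W, frm σ M v w = 0 := Iff.rfl

theorem CF.finrank_perp (h : CF σ M) (W : Submodule F (ι → F)) :
    Module.finrank F (perp σ M W) + Module.finrank F W = Fintype.card ι := by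
  set k := Module.finrank F W
  let b := Module.finBasis F W
  let A : Matrix (Fin k) ι F := Matrix.of fun i => M *ᵥ ((σ : F → F) ∘ (b i : ι → F))
  have hval : ∀ v i, (A *ᵥ v) i = frm σ M v (b i : ι → F) := fun v i => by
    rw [frm, formOfGram_eq, dotProduct_comm]
    rfl
  have hker : LinearMap.ker A.mulVecLin = perp σ M W := by
    ext v
    rw [LinearMap.mem_ker, Matrix.mulVecLin_apply, mem_perp]
    constructor
    · intro hv w hw
      have hrep := congrArg (fun z : W => (z : ι → F)) (b.sum_repr ⟨w, hw⟩)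
      simp only [Submodule.coe_sum, Submodule.coe_smul] at hrep
      rw [← hrep, frm_sum_right]
      refine Finset.sum_eq_zero fun i _ => ?_
      rw [frm_smul_right, ← hval, hv, Pi.zero_apply, mul_zero]
    · intro hv
      funext i
      rw [hval]
      exact hv _ (b i).2
  have hrk : A.rank = k := by
    have hli : LinearIndependent F A.row := by
      rw [Fintype.linearIndependent_iff]
      intro c hc i
      have hz : (∑ j, σ (c j) • (b j : ι → F)) = 0 := by
        refine h.eq_of_right fun u => ?_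
        rw [frm_sum_right, frm_zero_right]
        have h1 := congrArg (fun z => u ⬝ᵥ z) hc
        simp only [dotProduct_sum, dotProduct_smul, dotProduct_zero] at h1
        rw [← h1]
        refine Finset.sum_congr rfl fun j _ => ?_
        rw [frm_smul_right, h.inv, smul_eq_mul, frm, formOfGram_eq]
        rfl
      have hz' : (∑ j, σ (c j) • b j) = 0 := by
        apply Subtype.ext
        rw [Submodule.coe_sum]
        simpa only [Submodule.coe_smul, ZeroMemClass.coe_zero] using hz
      have := Fintype.linearIndependent_iff.1 b.linearIndependent _ hz' i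
      exact (map_eq_zero σ).1 this
    rw [hli.rank_matrix, Fintype.card_fin]
  have h1 := A.mulVecLin.finrank_range_add_finrank_ker
  rw [hker, Module.finrank_fintype_fun_eq_card] at h1
  rw [Matrix.rank] at hrk
  omega

theorem CF.le_perp_perp (h : CF σ M) (W : Submodule F (ι → F)) : W ≤ perp σ M (perp σ M W) :=
  fun _ hw _ hv => h.orth_symm (hv _ hw)

theorem CF.perp_perp (h : CF σ M) (W : Submodule F (ι → F)) : perp σ M (perp σ M W) = W := by
  symm
  refine Submodule.eq_of_le_of_finrank_eq (h.le_perp_perp W) ?_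
  have h1 := h.finrank_perp W
  have h2 := h.finrank_perp (perp σ M W)
  omega

theorem CF.nondegenerateOn (h : CF σ M) {W : Submodule F (ι → F)}
    (hW : W ⊓ perp σ M W = ⊥) : IsNondegenerateOn (frm σ M) W := by
  intro w hw hw0
  have hnp : w ∉ perp σ M W := fun hp =>
    hw0 ((Submodule.mem_bot F).1 (hW ▸ Submodule.mem_inf.2 ⟨hw, hp⟩))
  rw [mem_perp] at hnp
  simp only [not_forall] at hnp
  obtain ⟨x, hx, hne⟩ := hnp
  exact ⟨⟨x, hx, fun h0 => hne (h.orth_symm h0)⟩, ⟨x, hx, hne⟩⟩

theorem inf_perp_of_nondegenerateOn {W : Submodule F (ι → F)}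
    (hW : IsNondegenerateOn (frm σ M) W) : W ⊓ perp σ M W = ⊥ := by
  rw [eq_bot_iff]
  rintro w ⟨hw, hp⟩
  by_contra h0
  obtain ⟨x, hx, hne⟩ := (hW w hw h0).2
  exact hne (hp x hx)

theorem perp_stable {g : GL ι F} (hg : g ∈ similarityGroup (frm σ M))
    {W : Submodule F (ι → F)} (hW : g ∈ subspaceStabilizer W) :
    g ∈ subspaceStabilizer (perp σ M W) := by
  obtain ⟨c, hc⟩ := hg
  intro v
  constructor
  · intro hv w hw
    obtain ⟨w', rfl⟩ : ∃ w', (g : Matrix ι ι F) *ᵥ w' = w :=
      ⟨((g⁻¹ : GL ι F) : Matrix ι ι F) *ᵥ w, by simp [Matrix.mulVec_mulVec]⟩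
    show frm σ M ((g : Matrix ι ι F) *ᵥ v) _ = 0
    rw [hc, hv w' ((hW w').2 hw), mul_zero]
  · intro hv w hw
    have h1 : frm σ M ((g : Matrix ι ι F) *ᵥ v) ((g : Matrix ι ι F) *ᵥ w) = 0 :=
      hv _ ((hW w).1 hw)
    rw [hc] at h1
    exact (mul_eq_zero.1 h1).resolve_left c.ne_zero

/-- Two members of a pair stabilised. -/
theorem mem_decompositionStabilizer_pair {g : GL ι F} {W U : Submodule F (ι → F)}
    (hW : g ∈ subspaceStabilizer W) (hU : g ∈ subspaceStabilizer U) :
    g ∈ decompositionStabilizer ![W, U] := by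
  have key : ∀ X : Submodule F (ι → F), g ∈ subspaceStabilizer X →
      X.map (Matrix.toLin' (g : Matrix ι ι F)) = X := by
    intro X hX
    ext v
    constructor
    · rintro ⟨u, hu, rfl⟩
      rw [Matrix.toLin'_apply]
      exact (hX u).1 hu
    · intro hv
      refine ⟨((g⁻¹ : GL ι F) : Matrix ι ι F) *ᵥ v, (hX _).2 ?_, ?_⟩
      · show (g : Matrix ι ι F) *ᵥ _ ∈ X
        simpa [Matrix.mulVec_mulVec] using hv
      · simp [Matrix.mulVec_mulVec]
  refine ⟨1, fun i => ?_⟩
  fin_cases i
  · exact key W hW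
  · exact key U hU

/-- An invariant subspace gives a totally singular one, a small non-degenerate one, or an
orthogonal pair. -/
theorem CF.reducible_cases (h : CF σ M) {G : Subgroup (GL ι F)}
    (hG : G ≤ similarityGroup (frm σ M)) {W : Submodule F (ι → F)} (hb : W ≠ ⊥) (ht : W ≠ ⊤)
    (hle : G ≤ subspaceStabilizer W) :
    (∃ U : Submodule F (ι → F), U ≠ ⊥ ∧ U ≠ ⊤ ∧ IsTotallySingularFor (frm σ M) U ∧
      G ≤ subspaceStabilizer U) ∨
    (∃ U : Submodule F (ι → F), U ≠ ⊥ ∧ U ≠ ⊤ ∧ IsNondegenerateOn (frm σ M) U ∧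
      2 * Module.finrank F U < Fintype.card ι ∧ G ≤ subspaceStabilizer U) ∨
    (∃ (m : ℕ) (D : Fin 2 → Submodule F (ι → F)), IsNondegenerateMDecomposition (frm σ M) m D ∧
      G ≤ decompositionStabilizer D) := by
  have hp : G ≤ subspaceStabilizer (perp σ M W) := fun g hg => perp_stable (hG hg) (hle hg)
  by_cases hR : W ⊓ perp σ M W = ⊥
  swap
  · refine Or.inl ⟨_, hR, fun htop => ht (eq_top_iff.2 (htop ▸ inf_le_left)),
      fun u hu v hv => (Submodule.mem_inf.1 hu).2 v (Submodule.mem_inf.1 hv).1, fun g hg v => ?_⟩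
    exact ⟨fun hv => ⟨(hle hg v).1 hv.1, (hp hg v).1 hv.2⟩,
      fun hv => ⟨(hle hg v).2 hv.1, (hp hg v).2 hv.2⟩⟩
  have hsum := h.finrank_perp W
  have hkpos : 0 < Module.finrank F W :=
    Module.finrank_pos_iff.2 (Submodule.nontrivial_iff_ne_bot.2 hb)
  have hklt : Module.finrank F W < Fintype.card ι :=
    lt_of_lt_of_eq (Submodule.finrank_lt ht) (Module.finrank_fintype_fun_eq_card F)
  have hR' : perp σ M W ⊓ perp σ M (perp σ M W) = ⊥ := by rw [h.perp_perp, inf_comm, hR]
  rcases lt_trichotomy (2 * Module.finrank F W) (Fintype.card ι) with hlt | heq | hgt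
  · exact Or.inr (Or.inl ⟨W, hb, ht, h.nondegenerateOn hR, hlt, hle⟩)
  · refine Or.inr (Or.inr ⟨Module.finrank F W, ![W, perp σ M W], ⟨⟨le_rfl, hkpos, ?_, ?_, ?_⟩, ?_, ?_⟩,
      fun g hg => mem_decompositionStabilizer_pair (hle hg) (hp hg)⟩)
    · intro i; fin_cases i
      · rfl
      · show Module.finrank F (perp σ M W) = _
        omega
    · rw [iSupIndep_pair (i := (0 : Fin 2)) (j := 1) (by decide) (fun k => by fin_cases k <;> simp)]
      exact disjoint_iff.2 hR
    · have hsup : W ⊔ perp σ M W = ⊤ := by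
        apply Submodule.eq_top_of_finrank_eq
        have := Submodule.finrank_sup_add_finrank_inf_eq W (perp σ M W)
        rw [hR, finrank_bot] at this
        rw [Module.finrank_fintype_fun_eq_card]
        omega
      rw [eq_top_iff, ← hsup]
      exact sup_le (le_iSup ![W, perp σ M W] 0) (le_iSup ![W, perp σ M W] 1)
    · intro i; fin_cases i
      · exact h.nondegenerateOn hR
      · exact h.nondegenerateOn hR'
    · intro i j hij
      fin_cases i <;> fin_cases j
      · exact absurd rfl hij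
      · exact fun u hu v hv => h.orth_symm (hv u hu)
      · exact fun u hu v hv => hu v hv
      · exact absurd rfl hij
  · refine Or.inr (Or.inl ⟨perp σ M W, fun h0 => ?_, fun h1 => ?_, h.nondegenerateOn hR', by omega, hp⟩)
    · rw [h0, finrank_bot] at hsum; omega
    · rw [h1, finrank_top, Module.finrank_fintype_fun_eq_card] at hsum; omega

/-- A non-degenerate subspace of a symplectic space has even dimension. -/
theorem CF.even_finrank (h : CF σ M) (hσ : σ = RingEquiv.refl F) {W : Submodule F (ι → F)}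
    (hW : IsNondegenerateOn (frm σ M) W) : Even (Module.finrank F W) := by
  have hf := h.symplectic hσ
  refine H47.alt_finrank_even (Module.finrank F W) (LinearMap.mk₂ F (fun u v : W => frm σ M u v)
    (fun a b c => hf.bilinear.add_left _ _ _) (fun c a b => hf.bilinear.smul_left c _ _)
    (fun a b c => hf.bilinear.add_right _ _ _) (fun c a b => hf.bilinear.smul_right c _ _))
    (fun v => hf.alternating _) (fun v hv => ?_) rfl
  by_contra hv0
  obtain ⟨x, hxW, hx⟩ := (hW v v.2 (fun h0 => hv0 (Subtype.ext h0))).1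
  exact hx (hv ⟨x, hxW⟩)

end basic

end H46
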