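import Cfsg.Agent.H46.ClsFieldAux

/-!
Idempotents in a commutative adjoint-closed algebra give orthogonal decompositions or pairs of
totally singular subspaces.
-/

set_option autoImplicit false
set_option linter.style.haveILetI false
set_option linter.unusedSectionVars false
set_option maxHeartbeats 800000

open Cfsg.Geo
open scoped Matrix MatrixGroups

namespace H46

variable {ι : Type} [Fintype ι] [DecidableEq ι] {F : Type*} [Field F] [Fintype F]

open scoped Classical in
/-- Orthogonal idempotents with sum one, permuted by an irreducible group, give a transitively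
permuted decomposition. -/
theorem mDecomp_of_idempotents {G : Subgroup (GL ι F)}
    (hirr : ActsIrreducibly (matrixSet G)) (s : Finset (Matrix ι ι F)) (hs : 2 ≤ s.card)
    (h0 : ∀ x ∈ s, x ≠ 0) (horth : ∀ x ∈ s, ∀ y ∈ s, x * y = if x = y then x else 0)
    (hsum : ∑ x ∈ s, x = 1) (hperm : ∀ g ∈ G, ∀ x ∈ s, glConj g x ∈ s) :
    ∃ (t m : ℕ) (E : Fin t → Matrix ι ι F), t = s.card ∧ (∀ i, E i ∈ s) ∧ Function.Injective E ∧
      (∀ x ∈ s, ∃ i, E i = x) ∧ IsMDecomposition m (fun i => LinearMap.range (Matrix.toLin' (E i))) ∧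
      G ≤ decompositionStabilizer (fun i => LinearMap.range (Matrix.toLin' (E i))) := by
  classical
  set t := s.card
  let f : Fin t ≃ s := s.equivFin.symm
  set E : Fin t → Matrix ι ι F := fun i => (f i : Matrix ι ι F) with hE
  have hEmem : ∀ i, E i ∈ s := fun i => (f i).2
  have hEinj : Function.Injective E := fun i j h => f.injective (Subtype.ext h)
  have hEsum : ∑ i, E i = 1 := by
    rw [← hsum, ← Finset.sum_coe_sort s]
    exact f.sum_comp (fun x : s => (x : Matrix ι ι F))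
  have hEorth : ∀ i j, E i * E j = if i = j then E i else 0 := by
    intro i j
    rw [horth _ (hEmem i) _ (hEmem j)]
    simp [hEinj.eq_iff]
  set D : Fin t → Submodule F (ι → F) := fun i => LinearMap.range (Matrix.toLin' (E i)) with hD
  have hfix : ∀ i, ∀ v ∈ D i, ∀ j, E j *ᵥ v = if j = i then v else 0 := by
    rintro i _ ⟨v, rfl⟩ j
    rw [Matrix.toLin'_apply, Matrix.mulVec_mulVec, hEorth]
    split_ifs with h
    · rw [h]
    · rw [Matrix.zero_mulVec]
  have hg : ∀ g ∈ G, ∃ σ : Equiv.Perm (Fin t), ∀ i,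
      glConj g (E i) = E (σ i) ∧ (D i).map (Matrix.toLin' (g : Matrix ι ι F)) = D (σ i) := by
    intro g hg
    have hex : ∀ i, ∃ j, glConj g (E i) = E j := fun i =>
      ⟨f.symm ⟨_, hperm g hg _ (hEmem i)⟩, by simp [hE]⟩
    choose σ hσ using hex
    have hσi : Function.Injective σ := by
      intro i j hij
      apply hEinj
      apply (glConj g).injective
      rw [hσ, hσ, hij]
    refine ⟨Equiv.ofBijective σ (Finite.injective_iff_bijective.1 hσi), fun i => ⟨hσ i, ?_⟩⟩
    show _ = D (σ i)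
    have hg1 : LinearMap.range (Matrix.toLin' (g : Matrix ι ι F)) = ⊤ := by
      rw [LinearMap.range_eq_top]
      intro v
      exact ⟨((g⁻¹ : GL ι F) : Matrix ι ι F) *ᵥ v, by simp [Matrix.mulVec_mulVec]⟩
    simp only [hD]
    rw [← LinearMap.range_comp, ← Matrix.toLin'_mul, (glConj_eq_iff g (E i) _).1 (hσ i),
      Matrix.toLin'_mul, LinearMap.range_comp, hg1, Submodule.map_top]
  have hsupD : iSup D = ⊤ := by
    rw [eq_top_iff]
    intro v _
    rw [show v = ∑ i, E i *ᵥ v by rw [← Matrix.sum_mulVec, hEsum, Matrix.one_mulVec]]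
    exact Submodule.sum_mem _ fun i _ => le_iSup D i ⟨v, Matrix.toLin'_apply _ _⟩
  have hind : iSupIndep D := by
    rw [iSupIndep_def]
    intro i
    rw [Submodule.disjoint_def]
    intro v hv hv'
    have h1 := hfix i v hv i
    rw [if_pos rfl] at h1
    rw [← h1]
    have hle : (⨆ j, ⨆ (_ : j ≠ i), D j) ≤ LinearMap.ker (Matrix.toLin' (E i)) :=
      iSup₂_le fun j hj w hw => by
        rw [LinearMap.mem_ker, Matrix.toLin'_apply, hfix j w hw i, if_neg (Ne.symm hj)]
    simpa using hle hv'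
  have hDne : ∀ i, D i ≠ ⊥ := fun i h => h0 _ (hEmem i) (by
    apply Matrix.toLin'.injective
    rw [map_zero]
    exact LinearMap.range_eq_bot.1 h)
  have ht0 : 0 < t := by omega
  set d := Module.finrank F (D ⟨0, ht0⟩) with hd
  -- transitivity
  let orbit : Set (Fin t) := {i | ∃ g ∈ G, (D ⟨0, ht0⟩).map (Matrix.toLin' (g : Matrix ι ι F)) = D i}
  have h0mem : (⟨0, ht0⟩ : Fin t) ∈ orbit := ⟨1, one_mem G, by simp⟩
  have hW : (⨆ i ∈ orbit, D i) = ⊤ := by
    refine (hirr _ ?_).resolve_left fun h => hDne ⟨0, ht0⟩ (eq_bot_iff.2 (h ▸ le_iSup₂_of_le _ h0mem le_rfl))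
    rintro _ ⟨g, hgG, rfl⟩
    rw [Submodule.map_iSup]
    refine iSup_le fun i => ?_
    rw [Submodule.map_iSup]
    refine iSup_le fun hi => ?_
    obtain ⟨σ, hσ⟩ := hg g hgG
    obtain ⟨k, hk, hki⟩ := hi
    rw [(hσ i).2]
    refine le_iSup₂_of_le (σ i) ⟨g * k, mul_mem hgG hk, ?_⟩ le_rfl
    rw [Units.val_mul, Matrix.toLin'_mul, Submodule.map_comp, hki, (hσ i).2]
  have hall : ∀ i, i ∈ orbit := by
    intro i
    by_contra hi
    apply hDne i
    rw [eq_bot_iff]
    refine le_trans ?_ (hind.disjoint_biSup (y := orbit) hi).le_bot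
    exact le_inf le_rfl (hW ▸ le_top)
  refine ⟨t, d, E, rfl, hEmem, hEinj, fun x hx => ⟨f.symm ⟨x, hx⟩, by simp [hE]⟩,
    ⟨hs, ?_, fun i => ?_, hind, hsupD⟩, fun g hgG => ?_⟩
  · rw [hd, Module.finrank_pos_iff]
    exact Submodule.nontrivial_iff_ne_bot.2 (hDne _)
  · obtain ⟨g, hgG, hgi⟩ := hall i
    show Module.finrank F (D i) = d
    rw [← hgi]
    have hinj : Function.Injective (Matrix.toLin' (g : Matrix ι ι F)) := fun u v huv => by
      have := congrArg (fun z => ((g⁻¹ : GL ι F) : Matrix ι ι F) *ᵥ z) huv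
      simpa [Matrix.mulVec_mulVec] using this
    exact (Submodule.equivMapOfInjective _ hinj _).finrank_eq.symm
  · obtain ⟨σ, hσ⟩ := hg g hgG
    exact ⟨σ, fun i => (hσ i).2⟩


open scoped Classical in
/-- The atoms among the idempotents of a commutative algebra. -/
theorem exists_atom_finset (Z : Subalgebra F (Matrix ι ι F))
    (hcomm : ∀ x ∈ Z, ∀ y ∈ Z, x * y = y * x)
    (hex : ∃ e ∈ Z, e * e = e ∧ e ≠ 0 ∧ e ≠ 1) :
    ∃ s : Finset (Matrix ι ι F), 2 ≤ s.card ∧
      (∀ x, x ∈ s ↔ x ∈ Z ∧ x * x = x ∧ x ≠ 0 ∧ ∀ f ∈ Z, f * f = f → x * f = x ∨ x * f = 0) ∧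
      (∀ x ∈ s, ∀ y ∈ s, x * y = if x = y then x else 0) ∧ ∑ x ∈ s, x = 1 := by
  classical
  letI : CommRing Z :=
    { (inferInstance : Ring Z) with mul_comm := fun a b => Subtype.ext (hcomm _ a.2 _ b.2) }
  obtain ⟨e', heZ, hee, he0', he1'⟩ := hex
  obtain ⟨e, he, he0, he1⟩ : ∃ e : Z, e * e = e ∧ e ≠ 0 ∧ e ≠ 1 :=
    ⟨⟨e', heZ⟩, Subtype.ext hee, fun h => he0' (congrArg Subtype.val h),
      fun h => he1' (congrArg Subtype.val h)⟩
  -- atoms among idempotents
  haveI : Fintype Z := Fintype.ofFinite Z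
  let at' : Finset Z := Finset.univ.filter fun a =>
    a * a = a ∧ a ≠ 0 ∧ ∀ f : Z, f * f = f → a * f = a ∨ a * f = 0
  have hat : ∀ a, a ∈ at' ↔ a * a = a ∧ a ≠ 0 ∧ ∀ f : Z, f * f = f → a * f = a ∨ a * f = 0 :=
    fun a => by simp [at']
  have hbelow : ∀ f : Z, f * f = f → f ≠ 0 → ∃ a ∈ at', a * f = a := by
    intro f hf hf0
    obtain ⟨a, ha, hmin⟩ := Finset.exists_min_image
      (Finset.univ.filter fun a : Z => a * a = a ∧ a ≠ 0 ∧ a * f = a)
      (fun a => (Finset.univ.filter fun b : Z => b * a = b).card) ⟨f, by simp [hf, hf0]⟩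
    simp only [Finset.mem_filter, Finset.mem_univ, true_and] at ha
    refine ⟨a, (hat a).2 ⟨ha.1, ha.2.1, fun k hk => ?_⟩, ha.2.2⟩
    by_contra hcon
    simp only [not_or] at hcon
    have hak : (a * k) * (a * k) = a * k := by
      rw [mul_mul_mul_comm, ha.1, hk]
    have := hmin (a * k) (by
      simp only [Finset.mem_filter, Finset.mem_univ, true_and]
      exact ⟨hak, hcon.2, by rw [mul_right_comm, ha.2.2]⟩)
    refine absurd this (not_le.2 (Finset.card_lt_card ?_))
    rw [Finset.ssubset_iff_of_subset]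
    · exact ⟨a, by simp [ha.1], by simpa [← mul_assoc, ha.1] using hcon.1⟩
    · intro b hb
      simp only [Finset.mem_filter, Finset.mem_univ, true_and] at hb ⊢
      rw [← hb, mul_assoc, mul_comm a k, mul_assoc, ha.1]
  have horth : ∀ a ∈ at', ∀ b ∈ at', a * b = if a = b then a else 0 := by
    intro a ha b hb
    obtain ⟨ha1, ha0, ha2⟩ := (hat a).1 ha
    obtain ⟨hb1, hb0, hb2⟩ := (hat b).1 hb
    split_ifs with h
    · rw [← h, ha1]
    · rcases ha2 b hb1 with h1 | h1
      · rcases hb2 a ha1 with h2 | h2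
        · exact absurd (by rw [← h1, mul_comm, h2]) h
        · rwa [mul_comm]
      · exact h1
  have hsum : ∑ a ∈ at', a = 1 := by
    by_contra hne
    have hsq : (∑ a ∈ at', a) * (∑ a ∈ at', a) = ∑ a ∈ at', a := by
      rw [Finset.sum_mul_sum]
      refine Finset.sum_congr rfl fun a ha => ?_
      rw [Finset.sum_congr rfl (fun b hb => horth a ha b hb)]
      simp [ha]
    obtain ⟨a, ha, haf⟩ := hbelow (1 - ∑ a ∈ at', a) (by linear_combination hsq)
      (sub_ne_zero.2 fun h => hne h.symm)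
    apply ((hat a).1 ha).2.1
    rw [← haf, mul_sub, mul_one, Finset.mul_sum, Finset.sum_congr rfl (fun b hb => horth a ha b hb)]
    simp [ha]
  have hcard : 2 ≤ at'.card := by
    obtain ⟨a, ha, hae⟩ := hbelow e he he0
    obtain ⟨b, hb, hbe⟩ := hbelow (1 - e) (by linear_combination he) (sub_ne_zero.2 (Ne.symm he1))
    refine Finset.one_lt_card.2 ⟨a, ha, b, hb, fun hab => ?_⟩
    subst hab
    apply ((hat a).1 ha).2.1
    linear_combination -hbe - hae
  refine ⟨at'.map ⟨Subtype.val, Subtype.val_injective⟩, by rwa [Finset.card_map], fun x => ?_, ?_, ?_⟩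
  · simp only [Finset.mem_map, Function.Embedding.coeFn_mk]
    constructor
    · rintro ⟨a, ha, rfl⟩
      obtain ⟨ha1, ha0, ha2⟩ := (hat a).1 ha
      exact ⟨a.2, congrArg Subtype.val ha1, fun h => ha0 (Subtype.ext h), fun f hf hff =>
        (ha2 ⟨f, hf⟩ (Subtype.ext hff)).imp (congrArg Subtype.val) (congrArg Subtype.val)⟩
    · rintro ⟨hx, hxx, hx0, hxf⟩
      exact ⟨⟨x, hx⟩, (hat _).2 ⟨Subtype.ext hxx, fun h => hx0 (congrArg Subtype.val h), fun f hff =>
        (hxf f f.2 (congrArg Subtype.val hff)).imp (fun h => Subtype.ext h) (fun h => Subtype.ext h)⟩,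
        rfl⟩
  · simp only [Finset.mem_map, Function.Embedding.coeFn_mk]
    rintro _ ⟨a, ha, rfl⟩ _ ⟨b, hb, rfl⟩
    rw [← MulMemClass.coe_mul, horth a ha b hb]
    by_cases h : a = b
    · simp [h]
    · simp [h, Subtype.coe_injective.ne h]
  · rw [Finset.sum_map]
    simpa using congrArg Subtype.val hsum

variable {σ : F ≃+* F} {M : Matrix ι ι F}

/-- Self-adjoint idempotents permuted by an irreducible group give a non-degenerate decomposition. -/
theorem ClsGeometric.of_selfAdjoint_idempotents (hM : CF σ M) {G : Subgroup (GL ι F)}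
    (hirr : ActsIrreducibly (matrixSet G)) (s : Finset (Matrix ι ι F)) (hs : 2 ≤ s.card)
    (h0 : ∀ x ∈ s, x ≠ 0) (horth : ∀ x ∈ s, ∀ y ∈ s, x ≠ y → x * y = 0)
    (hidem : ∀ x ∈ s, x * x = x) (hsum : ∑ x ∈ s, x = 1)
    (hperm : ∀ g ∈ G, ∀ x ∈ s, glConj g x ∈ s) (hsa : ∀ x ∈ s, adj σ M x = x) :
    ClsGeometric σ M G := by
  classical
  obtain ⟨t, m, E, -, hE, hEi, hEs, hD, hG⟩ := mDecomp_of_idempotents hirr s hs h0
    (fun x hx y hy => by
      split_ifs with h
      · rw [← h, hidem x hx]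
      · exact horth x hx y hy h) hsum hperm
  refine .decomp t m _ ⟨hD, fun i => ?_, fun i j hij => ?_⟩ hG
  · intro w hw hw0
    obtain ⟨u, rfl⟩ := hw
    obtain ⟨⟨x, hx⟩, -⟩ := hM.nondeg _ hw0
    refine ⟨⟨Matrix.toLin' (E i) x, ⟨x, rfl⟩, ?_⟩, ⟨Matrix.toLin' (E i) x, ⟨x, rfl⟩, ?_⟩⟩
    · rw [Matrix.toLin'_apply, Matrix.toLin'_apply, hM.frm_adj, hsa _ (hE i), Matrix.mulVec_mulVec,
        hidem _ (hE i)]
      rwa [Matrix.toLin'_apply] at hx
    · intro h1
      apply hx
      have h2 := hM.orth_symm h1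
      rw [Matrix.toLin'_apply, Matrix.toLin'_apply, hM.frm_adj, hsa _ (hE i), Matrix.mulVec_mulVec,
        hidem _ (hE i)] at h2
      rwa [Matrix.toLin'_apply]
  · rintro _ ⟨u, rfl⟩ _ ⟨v, rfl⟩
    rw [Matrix.toLin'_apply, Matrix.toLin'_apply, hM.frm_adj, hsa _ (hE i), Matrix.mulVec_mulVec,
      horth _ (hE i) _ (hE j) (hEi.ne hij), Matrix.zero_mulVec, frm_zero_right]

/-- A pair of idempotents exchanged by the adjoint gives a pair of totally singular subspaces. -/
theorem ClsGeometric.of_adjoint_pair (hM : CF σ M) {G : Subgroup (GL ι F)}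
    (hirr : ActsIrreducibly (matrixSet G)) (s : Finset (Matrix ι ι F)) (hs : s.card = 2)
    (h0 : ∀ x ∈ s, x ≠ 0) (horth : ∀ x ∈ s, ∀ y ∈ s, x ≠ y → x * y = 0)
    (hidem : ∀ x ∈ s, x * x = x) (hsum : ∑ x ∈ s, x = 1)
    (hperm : ∀ g ∈ G, ∀ x ∈ s, glConj g x ∈ s)
    (hne : ∀ x ∈ s, adj σ M x ∈ s ∧ adj σ M x ≠ x) : ClsGeometric σ M G := by
  classical
  obtain ⟨t, m, E, ht, hE, hEi, hEs, hD, hG⟩ := mDecomp_of_idempotents hirr s hs.ge h0
    (fun x hx y hy => by
      split_ifs with h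
      · rw [← h, hidem x hx]
      · exact horth x hx y hy h) hsum hperm
  obtain rfl : t = 2 := ht.trans hs
  refine .tsPair m _ hD (fun i => ?_) hG
  rintro _ ⟨u, rfl⟩ _ ⟨v, rfl⟩
  obtain ⟨h1, h2⟩ := hne _ (hE i)
  rw [Matrix.toLin'_apply, Matrix.toLin'_apply, hM.frm_adj, Matrix.mulVec_mulVec,
    horth _ h1 _ (hE i) h2, Matrix.zero_mulVec, frm_zero_right]

open scoped Classical in
/-- A commutative adjoint-closed normalised algebra with a non-trivial idempotent. -/
theorem ClsGeometric.of_idempotents (hM : CF σ M) {G : Subgroup (GL ι F)}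
    (hGM : G ≤ similarityGroup (frm σ M)) (hirr : ActsIrreducibly (matrixSet G))
    (Z : Subalgebra F (Matrix ι ι F)) (hcomm : ∀ x ∈ Z, ∀ y ∈ Z, x * y = y * x)
    (hG : ∀ g ∈ G, ∀ X ∈ Z, glConj g X ∈ Z) (hadj : ∀ X ∈ Z, adj σ M X ∈ Z)
    (hex : ∃ e ∈ Z, e * e = e ∧ e ≠ 0 ∧ e ≠ 1) : ClsGeometric σ M G := by
  obtain ⟨s, hs2, hmem, horth, hsum⟩ := exists_atom_finset Z hcomm hex
  have hsZ : ∀ x ∈ s, x ∈ Z := fun x hx => ((hmem x).1 hx).1
  have hidem : ∀ x ∈ s, x * x = x := fun x hx => ((hmem x).1 hx).2.1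
  have h0 : ∀ x ∈ s, x ≠ 0 := fun x hx => ((hmem x).1 hx).2.2.1
  have horth' : ∀ x ∈ s, ∀ y ∈ s, x ≠ y → x * y = 0 := fun x hx y hy h => by
    rw [horth x hx y hy, if_neg h]
  have hperm : ∀ g ∈ G, ∀ x ∈ s, glConj g x ∈ s := by
    intro g hg x hx
    obtain ⟨hxZ, hxx, hx0, hxf⟩ := (hmem x).1 hx
    refine (hmem _).2 ⟨hG g hg x hxZ, by rw [← map_mul, hxx], fun h => hx0 ?_, fun f hf hff => ?_⟩
    · exact (glConj g).injective (by rw [h, map_zero])
    · obtain ⟨f', rfl⟩ := (glConj g).surjective f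
      have hf' : f' ∈ Z := glConj_symm_mem (S := Z) hG hg hf
      have hff' : f' * f' = f' := (glConj g).injective (by rw [map_mul, hff])
      exact (hxf f' hf' hff').imp (fun h => by rw [← map_mul, h])
        (fun h => by rw [← map_mul, h, map_zero])
  have hsadj : ∀ x ∈ s, adj σ M x ∈ s := by
    intro x hx
    obtain ⟨hxZ, hxx, hx0, hxf⟩ := (hmem x).1 hx
    refine (hmem _).2 ⟨hadj x hxZ, by rw [← hM.adj_mul, hxx], fun h => hx0 ?_, fun f hf hff => ?_⟩
    · exact hM.adj_injective (by rw [h, hM.adj_zero])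
    · have hf' : adj σ M f ∈ Z := hadj f hf
      have hff' : adj σ M f * adj σ M f = adj σ M f := by rw [← hM.adj_mul, hff]
      refine (hxf _ hf' hff').imp (fun h => ?_) (fun h => ?_)
      · have := congrArg (adj σ M) h
        rw [hM.adj_mul, hM.adj_adj] at this
        rwa [hcomm _ (hadj x hxZ) _ hf]
      · have := congrArg (adj σ M) h
        rw [hM.adj_mul, hM.adj_adj, hM.adj_zero] at this
        rwa [hcomm _ (hadj x hxZ) _ hf]
  have htrans : ∀ x ∈ s, ∀ y ∈ s, ∃ g ∈ G, glConj g x = y := by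
    intro x hx
    let T : Finset (Matrix ι ι F) := s.filter fun y => ∃ g ∈ G, glConj g x = y
    have hxT : x ∈ T := Finset.mem_filter.2 ⟨hx, 1, one_mem G, glConj_one x⟩
    set p : Matrix ι ι F := ∑ y ∈ T, y with hp
    have hTg : ∀ g ∈ G, glConj g p = p := by
      intro g hg
      rw [hp, map_sum]
      refine Finset.sum_bij' (fun a _ => glConj g a) (fun a _ => glConj g⁻¹ a) (fun a ha => ?_)
        (fun a ha => ?_) (fun a _ => by rw [← glConj_mul, inv_mul_cancel, glConj_one])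
        (fun a _ => by rw [← glConj_mul, mul_inv_cancel, glConj_one]) (fun a _ => rfl)
      · obtain ⟨ha, k, hk, hka⟩ := Finset.mem_filter.1 ha
        exact Finset.mem_filter.2 ⟨hperm g hg a ha, g * k, mul_mem hg hk, by rw [glConj_mul, hka]⟩
      · obtain ⟨ha, k, hk, hka⟩ := Finset.mem_filter.1 ha
        exact Finset.mem_filter.2 ⟨hperm g⁻¹ (inv_mem hg) a ha, g⁻¹ * k, mul_mem (inv_mem hg) hk,
          by rw [glConj_mul, hka]⟩
    have hpx : p * x = x := by
      rw [hp, Finset.sum_mul, Finset.sum_eq_single x (fun b hb hbx => horth' b (Finset.mem_filter.1 hb).1 x hx hbx)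
        (fun h => absurd hxT h), hidem x hx]
    have hW := hirr (LinearMap.range (Matrix.toLin' p)) (by
      rintro _ ⟨g, hg, rfl⟩ _ ⟨_, ⟨u, rfl⟩, rfl⟩
      refine ⟨(g : Matrix ι ι F) *ᵥ u, ?_⟩
      simp only [Matrix.toLin'_apply, Matrix.mulVec_mulVec, (glConj_eq_iff g p p).1 (hTg g hg)])
    intro y hy
    by_contra hyT
    have hy' : y ∉ T := fun h => hyT (Finset.mem_filter.1 h).2
    rcases hW with h | h
    · apply h0 x hx
      have hp0 : p = 0 := Matrix.toLin'.injective (by rw [map_zero]; exact LinearMap.range_eq_bot.1 h)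
      rw [← hpx, hp0, zero_mul]
    · apply h0 y hy
      have hyp : y * p = 0 := by
        rw [hp, Finset.mul_sum]
        exact Finset.sum_eq_zero fun b hb => horth' y hy b (Finset.mem_filter.1 hb).1 fun e =>
          hy' (e ▸ hb)
      apply Matrix.toLin'.injective
      refine LinearMap.ext fun v => ?_
      obtain ⟨u, rfl⟩ : ∃ u, Matrix.toLin' p u = v := by
        have hv : v ∈ LinearMap.range (Matrix.toLin' p) := h ▸ Submodule.mem_top
        exact hv
      rw [← LinearMap.comp_apply, ← Matrix.toLin'_mul, hyp]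
      simp
  by_cases hfix : ∃ x ∈ s, adj σ M x = x
  · obtain ⟨x, hx, hxx⟩ := hfix
    refine .of_selfAdjoint_idempotents hM hirr s hs2 h0 horth' hidem hsum hperm fun y hy => ?_
    obtain ⟨g, hg, rfl⟩ := htrans x hx y hy
    rw [hM.adj_glConj (hGM hg), hxx]
  simp only [not_exists, not_and] at hfix
  by_cases h2 : s.card = 2
  · exact .of_adjoint_pair hM hirr s h2 h0 horth' hidem hsum hperm fun x hx => ⟨hsadj x hx, hfix x hx⟩
  -- coarsen
  let s' : Finset (Matrix ι ι F) := s.image fun x => x + adj σ M x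
  have key : ∀ x ∈ s, ∀ y ∈ s, (x + adj σ M x) * y = if y = x ∨ y = adj σ M x then y else 0 := by
    intro x hx y hy
    rw [add_mul, horth x hx y hy, horth _ (hsadj x hx) y hy]
    by_cases h1 : y = x
    · subst h1
      simp [hfix y hx]
    · by_cases h2 : y = adj σ M x
      · subst h2
        simp [Ne.symm (hfix x hx)]
      · simp [h1, h2, Ne.symm h1, Ne.symm h2]
  refine .of_selfAdjoint_idempotents hM hirr s' ?_ ?_ ?_ ?_ ?_ ?_ ?_
  · obtain ⟨x, hx⟩ := Finset.card_pos.1 (by omega : 0 < s.card)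
    obtain ⟨y, hy, hyne⟩ : ∃ y ∈ s, y ∉ ({x, adj σ M x} : Finset (Matrix ι ι F)) := by
      by_contra hcon
      simp only [not_exists, not_and, not_not] at hcon
      have := (Finset.card_le_card hcon).trans (Finset.card_le_two)
      omega
    refine Finset.one_lt_card.2 ⟨_, Finset.mem_image_of_mem _ hx, _, Finset.mem_image_of_mem _ hy,
      fun e => h0 y hy ?_⟩
    have h3 := key y hy y hy
    rw [if_pos (Or.inl rfl), ← e, key x hx y hy, if_neg] at h3
    · exact h3.symm
    · simpa using hyne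
  · intro z hz
    obtain ⟨x, hx, rfl⟩ := Finset.mem_image.1 hz
    intro h
    have := key x hx x hx
    rw [h, zero_mul, if_pos (Or.inl rfl)] at this
    exact h0 x hx this.symm
  · intro z hz w hw hne
    obtain ⟨x, hx, rfl⟩ := Finset.mem_image.1 hz
    obtain ⟨y, hy, rfl⟩ := Finset.mem_image.1 hw
    rw [mul_add, key x hx y hy, key x hx _ (hsadj y hy), if_neg, if_neg, add_zero]
    · rintro (h | h)
      · apply hne; rw [← h, hM.adj_adj, add_comm]
      · exact hne (by rw [hM.adj_injective h])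
    · rintro (h | h)
      · exact hne (by rw [h])
      · apply hne; rw [h, hM.adj_adj, add_comm]
  · intro z hz
    obtain ⟨x, hx, rfl⟩ := Finset.mem_image.1 hz
    rw [mul_add, key x hx x hx, key x hx _ (hsadj x hx), if_pos (Or.inl rfl), if_pos (Or.inr rfl)]
  · -- the blocks still add up to one
    have htot : ∀ y ∈ s, (∑ z ∈ s', z) * y = y := by
      intro y hy
      rw [Finset.sum_mul, Finset.sum_eq_single (y + adj σ M y)]
      · rw [key y hy y hy, if_pos (Or.inl rfl)]
      · intro z hz hne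
        obtain ⟨x, hx, rfl⟩ := Finset.mem_image.1 hz
        rw [key x hx y hy, if_neg]
        rintro (h | h)
        · exact hne (by rw [h])
        · apply hne; rw [h, hM.adj_adj, add_comm]
      · exact fun h => absurd (Finset.mem_image_of_mem _ hy) h
    calc ∑ z ∈ s', z = (∑ z ∈ s', z) * 1 := (mul_one _).symm
      _ = 1 := by rw [← hsum, Finset.mul_sum]; exact Finset.sum_congr rfl htot
  · intro g hg z hz
    obtain ⟨x, hx, rfl⟩ := Finset.mem_image.1 hz
    exact Finset.mem_image.2 ⟨glConj g x, hperm g hg x hx, by rw [hM.adj_glConj (hGM hg), map_add]⟩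
  · intro z hz
    obtain ⟨x, hx, rfl⟩ := Finset.mem_image.1 hz
    rw [hM.adj_add, hM.adj_adj, add_comm]

end H46
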