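import Cfsg.Agent.H46.ClsIdem
import Cfsg.Agent.H46.AschClifford

/-!
Commuting self-adjoint involutions of an alternating space span an algebra of dimension at most half
of the dimension.
-/

set_option autoImplicit false
set_option linter.style.haveILetI false
set_option linter.unusedSectionVars false
set_option maxHeartbeats 1000000

open Cfsg.Geo
open scoped Matrix MatrixGroups

namespace H46

variable {ι : Type} [Fintype ι] [DecidableEq ι] {F : Type*} [Field F] [Fintype F]

/-- In a commutative algebra in which c^q = c, every element times an atom is a scalar times it. -/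
theorem smul_of_atom {C : Type*} [CommRing C] [Algebra F C]
    (hpow : ∀ c : C, c ^ Fintype.card F = c) {e : C} (he : e * e = e) (he0 : e ≠ 0)
    (hatom : ∀ f : C, f * f = f → e * f = e ∨ e * f = 0) (c : C) : ∃ t : F, c * e = t • e := by
  have hprod : (∏ t : F, (c - algebraMap F C t)) = 0 := by
    classical
    have h1 : (∏ t : F, (Polynomial.X - Polynomial.C t)) = Polynomial.X ^ Fintype.card F - Polynomial.X := by
      have hmon : (Polynomial.X ^ Fintype.card F - Polynomial.X : Polynomial F).Monic :=
        Polynomial.monic_X_pow_sub (by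
          rw [Polynomial.degree_X]
          exact_mod_cast Fintype.one_lt_card)
      have := Polynomial.prod_multiset_X_sub_C_of_monic_of_roots_card_eq hmon (by
        rw [FiniteField.roots_X_pow_card_sub_X, FiniteField.X_pow_card_sub_X_natDegree_eq _ Fintype.one_lt_card]
        simp)
      rw [FiniteField.roots_X_pow_card_sub_X] at this
      exact this
    have h2 := congrArg (Polynomial.aeval c) h1
    simp only [map_prod, map_sub, map_pow, Polynomial.aeval_X, Polynomial.aeval_C, hpow, sub_self] at h2
    exact h2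
  by_contra hcon
  simp only [not_exists] at hcon
  have hne : ∀ t : F, (c - algebraMap F C t) * e ≠ 0 := by
    intro t h
    apply hcon t
    rw [Algebra.smul_def]
    linear_combination h
  have hq1 : 1 < Fintype.card F := Fintype.one_lt_card
  have hunit : ∀ t : F, (c - algebraMap F C t) ^ (Fintype.card F - 1) * e = e := by
    intro t
    set y := c - algebraMap F C t
    have hy : y ^ (Fintype.card F - 1) * y = y := by
      rw [← pow_succ, Nat.sub_add_cancel hq1.le, hpow]
    have hidem : (y ^ (Fintype.card F - 1)) * (y ^ (Fintype.card F - 1)) = y ^ (Fintype.card F - 1) := by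
      obtain ⟨j, hj⟩ : ∃ j, Fintype.card F - 1 = j + 1 := ⟨Fintype.card F - 2, by omega⟩
      rw [hj] at hy ⊢
      rw [pow_succ y j]
      calc y ^ j * y * (y ^ j * y) = y ^ j * (y ^ (j + 1) * y) := by ring
        _ = y ^ j * y := by rw [hy]
    rcases hatom _ hidem with h | h
    · rwa [mul_comm]
    · exfalso
      apply hne t
      show y * e = 0
      rw [← hy]
      calc y ^ (Fintype.card F - 1) * y * e = (e * y ^ (Fintype.card F - 1)) * y := by ring
        _ = 0 := by rw [h, zero_mul]
  have h3 : (∏ t : F, (c - algebraMap F C t) ^ (Fintype.card F - 1)) * e = e := by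
    classical
    have key : ∀ s : Finset F, (∏ t ∈ s, (c - algebraMap F C t) ^ (Fintype.card F - 1)) * e = e := by
      intro s
      induction s using Finset.induction_on with
      | empty => simp
      | insert a s ha ih => rw [Finset.prod_insert ha, mul_assoc, ih, hunit]
    exact key _
  rw [Finset.prod_pow, hprod, zero_pow (by omega), zero_mul] at h3
  exact he0 h3.symm

/-- The algebra spanned by commuting self-adjoint involutions of an alternating space over a prime
field of odd order. -/
theorem two_mul_finrank_le_of_involutions [Nonempty ι] {M : Matrix ι ι F}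
    (hM : CF (RingEquiv.refl F) M) {p : ℕ} [Fact p.Prime] [CharP F p] (hq : Fintype.card F = p)
    (hp : p ≠ 2) (S : Set (Matrix ι ι F)) (hcomm : ∀ a ∈ S, ∀ b ∈ S, a * b = b * a)
    (hsq : ∀ a ∈ S, a * a = 1) (hadj : ∀ a ∈ S, adj (RingEquiv.refl F) M a = a) :
    2 * Module.finrank F (Algebra.adjoin F S) ≤ Fintype.card ι := by
  classical
  set C := Algebra.adjoin F S with hC
  have hCc : ∀ x ∈ C, ∀ y ∈ C, x * y = y * x := by
    intro x hx y hy
    have h1 : ∀ a ∈ S, Commute a y := by
      intro a ha
      induction hy using Algebra.adjoin_induction with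
      | mem b hb => exact hcomm a ha b hb
      | algebraMap r => exact (Algebra.commutes r _).symm
      | add u v _ _ hu hv => exact hu.add_right hv
      | mul u v _ _ hu hv => exact hu.mul_right hv
    induction hx using Algebra.adjoin_induction with
    | mem b hb => exact h1 b hb
    | algebraMap r => exact Algebra.commutes r y
    | add u v _ _ hu hv => exact (Commute.add_left hu hv).eq
    | mul u v _ _ hu hv => exact (Commute.mul_left hu hv).eq
  have hsa : ∀ x ∈ C, adj (RingEquiv.refl F) M x = x := by
    intro x hx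
    induction hx using Algebra.adjoin_induction with
    | mem b hb => exact hadj b hb
    | algebraMap r => rw [hM.adj_algebraMap]; rfl
    | add u v _ _ hu hv => rw [hM.adj_add, hu, hv]
    | mul u v hu' hv' hu hv => rw [hM.adj_mul, hu, hv]; exact (hCc u hu' v hv').symm
  have hpodd : Odd p := (Fact.out : p.Prime).odd_of_ne_two hp
  have hpow : ∀ x ∈ C, x ^ p = x := by
    intro x hx
    induction hx using Algebra.adjoin_induction with
    | mem b hb =>
      obtain ⟨j, rfl⟩ := hpodd
      rw [pow_succ, pow_mul, sq, hsq b hb, one_pow, one_mul]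
    | algebraMap r =>
      rw [← map_pow, ← hq, FiniteField.pow_card]
    | add u v hu' hv' hu hv => rw [add_pow_char_of_commute _ (hCc u hu' v hv'), hu, hv]
    | mul u v hu' hv' hu hv => rw [Commute.mul_pow (hCc u hu' v hv'), hu, hv]
  letI : CommRing C :=
    { (inferInstance : Ring C) with mul_comm := fun a b => Subtype.ext (hCc _ a.2 _ b.2) }
  obtain ⟨s, hs1, hs2, hs3, hs4, hs5⟩ : ∃ s : Finset (Matrix ι ι F), (∀ x ∈ s, x ∈ C) ∧
      (∀ x ∈ s, x * x = x ∧ x ≠ 0) ∧
      (∀ x ∈ s, ∀ f ∈ C, f * f = f → x * f = x ∨ x * f = 0) ∧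
      (∀ x ∈ s, ∀ y ∈ s, x ≠ y → x * y = 0) ∧ ∑ x ∈ s, x = 1 := by
    by_cases hex : ∃ e ∈ C, e * e = e ∧ e ≠ 0 ∧ e ≠ 1
    · obtain ⟨s, -, hmem, horth, hsum⟩ := exists_atom_finset C hCc hex
      exact ⟨s, fun x hx => ((hmem x).1 hx).1, fun x hx => ⟨((hmem x).1 hx).2.1, ((hmem x).1 hx).2.2.1⟩,
        fun x hx => ((hmem x).1 hx).2.2.2, fun x hx y hy h => by rw [horth x hx y hy, if_neg h], hsum⟩
    · simp only [not_exists, not_and, not_not] at hex
      refine ⟨{1}, fun x hx => ?_, fun x hx => ?_, fun x hx f hf hff => ?_, fun x hx y hy h => ?_, by simp⟩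
      · rw [Finset.mem_singleton.1 hx]; exact one_mem C
      · rw [Finset.mem_singleton.1 hx]; exact ⟨one_mul 1, one_ne_zero⟩
      · rw [Finset.mem_singleton.1 hx, one_mul]
        by_cases hf0 : f = 0
        · exact Or.inr hf0
        · exact Or.inl (hex f hf hff hf0)
      · exact absurd ((Finset.mem_singleton.1 hx).trans (Finset.mem_singleton.1 hy).symm) h
  -- the atoms span
  have hle : (Subalgebra.toSubmodule C) ≤ Submodule.span F (s : Set (Matrix ι ι F)) := by
    intro c hc
    rw [← mul_one c, ← hs5, Finset.mul_sum]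
    refine Submodule.sum_mem _ fun x hx => ?_
    obtain ⟨t, ht⟩ := smul_of_atom (F := F) (C := C) (fun z => Subtype.ext (by
        rw [SubmonoidClass.coe_pow, hq]; exact hpow _ z.2))
      (e := ⟨x, hs1 x hx⟩) (Subtype.ext (hs2 x hx).1) (fun h => (hs2 x hx).2 (congrArg Subtype.val h))
      (fun f hf => (hs3 x hx f f.2 (congrArg Subtype.val hf)).imp (fun h => Subtype.ext h) (fun h => Subtype.ext h))
      ⟨c, hc⟩
    have h1 := congrArg Subtype.val ht
    simp only [MulMemClass.coe_mul, Subalgebra.coe_smul] at h1
    rw [h1]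
    exact Submodule.smul_mem _ _ (Submodule.subset_span hx)
  have hfin : Module.finrank F C ≤ s.card :=
    (Submodule.finrank_mono hle).trans (finrank_span_finset_le_card s)
  -- two independent vectors for each atom
  have hpair : ∀ x : s, ∃ u w : ι → F, (x : Matrix ι ι F) *ᵥ u = u ∧ (x : Matrix ι ι F) *ᵥ w = w ∧
      frm (RingEquiv.refl F) M u w ≠ 0 := by
    rintro ⟨x, hx⟩
    obtain ⟨hxx, hx0⟩ := hs2 x hx
    obtain ⟨v, hv⟩ : ∃ v, x *ᵥ v ≠ 0 := by
      by_contra hcon
      simp only [not_exists, not_not] at hcon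
      exact hx0 (Matrix.ext_of_mulVec_single fun i => by rw [hcon, Matrix.zero_mulVec])
    obtain ⟨w, hw⟩ := (hM.nondeg _ hv).2
    refine ⟨x *ᵥ v, x *ᵥ w, by rw [Matrix.mulVec_mulVec, hxx], by rw [Matrix.mulVec_mulVec, hxx], ?_⟩
    rw [hM.frm_adj, hsa x (hs1 x hx), Matrix.mulVec_mulVec, hxx]
    rwa [hM.frm_adj, hsa x (hs1 x hx)] at hw
  choose u w hu hw huw using hpair
  let vec : s × Fin 2 → (ι → F) := fun j => ![u j.1, w j.1] j.2
  have hli : LinearIndependent F vec := by
    rw [Fintype.linearIndependent_iff]
    intro g hg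
    have hblock : ∀ x : s, g (x, 0) • u x + g (x, 1) • w x = 0 := by
      intro x
      have h1 := congrArg (fun z => (x : Matrix ι ι F) *ᵥ z) hg
      simp only [Matrix.mulVec_sum, Matrix.mulVec_smul, Matrix.mulVec_zero, Fintype.sum_prod_type,
        Fin.sum_univ_two, vec, Matrix.cons_val_zero, Matrix.cons_val_one] at h1
      rw [Finset.sum_eq_single x] at h1
      · rwa [Matrix.mulVec_add, Matrix.mulVec_smul, Matrix.mulVec_smul, hu, hw] at h1
      · intro y _ hyx
        have h0 : (x : Matrix ι ι F) * (y : Matrix ι ι F) = 0 :=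
          hs4 _ x.2 _ y.2 fun h => hyx (Subtype.ext h).symm
        rw [Matrix.mulVec_add, Matrix.mulVec_smul, Matrix.mulVec_smul, ← hu y, ← hw y,
          Matrix.mulVec_mulVec, Matrix.mulVec_mulVec, h0, Matrix.zero_mulVec,
          Matrix.zero_mulVec, smul_zero, smul_zero, add_zero]
      · simp
    rintro ⟨x, b⟩
    have h1 := congrArg (fun z => frm (RingEquiv.refl F) M z (w x)) (hblock x)
    have h2 := congrArg (fun z => frm (RingEquiv.refl F) M (u x) z) (hblock x)
    simp only [frm_add_left, frm_smul_left, frm_zero_left, hM.alt rfl, mul_zero, add_zero] at h1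
    simp only [frm_add_right, frm_smul_right, frm_zero_right, hM.alt rfl, mul_zero, zero_add,
      RingEquiv.refl_apply] at h2
    fin_cases b
    · exact (mul_eq_zero.1 h1).resolve_right (huw x)
    · exact (mul_eq_zero.1 h2).resolve_right (huw x)
  have := hli.fintype_card_le_finrank
  rw [Fintype.card_prod, Fintype.card_coe, Fintype.card_fin, Module.finrank_fintype_fun_eq_card] at this
  omega

end H46
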