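import Cfsg.Agent.H46.ClsForm
import Cfsg.Agent.H46.AschTensor

/-!
The possible structures preserved by a group of similitudes of a symplectic or Hermitian form.
-/

set_option autoImplicit false
set_option linter.style.haveILetI false
set_option linter.unusedSectionVars false
set_option maxHeartbeats 800000

open Cfsg.Geo
open scoped Matrix Kronecker MatrixGroups

namespace H46

variable {ι : Type} [Fintype ι] [DecidableEq ι] {F : Type*} [Field F] [Fintype F]

/-- The Gram matrix seen in coordinates (e, P). -/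
def coordGram {κ : Type} (σ : F ≃+* F) (M : Matrix ι ι F) (e : ι ≃ κ) (P : GL ι F) : Matrix κ κ F :=
  ((P : Matrix ι ι F)ᵀ * M * (P : Matrix ι ι F).map σ).submatrix e.symm e.symm

/-- Structures preserved by a group of similitudes. -/
inductive ClsGeometric (σ : F ≃+* F) (M : Matrix ι ι F) (G : Subgroup (GL ι F)) : Prop
  | totSing (W : Submodule F (ι → F)) (hb : W ≠ ⊥) (ht : W ≠ ⊤)
      (hts : IsTotallySingularFor (frm σ M) W) (h : G ≤ subspaceStabilizer W)
  | nondegSub (W : Submodule F (ι → F)) (hb : W ≠ ⊥) (ht : W ≠ ⊤)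
      (hnd : IsNondegenerateOn (frm σ M) W) (hdim : 2 * Module.finrank F W < Fintype.card ι)
      (h : G ≤ subspaceStabilizer W)
  | decomp (t m : ℕ) (D : Fin t → Submodule F (ι → F))
      (hD : IsNondegenerateMDecomposition (frm σ M) m D) (h : G ≤ decompositionStabilizer D)
  | tsPair (m : ℕ) (D : Fin 2 → Submodule F (ι → F)) (hD : IsMDecomposition m D)
      (hts : ∀ i, IsTotallySingularFor (frm σ M) (D i)) (h : G ≤ decompositionStabilizer D)
  | selfField (r : ℕ) (K : Subalgebra F (Matrix ι ι F)) (hσ : σ = RingEquiv.refl F) (hr : r.Prime)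
      (hK : IsFieldSubalgebra r K) (hsa : IsSelfAdjointFor (frm σ M) K)
      (halt : ∀ k ∈ K, ∀ v, frm σ M (k *ᵥ v) v = 0) (hdvd : 2 * r ∣ Fintype.card ι)
      (h : G ≤ subalgebraNormalizer K)
  | twistField (r : ℕ) (K : Subalgebra F (Matrix ι ι F)) (hr : r.Prime)
      (hK : IsFieldSubalgebra r K) (hcl : IsAdjointClosedFor (frm σ M) K)
      (hsymp : σ = RingEquiv.refl F →
        r = 2 ∧ Odd (Fintype.card F) ∧ ¬ IsSelfAdjointFor (frm σ M) K)
      (hunit : σ ≠ RingEquiv.refl F → Odd r) (hdvd : r ∣ Fintype.card ι)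
      (h : G ≤ subalgebraNormalizer K)
  | tensor (n₁ n₂ : ℕ) (e : ι ≃ Fin n₁ × Fin n₂) (P : GL ι F)
      (M₁ : Matrix (Fin n₁) (Fin n₁) F) (M₂ : Matrix (Fin n₂) (Fin n₂) F) (h1 : 2 ≤ n₁) (h2 : 2 ≤ n₂)
      (hgram : coordGram σ M e P = M₁ ⊗ₖ M₂) (hM₁ : CF σ M₁) (hM₂ : IsUnit M₂)
      (hsymp : σ = RingEquiv.refl F → M₂ᵀ = M₂ ∧ Odd (Fintype.card F) ∧ 3 ≤ n₂)
      (hunit : σ ≠ RingEquiv.refl F → CF σ M₂ ∧ n₁ < n₂)
      (h : G ≤ tensorProductSubgroup n₁ n₂ e P)
  | subfield (F₁ : Subfield F) (r : ℕ) (P : GL ι F) (ζ : F) (hr : r.Prime)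
      (hc : Fintype.card F = Nat.card F₁ ^ r) (hζ : ζ ≠ 0)
      (hrat : IsFormRationalStructure (frm σ M) F₁ ζ P) (h : G ≤ subfieldSubgroup F₁ P)
  | sympType (r k p e : ℕ) (R : Subgroup (GL ι F)) (hR : IsSymplecticTypeGroup r R)
      (habs : ActsAbsolutelyIrreducibly (matrixSet R))
      (hiso : ∀ x ∈ R, ∀ u v, frm σ M ((x : Matrix ι ι F) *ᵥ u) ((x : Matrix ι ι F) *ᵥ v) =
        frm σ M u v)
      (hk : 1 ≤ k) (hn : Fintype.card ι = r ^ k) (hp : p.Prime) (hchar : CharP F p)
      (hq : Fintype.card F = p ^ e) (hrp : r ≠ p)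
      (hsymp : σ = RingEquiv.refl F → r = 2 ∧ e = 1 ∧ Nat.card (Subgroup.center R) = 2 ∧
        Nat.card R = 2 ^ (1 + 2 * k) ∧ IsOfMinusType k R)
      (hunit : σ ≠ RingEquiv.refl F →
        IsMinimalFieldFor (Nat.card (Subgroup.center R)) p e F ∧ Even e ∧
        Nat.card (Subgroup.center R) ∣ p ^ (e / 2) + 1 ∧
        ((Odd r ∧ Nat.card (Subgroup.center R) = r ∧ Nat.card R = r ^ (1 + 2 * k)) ∨
         (r = 2 ∧ Nat.card (Subgroup.center R) = 4 ∧ Nat.card R = 2 ^ (2 + 2 * k))))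
      (h : G ≤ subgroupNormalizer R)
  | power (a t : ℕ) (e : ι ≃ (Fin t → Fin a)) (P : GL ι F) (M₁ : Matrix (Fin a) (Fin a) F)
      (ha : 2 ≤ a) (ht : 2 ≤ t) (c : F) (hc : c ≠ 0)
      (hgram : coordGram σ M e P = c • ptm (fun _ => M₁)) (hM₁ : CF σ M₁)
      (hsymp : σ = RingEquiv.refl F → Odd (Fintype.card F) ∧ Odd t ∧ 3 ≤ t ∧
        ¬ (Fintype.card F = 3 ∧ a = 2))
      (hunit : σ ≠ RingEquiv.refl F → 3 ≤ a)
      (h : G ≤ tensorWreathSubgroup a t e P)
  | quad (Q : (ι → F) → F) (hσ : σ = RingEquiv.refl F) (heven : ¬ Odd (Fintype.card F))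
      (hQ : IsNondegenerateQuadraticForm Q)
      (hpol : ∀ u v, QuadraticMap.polar Q u v = frm σ M u v) (h : G ≤ quadSimilarityGroup Q)

theorem ClsGeometric.mono {σ : F ≃+* F} {M : Matrix ι ι F} {G H : Subgroup (GL ι F)} (hHG : H ≤ G)
    (h : ClsGeometric σ M G) : ClsGeometric σ M H := by
  cases h with
  | totSing W hb ht hts h => exact .totSing W hb ht hts (hHG.trans h)
  | nondegSub W hb ht hnd hd h => exact .nondegSub W hb ht hnd hd (hHG.trans h)
  | decomp t m D hD h => exact .decomp t m D hD (hHG.trans h)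
  | tsPair m D hD hts h => exact .tsPair m D hD hts (hHG.trans h)
  | selfField r K hσ hr hK hsa halt hd h => exact .selfField r K hσ hr hK hsa halt hd (hHG.trans h)
  | twistField r K hr hK hcl hs hu hd h => exact .twistField r K hr hK hcl hs hu hd (hHG.trans h)
  | tensor n₁ n₂ e P M₁ M₂ h1 h2 hg hM₁ hM₂ hs hu h =>
    exact .tensor n₁ n₂ e P M₁ M₂ h1 h2 hg hM₁ hM₂ hs hu (hHG.trans h)
  | subfield F₁ r P ζ hr hc hζ hrat h => exact .subfield F₁ r P ζ hr hc hζ hrat (hHG.trans h)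
  | sympType r k p e R hR habs hiso hk hn hp hchar hq hrp hs hu h =>
    exact .sympType r k p e R hR habs hiso hk hn hp hchar hq hrp hs hu (hHG.trans h)
  | power a t e P M₁ ha ht c hc hg hM₁ hs hu h =>
    exact .power a t e P M₁ ha ht c hc hg hM₁ hs hu (hHG.trans h)
  | quad Q hσ he hQ hp h => exact .quad Q hσ he hQ hp (hHG.trans h)

theorem ClsGeometric.of_invariant {σ : F ≃+* F} {M : Matrix ι ι F} (hM : CF σ M)
    {G : Subgroup (GL ι F)} (hG : G ≤ similarityGroup (frm σ M)) {W : Submodule F (ι → F)}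
    (hb : W ≠ ⊥) (ht : W ≠ ⊤) (h : G ≤ subspaceStabilizer W) : ClsGeometric σ M G := by
  rcases hM.reducible_cases hG hb ht h with ⟨U, h1, h2, h3, h4⟩ | ⟨U, h1, h2, h3, h4, h5⟩ |
    ⟨m, D, h1, h2⟩
  · exact .totSing U h1 h2 h3 h4
  · exact .nondegSub U h1 h2 h3 h4 h5
  · exact .decomp 2 m D h1 h2

theorem frm_coords {κ : Type} [Fintype κ] [DecidableEq κ] {σ : F ≃+* F} (M : Matrix ι ι F)
    (e : ι ≃ κ) (P : GL ι F) (x y : κ → F) :
    frm σ M ((P : Matrix ι ι F) *ᵥ (x ∘ e)) ((P : Matrix ι ι F) *ᵥ (y ∘ e)) =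
      frm σ (coordGram σ M e P) x y := by
  rw [frm, formOfGram_act]
  simp only [frm, formOfGram, coordGram, Matrix.submatrix_apply, Function.comp_apply]
  rw [← e.symm.sum_comp]
  refine Finset.sum_congr rfl fun a _ => ?_
  rw [← e.symm.sum_comp]
  simp

theorem gramMatrix_frm {σ : F ≃+* F} (M : Matrix ι ι F) : gramMatrix (frm σ M) = M := by
  ext i j
  exact formOfGram_single σ M i j

/-- The finite-field automorphisms preserve every subfield. -/
theorem ringEquiv_mem_subfield (σ : F ≃+* F) (F₁ : Subfield F) {x : F} (hx : x ∈ F₁) : σ x ∈ F₁ := by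
  classical
  haveI : Fintype F₁ := Fintype.ofFinite F₁
  have h1 : 1 < Fintype.card F₁ := Fintype.one_lt_card
  have hne := FiniteField.X_pow_card_sub_X_ne_zero F h1
  set S : Finset F := (Polynomial.X ^ Fintype.card F₁ - Polynomial.X : Polynomial F).roots.toFinset
    with hS
  have hmem : ∀ y : F, y ∈ S ↔ y ^ Fintype.card F₁ = y := fun y => by
    simp [hS, hne, sub_eq_zero]
  have hsub : Finset.univ.image (Subtype.val : F₁ → F) ⊆ S := by
    intro y hy
    obtain ⟨z, -, rfl⟩ := Finset.mem_image.1 hy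
    rw [hmem, ← SubmonoidClass.coe_pow, FiniteField.pow_card]
  have heq : Finset.univ.image (Subtype.val : F₁ → F) = S := by
    refine Finset.eq_of_subset_of_card_le hsub ?_
    rw [Finset.card_image_of_injective _ Subtype.val_injective, Finset.card_univ]
    refine (Multiset.toFinset_card_le _).trans ?_
    exact (Polynomial.card_roots' _).trans (FiniteField.X_pow_card_sub_X_natDegree_eq F h1).le
  have : σ x ∈ S := by
    rw [hmem, ← map_pow]
    congr 1
    rw [← hmem, ← heq]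
    exact Finset.mem_image.2 ⟨⟨x, hx⟩, Finset.mem_univ _, rfl⟩
  rw [← heq] at this
  obtain ⟨z, -, hz⟩ := Finset.mem_image.1 this
  exact hz ▸ z.2

/-- Two solutions of the twisted Gram equations are proportional. -/
theorem gram_twisted_unique {σ : F ≃+* F} {M M' : Matrix ι ι F} {S : Set (Matrix ι ι F)}
    (hS : Algebra.adjoin F S = ⊤) (hM : IsUnit M)
    (h : ∀ s ∈ S, IsUnit s ∧ ∃ c : F, sᵀ * M * s.map σ = c • M ∧ sᵀ * M' * s.map σ = c • M') :
    ∃ c : F, M' = c • M := by
  rcases isEmpty_or_nonempty ι with hι | hι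
  · exact ⟨0, Subsingleton.elim _ _⟩
  have hd : IsUnit M.det := (Matrix.isUnit_iff_isUnit_det M).1 hM
  set X : Matrix ι ι F := M⁻¹ * M' with hX
  have hcomm : ∀ s ∈ S, Commute (X.map σ.symm) s := by
    intro s hs
    obtain ⟨hsu, c, h1, h2⟩ := h s hs
    have hc0 : c ≠ 0 := by
      rintro rfl
      rw [zero_smul] at h1
      have hdet := congrArg Matrix.det h1
      have hsd := ((Matrix.isUnit_iff_isUnit_det s).1 hsu).ne_zero
      rw [Matrix.det_mul, Matrix.det_mul, Matrix.det_transpose, Matrix.det_zero] at hdet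
      · have : (s.map σ).det = σ s.det := (RingHom.map_det σ.toRingHom s).symm
        rw [this] at hdet
        rcases mul_eq_zero.1 hdet with h3 | h3
        · rcases mul_eq_zero.1 h3 with h4 | h4
          · exact hsd h4
          · exact hd.ne_zero h4
        · exact hsd ((map_eq_zero σ).1 h3)
    have h5 : X * s.map σ = s.map σ * X := by
      have e1 : M⁻¹ * sᵀ * M * s.map σ = c • 1 := by
        rw [mul_assoc M⁻¹, mul_assoc M⁻¹, h1, Matrix.mul_smul, Matrix.nonsing_inv_mul _ hd]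
      have e2 : s.map σ * (M⁻¹ * sᵀ * M) = c • 1 := by
        have h6 : (c⁻¹ • (M⁻¹ * sᵀ * M)) * s.map σ = 1 := by
          rw [Matrix.smul_mul, e1, smul_smul, inv_mul_cancel₀ hc0, one_smul]
        have h7 := mul_eq_one_comm.1 h6
        rw [Matrix.mul_smul, inv_smul_eq_iff₀ hc0] at h7
        exact h7
      have e3 : s.map σ * M⁻¹ * sᵀ = c • M⁻¹ := by
        have := congrArg (fun z => z * M⁻¹) e2
        simpa only [mul_assoc, Matrix.mul_nonsing_inv _ hd, mul_one, Matrix.smul_mul, one_mul] using this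
      have e4 : s.map σ * M⁻¹ * (sᵀ * M' * s.map σ) = c • (M⁻¹ * (M' * s.map σ)) := by
        rw [← mul_assoc, ← mul_assoc, e3, Matrix.smul_mul, Matrix.smul_mul, mul_assoc]
      rw [h2, Matrix.mul_smul] at e4
      have := smul_right_injective _ hc0 e4
      rw [hX, mul_assoc, ← this, mul_assoc]
    show X.map σ.symm * s = s * X.map σ.symm
    have := congrArg (fun z : Matrix ι ι F => z.map σ.symm) h5
    simp only [Matrix.map_mul] at this
    have hss : (s.map σ).map σ.symm = s := by ext i j; simp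
    rw [hss] at this
    exact this
  obtain ⟨c, hc⟩ := eq_scalar_of_commute_generators hS hcomm
  refine ⟨σ c, ?_⟩
  have hXc : X = σ c • (1 : Matrix ι ι F) := by
    have := congrArg (fun z : Matrix ι ι F => z.map σ) hc
    ext i j
    have := congrFun (congrFun this i) j
    simpa [Matrix.one_apply, apply_ite σ] using this
  have := congrArg (fun z => M * z) hXc
  simpa [hX, ← mul_assoc, Matrix.mul_nonsing_inv _ hd] using this

end H46
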