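import Cfsg.Agent.H46.AschLinear
import Cfsg.Agent.H46.ClsOutcome

/-!
A non-simple minimal normal subgroup yields commuting full matrix algebras closed under the adjoint.
-/

set_option autoImplicit false
set_option linter.style.haveILetI false
set_option linter.unusedSectionVars false
set_option maxHeartbeats 1000000

open Cfsg.Geo
open scoped Matrix Kronecker MatrixGroups commutatorElement

namespace H46

variable {ι : Type} [Fintype ι] [DecidableEq ι] {F : Type*} [Field F] [Fintype F]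

/-- The non-simple case. -/
theorem tensor_data_of_not_simple [Nonempty ι] {σ : F ≃+* F} {Mf : Matrix ι ι F} (hMf : CF σ Mf)
    {G N : Subgroup (GL ι F)}
    (hnorm : ∀ g ∈ G, ∀ x ∈ N, g * x * g⁻¹ ∈ N) (hNG : N ≤ G)
    (hZN : scalars ι F ≤ N)
    (hmin : ∀ M : Subgroup (GL ι F), scalars ι F ≤ M → M ≤ N →
      (∀ g ∈ G, ∀ x ∈ M, g * x * g⁻¹ ∈ M) → M = scalars ι F ∨ M = N)
    (hnab : ¬ ⁅N, N⁆ ≤ scalars ι F)
    (hspan : Algebra.adjoin F (matrixSet N) = ⊤)
    (hns : ∃ M : Subgroup (GL ι F), scalars ι F ≤ M ∧ M ≤ N ∧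
      (∀ x ∈ N, ∀ y ∈ M, x * y * x⁻¹ ∈ M) ∧ M ≠ scalars ι F ∧ M ≠ N)
    (hGM : G ≤ similarityGroup (frm σ Mf)) :
    ∃ (k a : ℕ) (φ : Fin k → (Matrix (Fin a) (Fin a) F →ₐ[F] Matrix ι ι F)),
      2 ≤ k ∧ 2 ≤ a ∧ (∀ i j, i ≠ j → ∀ X Y, Commute (φ i X) (φ j Y)) ∧
      Algebra.adjoin F (⋃ i, Set.range (φ i)) = ⊤ ∧
      (∀ i X, ∃ Y, adj σ Mf (φ i X) = φ i Y) ∧
      (∀ g ∈ G, ∃ s : Equiv.Perm (Fin k), ∀ i X, ∃ Y, glConj g (φ i X) = φ (s i) Y) ∧
      (∀ i j, ∃ g ∈ G, ∃ s : Equiv.Perm (Fin k), s i = j ∧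
        ∀ i X, ∃ Y, glConj g (φ i X) = φ (s i) Y) ∧
      ∀ x ∈ N, ∀ i X, ∃ Y, glConj x (φ i X) = φ i Y := by
  classical
  haveI : Finite (Subgroup (GL ι F)) := inferInstance
  set 𝒮 := {M : Subgroup (GL ι F) | scalars ι F ≤ M ∧ M ≤ N ∧
      (∀ x ∈ N, ∀ y ∈ M, x * y * x⁻¹ ∈ M) ∧ M ≠ scalars ι F ∧ M ≠ N} with h𝒮
  obtain ⟨M₀, hM₀⟩ := (Set.toFinite 𝒮).exists_minimal hns
  -- conjugates
  let cj : GL ι F → Subgroup (GL ι F) := fun g => M₀.map (MulAut.conj g).toMonoidHom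
  have hcj : ∀ g x, x ∈ cj g ↔ g⁻¹ * x * g ∈ M₀ := by
    intro g x
    constructor
    · rintro ⟨y, hy, rfl⟩
      simpa [mul_assoc] using hy
    · intro h
      exact ⟨_, h, by simp [mul_assoc]⟩
  obtain ⟨⟨hM0Z, hM0N, hM0n, hM0ne, hM0ne'⟩, hM0min⟩ := hM₀
  set 𝓜 : Set (Subgroup (GL ι F)) := {M | ∃ g ∈ G, M = cj g}
  have hmem : ∀ M ∈ 𝓜, scalars ι F ≤ M ∧ M ≤ N ∧ (∀ x ∈ N, ∀ y ∈ M, x * y * x⁻¹ ∈ M) ∧
      (∀ K ∈ 𝒮, K ≤ M → K = M) ∧ M ≠ scalars ι F ∧ M ≠ N := by
    rintro _ ⟨g, hg, rfl⟩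
    refine ⟨fun z hz => (hcj g z).2 ?_, ?_, ?_, ?_, ?_, ?_⟩
    · rw [show g⁻¹ * z * g = z by rw [mul_assoc, scalars_mul_comm hz g, inv_mul_cancel_left]]
      exact hM0Z hz
    · intro x hx
      have := hnorm g hg _ (hM0N ((hcj g x).1 hx))
      simpa [mul_assoc] using this
    · intro x hx y hy
      rw [hcj] at hy ⊢
      have := hM0n _ (by simpa using hnorm g⁻¹ (inv_mem hg) x hx) _ hy
      simpa [mul_assoc] using this
    · intro K hK hKM
      let K' := K.map (MulAut.conj g⁻¹).toMonoidHom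
      have hK' : ∀ x, x ∈ K' ↔ g * x * g⁻¹ ∈ K := by
        intro x
        constructor
        · rintro ⟨y, hy, rfl⟩
          simpa [mul_assoc] using hy
        · intro h
          exact ⟨_, h, by simp [mul_assoc]⟩
      have hle : K' ≤ M₀ := fun x hx => by
        have := (hcj g _).1 (hKM ((hK' x).1 hx))
        simpa [mul_assoc] using this
      have hKS : K' ∈ 𝒮 := by
        refine ⟨fun z hz => (hK' z).2 (hK.1 ?_), hle.trans hM0N, ?_, ?_, ?_⟩
        · rw [← scalars_mul_comm hz g, mul_inv_cancel_right]; exact hz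
        · intro x hx y hy
          rw [hK'] at hy ⊢
          have := hK.2.2.1 _ (hnorm g hg x hx) _ hy
          simpa [mul_assoc] using this
        · intro h
          apply hK.2.2.2.1
          refine le_antisymm (fun x hx => ?_) hK.1
          have : g⁻¹ * x * g ∈ scalars ι F := h ▸ (hK' _).2 (by simpa [mul_assoc] using hx)
          have := (scalars_normal).conj_mem _ this g
          simpa [mul_assoc] using this
        · exact fun h => hM0ne' (le_antisymm hM0N (h ▸ hle))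
      refine le_antisymm hKM fun x hx => ?_
      have := (hK' _).1 (hM0min hKS hle ((hcj g x).1 hx))
      simpa [mul_assoc] using this
    · intro h
      apply hM0ne
      refine le_antisymm (fun x hx => ?_) hM0Z
      have : g * x * g⁻¹ ∈ scalars ι F := h ▸ (hcj g _).2 (by simpa [mul_assoc] using hx)
      have := (scalars_normal).conj_mem _ this g⁻¹
      simpa [mul_assoc] using this
    · intro h
      apply hM0ne'
      refine le_antisymm hM0N fun x hx => ?_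
      have := (hcj g _).1 (h ▸ hnorm g hg x hx)
      simpa [mul_assoc] using this
  have hM0mem : M₀ ∈ 𝓜 := ⟨1, one_mem G, SetLike.ext fun x => by rw [hcj]; simp⟩
  have hGperm : ∀ g ∈ G, ∀ M ∈ 𝓜, M.map (MulAut.conj g).toMonoidHom ∈ 𝓜 := by
    rintro g hg _ ⟨g', hg', rfl⟩
    refine ⟨g * g', mul_mem hg hg', ?_⟩
    simp only [cj, Subgroup.map_map]
    congr 1
    ext x
    simp [mul_assoc]
  -- sup is N
  have hsup : scalars ι F ⊔ ⨆ M : 𝓜, (M : Subgroup (GL ι F)) = N := by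
    refine (hmin _ le_sup_left (sup_le hZN (iSup_le fun M : 𝓜 => (hmem M M.2).2.1)) ?_).resolve_left ?_
    · intro g hg
      have hle : (scalars ι F ⊔ ⨆ M : 𝓜, (M : Subgroup (GL ι F))).map (MulAut.conj g).toMonoidHom ≤
          scalars ι F ⊔ ⨆ M : 𝓜, (M : Subgroup (GL ι F)) := by
        rw [Subgroup.map_sup, Subgroup.map_iSup]
        refine sup_le_sup ?_ (iSup_le fun M => le_iSup_of_le ⟨_, hGperm g hg M M.2⟩ le_rfl)
        rintro _ ⟨z, hz, rfl⟩
        exact (scalars_normal).conj_mem z hz g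
      intro x hx
      exact hle ⟨x, hx, rfl⟩
    · intro h
      exact hM0ne (le_antisymm (((le_iSup (fun M : 𝓜 => (M : Subgroup (GL ι F))) ⟨M₀, hM0mem⟩).trans
        le_sup_right).trans h.le) hM0Z)
  -- distinct members meet in scalars and commute modulo scalars
  have hcommZ : ∀ M ∈ 𝓜, ∀ M' ∈ 𝓜, M ≠ M' → ∀ x ∈ M, ∀ y ∈ M', x * y * x⁻¹ * y⁻¹ ∈ scalars ι F := by
    intro M hM M' hM' hne x hx y hy
    obtain ⟨hMZ, hMN, hMn, hMmin, -, hMN'⟩ := hmem M hM
    obtain ⟨hM'Z, hM'N, hM'n, hM'min, hM'ne, hM'N'⟩ := hmem M' hM'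
    have hmm : x * y * x⁻¹ * y⁻¹ ∈ M ⊓ M' := by
      refine Subgroup.mem_inf.2 ⟨?_, mul_mem (hM'n x (hMN hx) y hy) (inv_mem hy)⟩
      rw [show x * y * x⁻¹ * y⁻¹ = x * (y * x⁻¹ * y⁻¹) by group]
      exact mul_mem hx (hMn y (hM'N hy) _ (inv_mem hx))
    by_cases hz : M ⊓ M' = scalars ι F
    · exact hz ▸ hmm
    exfalso
    have hS : M ⊓ M' ∈ 𝒮 := ⟨le_inf hMZ hM'Z, inf_le_left.trans hMN,
      fun a ha b hb => ⟨hMn a ha b hb.1, hM'n a ha b hb.2⟩, hz,
      fun h => hMN' (le_antisymm hMN (h.ge.trans inf_le_left))⟩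
    exact hne ((hMmin _ hS inf_le_left).symm.trans (hM'min _ hS inf_le_right))
  -- D M = [M, M] is perfect and non-scalar
  have hDns : ∀ M ∈ 𝓜, ¬ ⁅M, M⁆ ≤ scalars ι F := by
    intro M hM hle
    obtain ⟨g, hg, rfl⟩ := hM
    have h0 : ⁅M₀, M₀⁆ ≤ scalars ι F := by
      rw [Subgroup.commutator_le]
      intro x hx y hy
      have h1 := hle (Subgroup.commutator_mem_commutator
        (show g * x * g⁻¹ ∈ cj g from ⟨x, hx, rfl⟩) (show g * y * g⁻¹ ∈ cj g from ⟨y, hy, rfl⟩))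
      have := (scalars_normal).conj_mem _ h1 g⁻¹
      simpa [commutatorElement_def, mul_assoc] using this
    apply hnab
    have hall : ∀ M ∈ 𝓜, ∀ M' ∈ 𝓜, ∀ x ∈ M, ∀ y ∈ M', x * y * x⁻¹ * y⁻¹ ∈ scalars ι F := by
      intro M hM M' hM' x hx y hy
      by_cases hMM : M = M'
      · subst hMM
        obtain ⟨g', hg', rfl⟩ := hM
        have h1 := h0 (Subgroup.commutator_mem_commutator ((hcj g' x).1 hx) ((hcj g' y).1 hy))
        have := (scalars_normal).conj_mem _ h1 g'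
        simpa [commutatorElement_def, mul_assoc] using this
      · exact hcommZ M hM M' hM' hMM x hx y hy
    -- pass to the quotient
    let π := QuotientGroup.mk' (scalars ι F)
    have hmk : ∀ x y, x * y * x⁻¹ * y⁻¹ ∈ scalars ι F → π y * π x = π x * π y := fun x y h => by
      have : π (x * y * x⁻¹ * y⁻¹) = 1 := (QuotientGroup.eq_one_iff _).2 h
      rw [map_mul, map_mul, map_mul, map_inv, map_inv, mul_inv_eq_one, mul_inv_eq_iff_eq_mul] at this
      exact this.symm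
    set U : Set (GL ι F ⧸ scalars ι F) := ⋃ M : 𝓜, π '' (M : Subgroup (GL ι F))
    have hU : ∀ u ∈ U, ∀ v ∈ U, u * v = v * u := by
      rintro _ ⟨_, ⟨⟨M, hM⟩, rfl⟩, x, hx, rfl⟩ _ ⟨_, ⟨⟨M', hM'⟩, rfl⟩, y, hy, rfl⟩
      exact (hmk x y (hall M hM M' hM' x hx y hy)).symm
    have hNU : N.map π ≤ Subgroup.centralizer U := by
      rw [← hsup, Subgroup.map_sup, Subgroup.map_iSup]
      refine sup_le ?_ (iSup_le fun M => ?_)
      · rintro _ ⟨z, hz, rfl⟩
        rw [show π z = 1 from (QuotientGroup.eq_one_iff _).2 hz]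
        exact one_mem _
      · rintro _ ⟨x, hx, rfl⟩
        exact Subgroup.mem_centralizer_iff.2 fun u hu => hU u hu _ (Set.mem_iUnion.2 ⟨M, x, hx, rfl⟩)
    have hNN : N.map π ≤ Subgroup.centralizer (N.map π : Set (GL ι F ⧸ scalars ι F)) := by
      conv_lhs => rw [← hsup, Subgroup.map_sup, Subgroup.map_iSup]
      refine sup_le ?_ (iSup_le fun M => ?_)
      · rintro _ ⟨z, hz, rfl⟩
        rw [show π z = 1 from (QuotientGroup.eq_one_iff _).2 hz]
        exact one_mem _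
      · rintro _ ⟨x, hx, rfl⟩
        exact Subgroup.mem_centralizer_iff.2 fun v hv =>
          (Subgroup.mem_centralizer_iff.1 (hNU hv) _ (Set.mem_iUnion.2 ⟨M, x, hx, rfl⟩)).symm
    rw [Subgroup.commutator_le]
    intro x hx y hy
    have h1 : π x * π y = π y * π x :=
      Subgroup.mem_centralizer_iff.1 (hNN ⟨y, hy, rfl⟩) _ ⟨x, hx, rfl⟩
    have : π ⁅x, y⁆ = 1 := by
      rw [map_commutatorElement, commutatorElement_eq_one_iff_mul_comm]; exact h1
    exact (QuotientGroup.eq_one_iff _).1 this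
  have hDsup : ∀ M ∈ 𝓜, ⁅M, M⁆ ⊔ scalars ι F = M := by
    intro M hM
    obtain ⟨hMZ, hMN, hMn, hMmin, hMne, hMN'⟩ := hmem M hM
    have hle : ⁅M, M⁆ ⊔ scalars ι F ≤ M := sup_le (Subgroup.commutator_le_self M) hMZ
    by_cases hz : ⁅M, M⁆ ⊔ scalars ι F = scalars ι F
    · exact absurd (le_sup_left.trans hz.le) (hDns M hM)
    refine hMmin _ ⟨le_sup_right, hle.trans hMN, fun x hx => conj_mem_sup_scalars
      (conj_mem_commutator fun y hy => hMn x hx y hy), hz,
      fun h => hMN' (le_antisymm hMN (h.ge.trans hle))⟩ hle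
  have hDperf : ∀ M ∈ 𝓜, ⁅⁅M, M⁆, ⁅M, M⁆⁆ = ⁅M, M⁆ := fun M hM => by
    rw [← commutator_sup_scalars ⁅M, M⁆, hDsup M hM]
  have hDcomm : ∀ M ∈ 𝓜, ∀ M' ∈ 𝓜, M ≠ M' → ∀ x ∈ ⁅M, M⁆, ∀ y ∈ ⁅M', M'⁆, x * y = y * x :=
    fun M hM M' hM' hne x hx => commute_of_perfect (hDperf M' hM') fun y hy =>
      hcommZ M hM M' hM' hne x (Subgroup.commutator_le_self M hx) y
        (Subgroup.commutator_le_self M' hy)
  -- algebras
  let A : Subgroup (GL ι F) → Subalgebra F (Matrix ι ι F) := fun M =>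
    Algebra.adjoin F (matrixSet ⁅M, M⁆)
  have hAcomm : ∀ M ∈ 𝓜, ∀ M' ∈ 𝓜, M ≠ M' → ∀ X ∈ A M, ∀ Y ∈ A M', Commute X Y := by
    intro M hM M' hM' hne X hX Y hY
    have h1 : ∀ s ∈ matrixSet ⁅M, M⁆, Commute s Y := by
      rintro _ ⟨x, hx, rfl⟩
      induction hY using Algebra.adjoin_induction with
      | mem y hy =>
        obtain ⟨y, hy, rfl⟩ := hy
        exact congrArg Units.val (hDcomm M hM M' hM' hne x hx y hy)
      | algebraMap r => exact (Algebra.commutes r _).symm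
      | add y z _ _ hy hz => exact hy.add_right hz
      | mul y z _ _ hy hz => exact hy.mul_right hz
    induction hX using Algebra.adjoin_induction with
    | mem y hy => exact h1 y hy
    | algebraMap r => exact Algebra.commutes r Y
    | add y z _ _ hy hz => exact hy.add_left hz
    | mul y z _ _ hy hz => exact hy.mul_left hz
  have hgen : Algebra.adjoin F (⋃ M : 𝓜, (A M : Set (Matrix ι ι F))) = ⊤ := by
    rw [eq_top_iff, ← hspan, Algebra.adjoin_le_iff]
    rintro _ ⟨x, hx, rfl⟩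
    let T : Subgroup (GL ι F) :=
      { carrier := {x | (x : Matrix ι ι F) ∈ Algebra.adjoin F (⋃ M : 𝓜, (A M : Set (Matrix ι ι F))) ∧
          ((x⁻¹ : GL ι F) : Matrix ι ι F) ∈ Algebra.adjoin F (⋃ M : 𝓜, (A M : Set (Matrix ι ι F)))}
        one_mem' := ⟨by rw [Units.val_one]; exact one_mem _, by rw [inv_one, Units.val_one]; exact one_mem _⟩
        mul_mem' := fun {a b} ha hb => ⟨by rw [Units.val_mul]; exact mul_mem ha.1 hb.1,
          by rw [mul_inv_rev, Units.val_mul]; exact mul_mem hb.2 ha.2⟩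
        inv_mem' := fun {a} ha => ⟨ha.2, by rw [inv_inv]; exact ha.1⟩ }
    have hZT : scalars ι F ≤ T := by
      intro z hz
      obtain ⟨c, hc⟩ := exists_scl hz
      subst hc
      refine ⟨?_, ?_⟩
      · rw [scl_val]; exact Subalgebra.smul_mem _ (one_mem _) _
      · rw [← map_inv, scl_val]; exact Subalgebra.smul_mem _ (one_mem _) _
    have hNT : N ≤ T := by
      rw [← hsup]
      refine sup_le hZT (iSup_le fun M => ?_)
      rw [← hDsup M M.2]
      exact sup_le (fun x hx => ⟨Algebra.subset_adjoin (Set.mem_iUnion.2 ⟨M,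
          Algebra.subset_adjoin (mem_matrixSet hx)⟩),
        Algebra.subset_adjoin (Set.mem_iUnion.2 ⟨M,
          Algebra.subset_adjoin (mem_matrixSet (inv_mem hx))⟩)⟩) hZT
    exact (hNT hx).1
  -- the algebra of M₀ is a full matrix algebra
  have hirrN := actsIrreducibly_of_adjoin hspan
  have hAN : ∀ x ∈ N, ∀ X ∈ A M₀, glConj x X ∈ A M₀ := adjoin_normalized
    (glConj_matrixSet (G := N) fun x hx => conj_mem_commutator fun y hy => hM0n x hx y hy)
  haveI := isSemisimpleRing_of_normalized hirrN (A M₀) hAN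
  haveI : Nontrivial (A M₀) :=
    ⟨⟨0, 1, fun h => zero_ne_one (α := Matrix ι ι F) (congrArg Subtype.val h)⟩⟩
  obtain ⟨a, ha, ⟨θ⟩⟩ := exists_algEquiv_matrix_of_central (K := F) (A := A M₀) (by
    intro z hz
    obtain ⟨c, hc⟩ := eq_scalar_of_commute_generators hgen (X := (z : Matrix ι ι F)) (by
      intro s hs
      obtain ⟨⟨M, hM⟩, hs⟩ := Set.mem_iUnion.1 hs
      by_cases hMM : M = M₀
      · subst hMM
        exact congrArg Subtype.val (hz ⟨s, hs⟩)
      · exact hAcomm M₀ hM0mem M hM (Ne.symm hMM) _ z.2 _ hs)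
    exact ⟨c, Subtype.ext (by rw [hc, Subalgebra.coe_algebraMap, Algebra.algebraMap_eq_smul_one])⟩)
  have ha2 : 2 ≤ a := by
    by_contra hlt
    obtain rfl : a = 1 := by omega
    apply adjoin_ne_bot_of_not_scalar (hDns M₀ hM0mem)
    apply Subalgebra.eq_bot_of_finrank_one
    show Module.finrank F (A M₀) = 1
    rw [← θ.toLinearEquiv.finrank_eq, Module.finrank_matrix]
    simp
  have hconjA : ∀ g, ∀ M : Subgroup (GL ι F), ∀ X ∈ A M,
      glConj g X ∈ A (M.map (MulAut.conj g).toMonoidHom) := by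
    intro g M X hX
    induction hX using Algebra.adjoin_induction with
    | mem y hy =>
      obtain ⟨y, hy, rfl⟩ := hy
      rw [glConj_coe]
      refine Algebra.subset_adjoin (mem_matrixSet ?_)
      rw [← Subgroup.map_commutator]
      exact ⟨y, hy, rfl⟩
    | algebraMap r => rw [AlgEquiv.commutes]; exact Subalgebra.algebraMap_mem _ r
    | add y z _ _ hy hz => rw [map_add]; exact add_mem hy hz
    | mul y z _ _ hy hz => rw [map_mul]; exact mul_mem hy hz
  haveI : Fintype 𝓜 := Fintype.ofFinite _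
  set k := Fintype.card 𝓜
  let fe : Fin k ≃ 𝓜 := (Fintype.equivFin 𝓜).symm
  choose gi hgi hgM using fun i : Fin k => (fe i).2
  let φ : Fin k → (Matrix (Fin a) (Fin a) F →ₐ[F] Matrix ι ι F) := fun i =>
    (glConj (gi i)).toAlgHom.comp ((A M₀).val.comp θ.toAlgHom)
  have hrange : ∀ i X, X ∈ A (fe i : Subgroup (GL ι F)) ↔ ∃ Y, φ i Y = X := by
    intro i X
    have hfi : (fe i : Subgroup (GL ι F)) = M₀.map (MulAut.conj (gi i)).toMonoidHom := hgM i
    constructor
    · intro hX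
      rw [hfi] at hX
      have h1 := hconjA (gi i)⁻¹ _ X hX
      have e : (M₀.map (MulAut.conj (gi i)).toMonoidHom).map (MulAut.conj (gi i)⁻¹).toMonoidHom = M₀ := by
        rw [Subgroup.map_map]
        convert Subgroup.map_id M₀ using 2
        ext x
        simp [mul_assoc]
      rw [e] at h1
      obtain ⟨Y, hY⟩ := θ.surjective ⟨_, h1⟩
      refine ⟨Y, ?_⟩
      show glConj (gi i) ((θ Y : A M₀) : Matrix ι ι F) = X
      rw [hY, ← glConj_mul, mul_inv_cancel, glConj_one]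
    · rintro ⟨Y, rfl⟩
      rw [hfi]
      exact hconjA (gi i) M₀ _ (θ Y).2
  have hk : 2 ≤ k := by
    by_contra hlt
    have hsub : Subsingleton 𝓜 := Fintype.card_le_one_iff_subsingleton.1 (by omega)
    rcases hmin M₀ hM0Z hM0N (fun g hg x hx => by
      have h2 : M₀.map (MulAut.conj g).toMonoidHom = M₀ := congrArg Subtype.val
        (Subsingleton.elim (⟨_, hGperm g hg M₀ hM0mem⟩ : 𝓜) ⟨M₀, hM0mem⟩)
      exact h2.le ⟨x, hx, rfl⟩) with h | h
    · exact hM0ne h
    · exact hM0ne' h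
  let cm : GL ι F → 𝓜 → 𝓜 := fun g M =>
    if h : g ∈ G then ⟨_, hGperm g h M M.2⟩ else M
  have hcmv : ∀ g ∈ G, ∀ M : 𝓜, (cm g M : Subgroup (GL ι F)) =
      (M : Subgroup (GL ι F)).map (MulAut.conj g).toMonoidHom := fun g hg M => by
    simp only [cm, dif_pos hg]
  have hcm : ∀ g ∈ G, Function.Injective (cm g) := fun g hg M M' h => Subtype.ext
    (Subgroup.map_injective (MulAut.conj g).injective
      (by rw [← hcmv g hg, ← hcmv g hg, h]))
  have hmove : ∀ g ∈ G, ∀ i X, ∃ Y, glConj g (φ i X) = φ (fe.symm (cm g (fe i))) Y := by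
    intro g hg i X
    obtain ⟨Y, hY⟩ := (hrange (fe.symm (cm g (fe i))) _).1
      (by rw [Equiv.apply_symm_apply, hcmv g hg]; exact hconjA g _ _ ((hrange i _).2 ⟨X, rfl⟩))
    exact ⟨Y, hY.symm⟩
  refine ⟨k, a, φ, hk, ha2, fun i j hij X Y => hAcomm _ (fe i).2 _ (fe j).2
    (fun h => hij (fe.injective (Subtype.ext h))) _ ((hrange i _).2 ⟨X, rfl⟩) _
    ((hrange j _).2 ⟨Y, rfl⟩), ?_, ?_, ?_, ?_, ?_⟩
  · rw [eq_top_iff, ← hgen, Algebra.adjoin_le_iff]
    intro s hs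
    obtain ⟨M, hs⟩ := Set.mem_iUnion.1 hs
    obtain ⟨i, rfl⟩ := fe.surjective M
    obtain ⟨Y, rfl⟩ := (hrange i s).1 hs
    exact Algebra.subset_adjoin (Set.mem_iUnion.2 ⟨i, Y, rfl⟩)
  · intro i X
    obtain ⟨Y, hY⟩ := (hrange i _).1 (hMf.adj_mem_adjoin (N := ⁅(fe i : Subgroup (GL ι F)), (fe i : Subgroup (GL ι F))⁆)
      (((Subgroup.commutator_le_self _).trans (hmem _ (fe i).2).2.1).trans (hNG.trans hGM))
      ((hrange i _).2 ⟨X, rfl⟩))
    exact ⟨Y, hY.symm⟩
  · intro g hg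
    exact ⟨fe.trans ((Equiv.ofBijective (cm g) (Finite.injective_iff_bijective.1 (hcm g hg))).trans fe.symm),
      hmove g hg⟩
  · intro i j
    have hg : gi j * (gi i)⁻¹ ∈ G := mul_mem (hgi j) (inv_mem (hgi i))
    refine ⟨_, hg, fe.trans ((Equiv.ofBijective (cm _) (Finite.injective_iff_bijective.1 (hcm _ hg))).trans fe.symm),
      ?_, hmove _ hg⟩
    show fe.symm (cm _ (fe i)) = j
    rw [Equiv.symm_apply_eq]
    apply Subtype.ext
    rw [hcmv _ hg, show (fe i : Subgroup (GL ι F)) = M₀.map (MulAut.conj (gi i)).toMonoidHom from hgM i,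
      show (fe j : Subgroup (GL ι F)) = M₀.map (MulAut.conj (gi j)).toMonoidHom from hgM j,
      Subgroup.map_map]
    congr 1
    ext x
    simp [mul_assoc]
  · intro x hx i X
    obtain ⟨Y, hY⟩ := hmove x (hNG hx) i X
    refine ⟨Y, ?_⟩
    have hfix : cm x (fe i) = fe i := by
      apply Subtype.ext
      rw [hcmv x (hNG hx)]
      obtain ⟨-, -, hMn, -, -, -⟩ := hmem _ (fe i).2
      refine le_antisymm ?_ fun y hy => ⟨x⁻¹ * y * x, ?_, by simp [mul_assoc]⟩
      · rintro _ ⟨y, hy, rfl⟩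
        exact hMn x hx y hy
      · simpa using hMn x⁻¹ (inv_mem hx) y hy
    rwa [hfix, Equiv.symm_apply_apply] at hY

end H46
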