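import Cfsg.Agent.H46.ElusiveField

/-!
# Counting nested pairs of subspaces
-/

set_option autoImplicit false

open Module

namespace H46.Elusive

variable {F : Type*} [Field F]

/-- Counts of subspaces are invariant under linear isomorphism. -/
theorem card_subspaces_congr {V V' : Type*} [AddCommGroup V] [Module F V] [AddCommGroup V'] [Module F V']
    (e : V ≃ₗ[F] V') (m : ℕ) :
    Nat.card {W : Submodule F V // finrank F ↥W = m} = Nat.card {W : Submodule F V' // finrank F ↥W = m} :=
  Nat.card_congr ((Submodule.orderIsoMapComap e).toEquiv.subtypeEquiv fun W => by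
    have : finrank F ↥((Submodule.orderIsoMapComap e) W) = finrank F W :=
      LinearEquiv.finrank_map_eq e W
    show _ ↔ finrank F ↥((Submodule.orderIsoMapComap e) W) = m
    rw [this])

/-- There are as many subspaces of dimension `n - m` as of dimension `m`. -/
theorem card_subspaces_symm [Fintype F] (n m : ℕ) (hm : m ≤ n) :
    Nat.card {W : Submodule F (Fin n → F) // finrank F ↥W = n - m} =
      Nat.card {W : Submodule F (Fin n → F) // finrank F ↥W = m} := by
  have e : (Module.Dual F (Fin n → F)) ≃ₗ[F] (Fin n → F) :=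
    LinearEquiv.ofFinrankEq _ _ (Subspace.dual_finrank_eq)
  rw [← card_subspaces_congr e m]
  refine Nat.card_congr (((Subspace.orderIsoFiniteDimensional (K := F) (V := Fin n → F)).toEquiv.trans
    OrderDual.ofDual).subtypeEquiv fun W => ?_)
  show finrank F ↥W = n - m ↔ finrank F ↥(Submodule.dualAnnihilator W) = m
  have h := Subspace.finrank_add_finrank_dualAnnihilator_eq W
  rw [Module.finrank_fin_fun] at h
  constructor <;> intro h' <;> omega

/-- The number of pairs `U ≤ W`. -/
theorem card_flags [Fintype F] (n m : ℕ) (hm : m ≤ n) :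
    Nat.card {P : Submodule F (Fin n → F) × Submodule F (Fin n → F) //
        P.1 ≤ P.2 ∧ finrank F ↥P.1 = m ∧ finrank F ↥P.2 = n - m} =
      Nat.card {W : Submodule F (Fin n → F) // finrank F ↥W = m} *
        Nat.card {W : Submodule F (Fin (n - m) → F) // finrank F ↥W = m} := by
  classical
  let e : {P : Submodule F (Fin n → F) × Submodule F (Fin n → F) //
        P.1 ≤ P.2 ∧ finrank F ↥P.1 = m ∧ finrank F ↥P.2 = n - m} ≃
      Σ W : {W : Submodule F (Fin n → F) // finrank F ↥W = n - m},
        {U : Submodule F (Fin n → F) // U ≤ W.1 ∧ finrank F ↥U = m} :=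
    { toFun := fun P => ⟨⟨P.1.2, P.2.2.2⟩, ⟨P.1.1, P.2.1, P.2.2.1⟩⟩
      invFun := fun Q => ⟨(Q.2.1, Q.1.1), Q.2.2.1, Q.2.2.2, Q.1.2⟩
      left_inv := fun P => rfl
      right_inv := fun Q => rfl }
  rw [Nat.card_congr e, Nat.card_sigma, Finset.sum_congr rfl (fun W _ => (?_ : _ =
    Nat.card {W : Submodule F (Fin (n - m) → F) // finrank F ↥W = m})), Finset.sum_const, smul_eq_mul,
    Finset.card_univ, ← Nat.card_eq_fintype_card, card_subspaces_symm n m hm]
  let g : W.1 ≃ₗ[F] (Fin (n - m) → F) :=
    LinearEquiv.ofFinrankEq _ _ (by rw [W.2, Module.finrank_fin_fun])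
  rw [← card_subspaces_congr g m]
  refine Nat.card_congr
    { toFun := fun U => ⟨U.1.comap W.1.subtype, ?_⟩
      invFun := fun U => ⟨U.1.map W.1.subtype, Submodule.map_subtype_le _ _, ?_⟩
      left_inv := fun U => Subtype.ext ?_
      right_inv := fun U => Subtype.ext ?_ }
  · rw [(Submodule.comapSubtypeEquivOfLe U.2.1).finrank_eq, U.2.2]
  · rw [Submodule.finrank_map_subtype_eq, U.2]
  · exact Submodule.map_comap_eq_of_le (by rw [Submodule.range_subtype]; exact U.2.1)
  · exact Submodule.comap_map_eq_of_injective W.1.subtype_injective _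

end H46.Elusive
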