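import Cfsg.Agent.H46.ElusiveField
import Cfsg.Agent.H47.Nilpotent
import Cfsg.Agent.H51.Jordan

/-!
# Invariant complementary pairs for unipotent maps of order `p`
-/

set_option autoImplicit false

open Module

namespace H46.Elusive

variable {F : Type*} [Field F]

/-- A basis made of chains for `N`. -/
def Chains {V : Type*} [AddCommGroup V] [Module F V] (N : Module.End F V) {S : Type*} (sz : S → ℕ)
    (b : Basis (Σ i : S, Fin (sz i + 1)) F V) : Prop :=
  ∀ i j, N (b ⟨i, j⟩) = if h : (j : ℕ) + 1 < sz i + 1 then b ⟨i, ⟨j + 1, h⟩⟩ else 0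

section
variable {V : Type*} [AddCommGroup V] [Module F V] {N : Module.End F V} {S : Type*} {sz : S → ℕ}
  {b : Basis (Σ i : S, Fin (sz i + 1)) F V}

theorem Chains.pow_apply (h : Chains N sz b) (l : ℕ) (i : S) (j : Fin (sz i + 1)) :
    (N ^ l) (b ⟨i, j⟩) = if h : (j : ℕ) + l < sz i + 1 then b ⟨i, ⟨j + l, h⟩⟩ else 0 := by
  induction l with
  | zero => rw [pow_zero, Module.End.one_apply, dif_pos (show (j : ℕ) + 0 < sz i + 1 from j.2)]; rfl
  | succ l ih =>
    rw [pow_succ', Module.End.mul_apply, ih]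
    by_cases hl : (j : ℕ) + l < sz i + 1
    · rw [dif_pos hl, h]; rfl
    · rw [dif_neg hl, map_zero, dif_neg]; omega

theorem Chains.size_lt (h : Chains N sz b) {p : ℕ} (hN : N ^ p = 0) (i : S) : sz i < p := by
  by_contra hlt
  have := h.pow_apply p i 0
  rw [hN, LinearMap.zero_apply, dif_pos (show ((0 : Fin (sz i + 1)) : ℕ) + p < sz i + 1 by simp; omega)] at this
  exact b.ne_zero _ this.symm

theorem Chains.pow_eq_zero (h : Chains N sz b) {p : ℕ} (hsz : ∀ i, sz i < p) : N ^ p = 0 := by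
  refine b.ext fun ⟨i, j⟩ => ?_
  rw [h.pow_apply, dif_neg, LinearMap.zero_apply]
  have := hsz i
  omega

/-- The rank of a power of `N`. -/
theorem Chains.finrank_range_pow [Fintype S] (h : Chains N sz b) (l : ℕ) :
    finrank F (LinearMap.range (N ^ l)) = ∑ i, (sz i + 1 - l) := by
  classical
  let f : (Σ i : S, Fin (sz i + 1 - l)) → (Σ i : S, Fin (sz i + 1)) :=
    fun x => ⟨x.1, ⟨x.2 + l, by have := x.2.2; omega⟩⟩
  have hf : Function.Injective f := by
    rintro ⟨i, x⟩ ⟨i', x'⟩ he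
    obtain ⟨rfl, h2⟩ := Sigma.mk.inj_iff.1 he
    have h3 := congrArg Fin.val (eq_of_heq h2)
    simp only at h3
    obtain rfl : x = x' := Fin.ext (by omega)
    rfl
  have hrange : LinearMap.range (N ^ l) = Submodule.span F (Set.range (b ∘ f)) := by
    rw [LinearMap.range_eq_map, ← b.span_eq, Submodule.map_span]
    refine le_antisymm (Submodule.span_le.2 ?_) (Submodule.span_mono ?_)
    · rintro _ ⟨_, ⟨⟨i, j⟩, rfl⟩, rfl⟩
      rw [h.pow_apply]
      split_ifs with hl
      · exact Submodule.subset_span ⟨⟨i, ⟨j, by omega⟩⟩, rfl⟩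
      · exact Submodule.zero_mem _
    · rintro _ ⟨⟨i, x⟩, rfl⟩
      refine ⟨b ⟨i, ⟨x, by have := x.2; omega⟩⟩, ⟨_, rfl⟩, ?_⟩
      rw [h.pow_apply, dif_pos (show (x : ℕ) + l < sz i + 1 by have := x.2; omega)]
      rfl
  rw [hrange, finrank_span_eq_card (b.linearIndependent.comp f hf), Fintype.card_sigma]
  simp

/-- A subset of the chains spans an invariant subspace. -/
theorem Chains.span_invariant (h : Chains N sz b) (A : Set S) :
    (Submodule.span F (b '' {x | x.1 ∈ A})).map N ≤ Submodule.span F (b '' {x | x.1 ∈ A}) := by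
  rw [Submodule.map_span, Submodule.span_le]
  rintro _ ⟨_, ⟨⟨i, j⟩, hi, rfl⟩, rfl⟩
  rw [h]
  split_ifs with hl
  · exact Submodule.subset_span ⟨⟨i, ⟨j + 1, hl⟩⟩, hi, rfl⟩
  · exact Submodule.zero_mem _

end

/-- A submultiset of an image is the image of a subset. -/
theorem exists_finset_map_eq {S : Type*} [DecidableEq S] (f : S → ℕ) (T : Finset S) :
    ∀ ν : Multiset ℕ, ν ≤ T.val.map f → ∃ A : Finset S, A ⊆ T ∧ A.val.map f = ν := by
  intro ν
  induction ν using Multiset.induction generalizing T with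
  | empty => exact fun _ => ⟨∅, Finset.empty_subset _, rfl⟩
  | cons a ν ih =>
    intro h
    have ha : a ∈ T.val.map f := Multiset.mem_of_le h (Multiset.mem_cons_self a ν)
    obtain ⟨s, hs, rfl⟩ := Multiset.mem_map.1 ha
    have hT : T.val.map f = f s ::ₘ (T.erase s).val.map f := by
      rw [Finset.erase_val, ← Multiset.map_cons, Multiset.cons_erase hs]
    rw [hT, Multiset.cons_le_cons_iff] at h
    obtain ⟨A, hA, hAν⟩ := ih _ h
    refine ⟨insert s A, Finset.insert_subset hs (hA.trans (Finset.erase_subset _ _)), ?_⟩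
    rw [Finset.insert_val_of_notMem (fun hm => (Finset.notMem_erase s T) (hA hm)), Multiset.map_cons, hAν]

/-- A nilpotent map of index at most `p` has invariant complementary subspaces of dimension `m` when
every partition with parts at most `p` contains a partition of `m`. -/
theorem exists_pair_of_partitions {n m p : ℕ} (N : Module.End F (Fin n → F)) (hN : N ^ p = 0)
    (h : ∀ μ : Multiset ℕ, (∀ a ∈ μ, 0 < a ∧ a ≤ p) → μ.sum = n → ∃ ν : Multiset ℕ, ν ≤ μ ∧ ν.sum = m) :
    ∃ U W : Submodule F (Fin n → F), IsCompl U W ∧ finrank F U = m ∧ U.map N ≤ U ∧ W.map N ≤ W := by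
  classical
  obtain ⟨S, _, _, sz, b, hb⟩ := H47.exists_jordan_chains _ N ⟨p, hN⟩ rfl
  have hb : Chains N sz b := hb
  obtain ⟨ν, hν, hνm⟩ := h ((Finset.univ : Finset S).val.map fun i => sz i + 1) (by
    intro a ha
    obtain ⟨i, -, rfl⟩ := Multiset.mem_map.1 ha
    have := hb.size_lt hN i
    omega) (by
    have := Module.finrank_eq_card_basis b
    rw [Module.finrank_fin_fun, Fintype.card_sigma] at this
    simp only [Fintype.card_fin] at this
    exact this.symm)
  · obtain ⟨A, -, hA⟩ := exists_finset_map_eq _ _ ν hν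
    refine ⟨Submodule.span F (b '' {x | x.1 ∈ (A : Set S)}),
      Submodule.span F (b '' {x | x.1 ∈ ((A : Set S))ᶜ}), ⟨?_, ?_⟩, ?_,
      hb.span_invariant _, hb.span_invariant _⟩
    · exact b.linearIndependent.disjoint_span_image (Set.disjoint_left.2 fun x hx hx' => hx' hx)
    · rw [codisjoint_iff, ← Submodule.span_union, ← Set.image_union]
      rw [show {x : Σ i : S, Fin (sz i + 1) | x.1 ∈ (A : Set S)} ∪ {x | x.1 ∈ ((A : Set S))ᶜ} = Set.univ from
        Set.eq_univ_of_forall fun x => (em (x.1 ∈ (A : Set S))).imp id id, Set.image_univ, b.span_eq]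
    · rw [Set.image_eq_range]
      show finrank F (Submodule.span F (Set.range (b ∘ Subtype.val))) = m
      rw [finrank_span_eq_card (b.linearIndependent.comp Subtype.val Subtype.val_injective),
        Fintype.card_subtype]
      rw [show (Finset.univ.filter fun x : Σ i : S, Fin (sz i + 1) => x ∈ {x | x.1 ∈ (A : Set S)}) =
        A.sigma (fun _ => Finset.univ) from by ext x; simp, Finset.card_sigma]
      simp only [Finset.card_univ, Fintype.card_fin]
      rw [← hνm, ← hA]
      rfl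

/-- Chains with prescribed lengths. -/
theorem exists_chains {n t : ℕ} (sz : Fin t → ℕ) (hn : ∑ i, (sz i + 1) = n) :
    ∃ (N : Module.End F (Fin n → F)) (b : Basis (Σ i : Fin t, Fin (sz i + 1)) F (Fin n → F)),
      Chains N sz b := by
  classical
  let e : (Σ i : Fin t, Fin (sz i + 1)) ≃ Fin n :=
    Fintype.equivFinOfCardEq (by rw [Fintype.card_sigma]; simpa using hn)
  let b : Basis (Σ i : Fin t, Fin (sz i + 1)) F (Fin n → F) := (Pi.basisFun F (Fin n)).reindex e.symm
  exact ⟨b.constr F (fun x => if h : (x.2 : ℕ) + 1 < sz x.1 + 1 then b ⟨x.1, ⟨x.2 + 1, h⟩⟩ else 0), b,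
    fun i j => b.constr_basis F _ _⟩

/-- Reindexing an image by a numbering. -/
theorem map_equivFin {A : Type*} [Fintype A] (f : A → ℕ) :
    (Finset.univ : Finset (Fin (Fintype.card A))).val.map (fun k => f ((Fintype.equivFin A).symm k)) =
      (Finset.univ : Finset A).val.map f := by
  rw [← Finset.map_univ_equiv (Fintype.equivFin A).symm, Finset.map_val, Multiset.map_map]
  rfl

/-- Complementary invariant subspaces split the chain lengths. -/
theorem exists_sub_partition {V : Type*} [AddCommGroup V] [Module F V] [FiniteDimensional F V]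
    {N : Module.End F V} (hN : IsNilpotent N) {S : Type*} [Fintype S] {sz : S → ℕ}
    {b : Basis (Σ i : S, Fin (sz i + 1)) F V} (hb : Chains N sz b) (U W : Submodule F V)
    (hc : IsCompl U W) (hU : U.map N ≤ U) (hW : W.map N ≤ W) :
    ∃ ν : Multiset ℕ, ν ≤ (Finset.univ : Finset S).val.map (fun i => sz i + 1) ∧ ν.sum = finrank F U := by
  classical
  have hU' : ∀ u ∈ U, N u ∈ U := fun u hu => hU ⟨u, hu, rfl⟩
  have hW' : ∀ u ∈ W, N u ∈ W := fun u hu => hW ⟨u, hu, rfl⟩
  obtain ⟨S₁, _, _, sz₁, b₁, hb₁⟩ := H47.exists_jordan_chains _ (N.restrict hU')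
    (Module.End.isNilpotent.restrict hU' hN) rfl
  obtain ⟨S₂, _, _, sz₂, b₂, hb₂⟩ := H47.exists_jordan_chains _ (N.restrict hW')
    (Module.End.isNilpotent.restrict hW' hN) rfl
  let B : Basis (Σ i : S₁ ⊕ S₂, Fin (Sum.elim sz₁ sz₂ i + 1)) F V :=
    ((b₁.prod b₂).map (Submodule.prodEquivOfIsCompl U W hc)).reindex
      (Equiv.sumSigmaDistrib (fun i : S₁ ⊕ S₂ => Fin (Sum.elim sz₁ sz₂ i + 1))).symm
  have h1 : ∀ i j, B ⟨Sum.inl i, j⟩ = (b₁ ⟨i, j⟩ : V) := by
    intro i j
    refine (Module.Basis.reindex_apply _ _ _).trans ?_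
    show ((b₁.prod b₂).map (Submodule.prodEquivOfIsCompl U W hc)) (Sum.inl ⟨i, j⟩) = _
    simp
  have h2 : ∀ i j, B ⟨Sum.inr i, j⟩ = (b₂ ⟨i, j⟩ : V) := by
    intro i j
    refine (Module.Basis.reindex_apply _ _ _).trans ?_
    show ((b₁.prod b₂).map (Submodule.prodEquivOfIsCompl U W hc)) (Sum.inr ⟨i, j⟩) = _
    simp
  have hB : Chains N (Sum.elim sz₁ sz₂) B := by
    rintro (i | i) j
    · rw [h1]
      have := congrArg Subtype.val (hb₁ i j)
      rw [LinearMap.coe_restrict_apply] at this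
      rw [this]
      by_cases hl : (j : ℕ) + 1 < sz₁ i + 1
      · rw [dif_pos hl, dif_pos (show (j : ℕ) + 1 < Sum.elim sz₁ sz₂ (Sum.inl i) + 1 from hl)]
        exact (h1 i _).symm
      · rw [dif_neg hl, dif_neg (show ¬ (j : ℕ) + 1 < Sum.elim sz₁ sz₂ (Sum.inl i) + 1 from hl)]
        rfl
    · rw [h2]
      have := congrArg Subtype.val (hb₂ i j)
      rw [LinearMap.coe_restrict_apply] at this
      rw [this]
      by_cases hl : (j : ℕ) + 1 < sz₂ i + 1
      · rw [dif_pos hl, dif_pos (show (j : ℕ) + 1 < Sum.elim sz₁ sz₂ (Sum.inr i) + 1 from hl)]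
        exact (h2 i _).symm
      · rw [dif_neg hl, dif_neg (show ¬ (j : ℕ) + 1 < Sum.elim sz₁ sz₂ (Sum.inr i) + 1 from hl)]
        rfl
  have hmap : (Finset.univ : Finset (S₁ ⊕ S₂)).val.map (fun i => Sum.elim sz₁ sz₂ i + 1) =
      (Finset.univ : Finset S).val.map (fun i => sz i + 1) := by
    have key := H51.map_eq_of_sum_sub_eq
      (d := fun k => Sum.elim sz₁ sz₂ ((Fintype.equivFin (S₁ ⊕ S₂)).symm k) + 1)
      (d' := fun k => sz ((Fintype.equivFin S).symm k) + 1) (fun _ => Nat.le_add_left _ _) (fun _ => Nat.le_add_left _ _)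
      (fun l => by
        rw [(Fintype.equivFin (S₁ ⊕ S₂)).symm.sum_comp (fun i => Sum.elim sz₁ sz₂ i + 1 - l),
          (Fintype.equivFin S).symm.sum_comp (fun i => sz i + 1 - l), ← hB.finrank_range_pow,
          ← hb.finrank_range_pow])
    rw [← map_equivFin (fun i => Sum.elim sz₁ sz₂ i + 1), key]
    exact map_equivFin (fun i => sz i + 1)
  refine ⟨((Finset.univ : Finset S₁).map Function.Embedding.inl).val.map (fun i => Sum.elim sz₁ sz₂ i + 1),
    hmap ▸ Multiset.map_le_map (Finset.val_le_iff.2 (Finset.subset_univ _)), ?_⟩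
  rw [Finset.map_val, Multiset.map_map]
  have := Module.finrank_eq_card_basis b₁
  rw [Fintype.card_sigma] at this
  simp only [Fintype.card_fin] at this
  rw [this]
  rfl

/-- In characteristic `p`, `T ^ p = 1` iff `(T - 1) ^ p = 0`. -/
theorem sub_one_pow_char {p : ℕ} [hp : Fact p.Prime] [CharP F p] {n : ℕ} (hn : n ≠ 0)
    (T : Module.End F (Fin n → F)) : (T - 1) ^ p = T ^ p - 1 := by
  haveI : Nonempty (Fin n) := ⟨⟨0, Nat.pos_of_ne_zero hn⟩⟩
  haveI : CharP (Module.End F (Fin n → F)) p :=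
    charP_of_injective_algebraMap (algebraMap F _).injective p
  rw [sub_pow_char_of_commute p (Commute.one_right T), one_pow]

/-- Every scalar is a `p`-th power in characteristic `p`. -/
theorem exists_pow_char [Fintype F] (p : ℕ) [hp : Fact p.Prime] [CharP F p] (c : F) : ∃ b : F, b ^ p = c := by
  haveI : ExpChar F p := ExpChar.prime hp.out
  exact (bijective_frobenius F p).2 c

/-- A unipotent element of SL with prescribed chain lengths. -/
theorem exists_unipotent_element [Fintype F] {p : ℕ} [hp : Fact p.Prime] [CharP F p] {n t : ℕ} (hn0 : n ≠ 0)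
    (sz : Fin t → ℕ) (hn : ∑ i, (sz i + 1) = n) (hsz : ∀ i, sz i < p) :
    ∃ (x : Matrix.SpecialLinearGroup (Fin n) F)
      (N : Module.End F (Fin n → F)) (b : Basis (Σ i : Fin t, Fin (sz i + 1)) F (Fin n → F)),
      Chains N sz b ∧ IsNilpotent N ∧
      (Matrix.toLin' (x : Matrix (Fin n) (Fin n) F) : Module.End F (Fin n → F)) = 1 + N ∧
      ((x ^ p : Matrix.SpecialLinearGroup (Fin n) F) : Matrix (Fin n) (Fin n) F) =
        (1 : F) • (1 : Matrix (Fin n) (Fin n) F) := by
  obtain ⟨N, b, hb⟩ := exists_chains (F := F) sz hn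
  have hNp : N ^ p = 0 := hb.pow_eq_zero hsz
  have hTp : (1 + N) ^ p = 1 := by
    have h := sub_one_pow_char (p := p) hn0 (1 + N)
    rw [add_sub_cancel_left, hNp] at h
    exact sub_eq_zero.1 h.symm
  have hdet : LinearMap.det (1 + N) = 1 := by
    have h : LinearMap.det (1 + N) ^ p = 1 ^ p := by rw [← map_pow, hTp, map_one, one_pow]
    haveI : ExpChar F p := ExpChar.prime hp.out
    exact (bijective_frobenius F p).1 h
  obtain ⟨x, hx, hxr⟩ := exists_sl (r := p) (c := 1) (1 + N) hdet (by rw [hTp, one_smul])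
  exact ⟨x, N, b, hb, ⟨p, hNp⟩, hx, hxr⟩

/-- If `r` divides the number of complementary pairs and is not the characteristic, it divides the
number of subspaces. -/
theorem dvd_count_of_dvd_pairs [Fintype F] {p : ℕ} [hp : Fact p.Prime] [CharP F p] {n m r : ℕ}
    [hr : Fact r.Prime] (hrp : r ≠ p)
    (h : r ∣ Nat.card {P : Submodule F (Fin n → F) × Submodule F (Fin n → F) //
      IsCompl P.1 P.2 ∧ finrank F ↥P.1 = m}) :
    r ∣ Nat.card {W : Submodule F (Fin n → F) // finrank F ↥W = m} := by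
  classical
  let e : {P : Submodule F (Fin n → F) × Submodule F (Fin n → F) // IsCompl P.1 P.2 ∧ finrank F ↥P.1 = m} ≃
      Σ U : {U : Submodule F (Fin n → F) // finrank F ↥U = m}, {Q : Submodule F (Fin n → F) // IsCompl U.1 Q} :=
    { toFun := fun P => ⟨⟨P.1.1, P.2.2⟩, ⟨P.1.2, P.2.1⟩⟩
      invFun := fun Q => ⟨(Q.1.1, Q.2.1), Q.2.2, Q.1.2⟩
      left_inv := fun P => rfl
      right_inv := fun Q => rfl }
  rw [Nat.card_congr e, Nat.card_sigma] at h
  by_contra hnd
  have hfib : ∀ U : {U : Submodule F (Fin n → F) // finrank F ↥U = m},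
      Nat.card {Q : Submodule F (Fin n → F) // IsCompl U.1 Q} = Fintype.card F ^ (m * (n - m)) := by
    intro U
    obtain ⟨f₀, hf₀⟩ : ∃ f : (Fin n → F) →ₗ[F] U.1, ∀ x : U.1, f x = x := by
      obtain ⟨Q, hQ⟩ := Submodule.exists_isCompl U.1
      exact ⟨(U.1.isComplEquivProj ⟨Q, hQ⟩).1, (U.1.isComplEquivProj ⟨Q, hQ⟩).2⟩
    let e₁ : {f : (Fin n → F) →ₗ[F] U.1 // ∀ x : U.1, f x = x} ≃ (((Fin n → F) ⧸ U.1) →ₗ[F] U.1) :=
      { toFun := fun f => U.1.liftQ (f.1 - f₀) (fun x hx => by
          rw [LinearMap.mem_ker, LinearMap.sub_apply, f.2 ⟨x, hx⟩, hf₀ ⟨x, hx⟩, sub_self])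
        invFun := fun g => ⟨f₀ + g.comp U.1.mkQ, fun x => by
          rw [LinearMap.add_apply, LinearMap.comp_apply, hf₀ x, Submodule.mkQ_apply,
            (Submodule.Quotient.mk_eq_zero U.1).2 x.2, map_zero, add_zero]⟩
        left_inv := fun f => Subtype.ext (LinearMap.ext fun v => by simp)
        right_inv := fun g => Submodule.linearMap_qext _ (LinearMap.ext fun v => by simp) }
    have hq := Submodule.finrank_quotient_add_finrank U.1
    rw [U.2, Module.finrank_fin_fun] at hq
    rw [Nat.card_congr ((U.1.isComplEquivProj).trans e₁), Module.natCard_eq_pow_finrank (K := F),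
      Module.finrank_linearMap, U.2, Nat.card_eq_fintype_card,
      show finrank F ((Fin n → F) ⧸ U.1) = n - m by omega, mul_comm]
  rw [Finset.sum_congr rfl (fun U _ => hfib U), Finset.sum_const, smul_eq_mul, Finset.card_univ,
    ← Nat.card_eq_fintype_card] at h
  have h2 := hr.out.dvd_of_dvd_pow ((hr.out.dvd_mul.1 h).resolve_left hnd)
  obtain ⟨k, -, hk⟩ := FiniteField.card F p
  rw [hk] at h2
  exact hrp ((Nat.prime_dvd_prime_iff_eq hr.out hp.out).1 (hr.out.dvd_of_dvd_pow h2))

end H46.Elusive
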