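import Cfsg.Agent.H46.Perm

/-! Babai's bound on the minimal degree of primitive groups. -/

set_option autoImplicit false

namespace H46

open MulAction
open scoped Pointwise

variable (G : Type*) {Ω : Type*} [Group G] [MulAction G Ω]

/-- The orbital containing `(a, b)`. -/
def orbital (a b : Ω) : orbitRel.Quotient G (Ω × Ω) := Quotient.mk'' (a, b)

theorem orbital_smul (g : G) (a b : Ω) : orbital G (g • a) (g • b) = orbital G a b :=
  Quotient.sound (orbitRel_apply.2 ⟨g, rfl⟩)

theorem exists_of_orbital_eq {a b a' b' : Ω} (h : orbital G a b = orbital G a' b') :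
    ∃ g : G, g • a' = a ∧ g • b' = b := by
  obtain ⟨g, hg⟩ := orbitRel_apply.1 (Quotient.exact h)
  exact ⟨g, congrArg Prod.fst hg, congrArg Prod.snd hg⟩

theorem orbital_diag {a b c : Ω} (h : orbital G a b = orbital G c c) : a = b := by
  obtain ⟨g, h1, h2⟩ := exists_of_orbital_eq G h
  exact h1.symm.trans h2

variable [Fintype Ω] [DecidableEq Ω]

/-- Points distinguishing `a` and `b`. -/
noncomputable def distSet (a b : Ω) : Finset Ω :=
  haveI := Classical.decEq (orbitRel.Quotient G (Ω × Ω))
  Finset.univ.filter fun z => orbital G a z ≠ orbital G b z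

theorem mem_distSet {a b z : Ω} : z ∈ distSet G a b ↔ orbital G a z ≠ orbital G b z := by
  simp [distSet]

theorem distSet_comm (a b : Ω) : distSet G a b = distSet G b a := by
  ext z; simp [mem_distSet, ne_comm]

theorem distSet_triangle (a b c : Ω) :
    (distSet G a c).card ≤ (distSet G a b).card + (distSet G b c).card :=
  (Finset.card_le_card fun z hz => by
    rw [mem_distSet] at hz
    rw [Finset.mem_union, mem_distSet, mem_distSet]
    by_contra h; push Not at h; exact hz (h.1.trans h.2)).trans (Finset.card_union_le _ _)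

theorem distSet_smul (g : G) (a b : Ω) :
    (distSet G (g • a) (g • b)).card = (distSet G a b).card := by
  refine Finset.card_bij (fun z _ => g⁻¹ • z) (fun z hz => ?_) (fun z _ w _ e => smul_left_cancel _ e)
    (fun z hz => ⟨g • z, ?_, inv_smul_smul _ _⟩)
  · rw [mem_distSet] at hz ⊢
    rwa [← orbital_smul G g a, ← orbital_smul G g b, smul_inv_smul]
  · rw [mem_distSet] at hz ⊢
    rwa [orbital_smul, orbital_smul]

theorem card_distSet_of_orbital {a b a' b' : Ω} (h : orbital G a b = orbital G a' b') :
    (distSet G a b).card = (distSet G a' b').card := by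
  obtain ⟨g, rfl, rfl⟩ := exists_of_orbital_eq G h
  exact distSet_smul G g a' b'

/-- The symmetrized orbital graph. -/
def orbGraph (x y : Ω) (hxy : x ≠ y) : SimpleGraph Ω where
  Adj a b := orbital G a b = orbital G x y ∨ orbital G b a = orbital G x y
  symm := ⟨fun _ _ h => h.symm⟩
  loopless := ⟨fun a h => hxy (orbital_diag G (h.elim Eq.symm Eq.symm))⟩

variable {G}

theorem closed_eq_univ [IsPreprimitive G Ω] (R : Ω → Ω → Prop) (hR : Equivalence R)
    (hinv : ∀ (g : G) a b, R a b → R (g • a) (g • b)) {a b : Ω} (hne : a ≠ b) (hab : R a b) :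
    ∀ z w, R z w := by
  have hB : IsBlock G {z | R a z} := by
    rw [isBlock_iff_smul_eq_or_disjoint]
    intro g
    by_cases h : R a (g • a)
    · left
      ext z
      rw [Set.mem_smul_set_iff_inv_smul_mem]
      constructor
      · intro hz
        have := hinv g _ _ (show R a (g⁻¹ • z) from hz)
        rw [smul_inv_smul] at this
        exact hR.trans h this
      · intro hz
        show R a (g⁻¹ • z)
        have := hinv g⁻¹ _ _ (hR.trans (hR.symm h) (show R a z from hz))
        rwa [inv_smul_smul] at this
    · right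
      rw [Set.disjoint_left]
      rintro _ ⟨z, hz, rfl⟩ hz'
      exact h (hR.trans hz' (hR.symm (hinv g _ _ (show R a z from hz))))
  rcases IsPreprimitive.isTrivialBlock_of_isBlock hB with h | h
  · exact absurd (h (hR.refl a) hab) hne
  · intro z w
    exact hR.trans (hR.symm (Set.eq_univ_iff_forall.1 h z)) (Set.eq_univ_iff_forall.1 h w)

theorem orbGraph_adj_smul {x y : Ω} {hxy : x ≠ y} (g : G) {a b : Ω} :
    (orbGraph G x y hxy).Adj a b → (orbGraph G x y hxy).Adj (g • a) (g • b) := by
  rintro (h | h)
  · exact Or.inl ((orbital_smul G g a b).trans h)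
  · exact Or.inr ((orbital_smul G g b a).trans h)

theorem orbGraph_connected [IsPreprimitive G Ω] (x y : Ω) (hxy : x ≠ y) :
    (orbGraph G x y hxy).Connected := by
  haveI : Nonempty Ω := ⟨x⟩
  refine ⟨closed_eq_univ (G := G) (orbGraph G x y hxy).Reachable (SimpleGraph.reachable_is_equivalence _)
    (fun g a b h => ?_) hxy (SimpleGraph.Adj.reachable (Or.inl rfl))⟩
  exact h.map ⟨fun z => g • z, fun hh => orbGraph_adj_smul g hh⟩

theorem orbGraph_dist_eq [IsPreprimitive G Ω] (x y : Ω) (hxy : x ≠ y) {a b a' b' : Ω}
    (h : orbital G a b = orbital G a' b') :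
    (orbGraph G x y hxy).dist a b = (orbGraph G x y hxy).dist a' b' := by
  have key : ∀ (g : G) a b,
      (orbGraph G x y hxy).dist (g • a) (g • b) ≤ (orbGraph G x y hxy).dist a b := by
    intro g a b
    obtain ⟨p, hp⟩ := (orbGraph_connected (G := G) x y hxy).exists_walk_length_eq_dist a b
    have hle := SimpleGraph.dist_le (p.map ⟨fun z => g • z, fun hh => orbGraph_adj_smul g hh⟩)
    rw [SimpleGraph.Walk.length_map, hp] at hle
    exact hle
  obtain ⟨g, rfl, rfl⟩ := exists_of_orbital_eq G h
  refine le_antisymm (key g a' b') ?_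
  have := key g⁻¹ (g • a') (g • b')
  rwa [inv_smul_smul, inv_smul_smul] at this

theorem distSet_le_dist_mul [IsPreprimitive G Ω] (x y : Ω) (hxy : x ≠ y) (a b : Ω) :
    (distSet G a b).card ≤ (orbGraph G x y hxy).dist a b * (distSet G x y).card := by
  obtain ⟨p, hp⟩ := (orbGraph_connected (G := G) x y hxy).exists_walk_length_eq_dist a b
  rw [← hp]
  clear hp
  induction p with
  | nil => simp [distSet]
  | @cons u v w h p ih =>
    have huv : (distSet G u v).card = (distSet G x y).card := by
      rcases h with h | h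
      · exact card_distSet_of_orbital G h
      · rw [distSet_comm]; exact card_distSet_of_orbital G h
    refine (distSet_triangle G u v w).trans ?_
    rw [SimpleGraph.Walk.length_cons, add_mul, one_mul, huv]
    omega

theorem dist_lt_distSet [IsPreprimitive G Ω] (x y : Ω) (hxy : x ≠ y) (a b : Ω) :
    (orbGraph G x y hxy).dist a b < (distSet G x y).card := by
  have hconn := orbGraph_connected (G := G) x y hxy
  obtain ⟨p, hp⟩ := hconn.exists_walk_length_eq_dist a b
  rw [← hp]
  cases p with
  | nil =>
    rw [SimpleGraph.Walk.length_nil]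
    exact Finset.card_pos.2 ⟨x, (mem_distSet G).2 fun h => hxy (orbital_diag G h.symm).symm⟩
  | @cons _ v _ h p =>
    have huv : (distSet G a v).card = (distSet G x y).card := by
      rcases h with h | h
      · exact card_distSet_of_orbital G h
      · rw [distSet_comm]; exact card_distSet_of_orbital G h
    set q := SimpleGraph.Walk.cons h p with hq
    have hd : ∀ t, t ≤ q.length → (orbGraph G x y hxy).dist a (q.getVert t) = t := by
      intro t ht
      refine le_antisymm ((SimpleGraph.dist_le (q.take t)).trans_eq ?_) ?_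
      · rw [SimpleGraph.Walk.take_length]; omega
      · have h1 := hconn.dist_triangle (u := a) (v := q.getVert t) (w := b)
        have h2 := SimpleGraph.dist_le (q.drop t)
        rw [SimpleGraph.Walk.drop_length] at h2
        omega
    have hinj : Set.InjOn q.getVert {t | t ≤ q.length} := fun s hs t ht e => by
      have := hd s hs; rw [e, hd t ht] at this; exact this.symm
    have hsub : (Finset.range (q.length + 1)).image q.getVert ⊆ distSet G a v := by
      intro z hz
      obtain ⟨t, ht, rfl⟩ := Finset.mem_image.1 hz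
      rw [Finset.mem_range] at ht
      rw [mem_distSet]
      intro e
      have he := orbGraph_dist_eq x y hxy e
      rw [hd t (by omega)] at he
      cases t with
      | zero =>
        rw [SimpleGraph.Walk.getVert_zero] at he
        have := (orbGraph G x y hxy).dist_eq_one_iff_adj.2 h.symm
        omega
      | succ t =>
        have hle : (orbGraph G x y hxy).dist v (q.getVert (t + 1)) ≤ t := by
          rw [hq, SimpleGraph.Walk.getVert_cons_succ]
          exact (SimpleGraph.dist_le (p.take t)).trans (by rw [SimpleGraph.Walk.take_length]; omega)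
        omega
    have := Finset.card_le_card hsub
    rw [Finset.card_image_of_injOn (fun s hs t ht e => hinj (by simpa [Nat.lt_succ_iff] using hs)
      (by simpa [Nat.lt_succ_iff] using ht) e), Finset.card_range, huv] at this
    omega

/-- Uniprimitive groups: the distinguishing number of any pair is at least about `√n / 2`. -/
theorem card_le_distSet_sq [IsPreprimitive G Ω] (h2 : ¬ IsMultiplyPretransitive G Ω 2) (x y : Ω) (hxy : x ≠ y) :
    Fintype.card Ω ≤ 4 * (distSet G x y).card ^ 2 + 1 := by
  classical
  set n := Fintype.card Ω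
  set D := (distSet G x y).card with hDdef
  by_cases hbig : ∃ a b : Ω, n ≤ 4 * (distSet G a b).card
  · obtain ⟨a, b, hab⟩ := hbig
    have h1 := distSet_le_dist_mul (G := G) x y hxy a b
    have h2 := Nat.mul_le_mul_right D (dist_lt_distSet (G := G) x y hxy a b).le
    rw [← hDdef] at h1 h2
    rw [sq]
    omega
  push Not at hbig
  -- a dominant orbital
  obtain ⟨q, hq⟩ : ∃ q, ∀ z, 3 * n < 4 * (Finset.univ.filter fun b => orbital G b z = q).card := by
    have hsum : ∑ b, (distSet G x b).card = ∑ z, (Finset.univ.filter fun b => orbital G x z ≠ orbital G b z).card := by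
      simp only [distSet, Finset.card_eq_sum_ones, Finset.sum_filter]
      rw [Finset.sum_comm]
      exact Finset.sum_congr rfl fun z _ => Finset.sum_congr rfl fun b _ => by congr 1
    obtain ⟨z₀, hz₀⟩ : ∃ z, 4 * (Finset.univ.filter fun b => orbital G x z ≠ orbital G b z).card < n := by
      by_contra hc
      push Not at hc
      have h1 : ∑ _b : Ω, n ≤ ∑ b, 4 * (distSet G x b).card := by
        rw [← Finset.mul_sum, hsum, Finset.mul_sum]
        exact Finset.sum_le_sum fun z _ => hc z
      have h2 : ∑ b, 4 * (distSet G x b).card < ∑ _b : Ω, n :=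
        Finset.sum_lt_sum_of_nonempty ⟨x, Finset.mem_univ _⟩ fun b _ => hbig x b
      omega
    refine ⟨orbital G x z₀, fun z => ?_⟩
    obtain ⟨g, hg⟩ := exists_smul_eq G z₀ z
    have hcard : (Finset.univ.filter fun b => orbital G b z = orbital G x z₀).card
        = (Finset.univ.filter fun b => orbital G b z₀ = orbital G x z₀).card := by
      refine Finset.card_bij (fun b _ => g⁻¹ • b) (fun b hb => ?_) (fun b _ c _ e => smul_left_cancel _ e)
        (fun b hb => ⟨g • b, ?_, inv_smul_smul _ _⟩)
      · rw [Finset.mem_filter] at hb ⊢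
        refine ⟨Finset.mem_univ _, ?_⟩
        rw [← hb.2, ← orbital_smul G g, smul_inv_smul, hg]
      · rw [Finset.mem_filter] at hb ⊢
        refine ⟨Finset.mem_univ _, ?_⟩
        rw [← hg, orbital_smul, hb.2]
    rw [hcard]
    have := Finset.card_filter_add_card_filter_not (s := Finset.univ) (fun b => orbital G b z₀ = orbital G x z₀)
    simp only [ne_comm (a := orbital G x z₀)] at hz₀
    simp only [ne_eq] at hz₀
    rw [Finset.card_univ] at this
    omega
  set Q : Ω → Finset Ω := fun a => Finset.univ.filter fun b => orbital G a b = q with hQdef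
  -- row sums
  have hrow_const : ∀ a, (Q a).card = (Q x).card := by
    intro a
    obtain ⟨g, rfl⟩ := exists_smul_eq G x a
    refine Finset.card_bij (fun b _ => g⁻¹ • b) (fun b hb => ?_) (fun b _ c _ e => smul_left_cancel _ e)
      (fun b hb => ⟨g • b, ?_, inv_smul_smul _ _⟩)
    · simp only [hQdef, Finset.mem_filter, Finset.mem_univ, true_and] at hb ⊢
      rw [← hb, ← orbital_smul G g, smul_inv_smul]
    · simp only [hQdef, Finset.mem_filter, Finset.mem_univ, true_and] at hb ⊢
      rw [orbital_smul, hb]
  have hrow : 3 * n < 4 * (Q x).card := by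
    have h1 : ∑ a, (Q a).card = ∑ z, (Finset.univ.filter fun b => orbital G b z = q).card := by
      simp only [hQdef, Finset.card_eq_sum_ones, Finset.sum_filter]
      rw [Finset.sum_comm]
    have h2 : ∑ _z : Ω, 3 * n < ∑ z, 4 * (Finset.univ.filter fun b => orbital G b z = q).card :=
      Finset.sum_lt_sum_of_nonempty ⟨x, Finset.mem_univ _⟩ fun z _ => hq z
    rw [← Finset.mul_sum, ← Finset.mul_sum, ← h1, Finset.sum_congr rfl (fun a _ => hrow_const a),
      Finset.sum_const, Finset.sum_const, Finset.card_univ, smul_eq_mul, smul_eq_mul] at h2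
    nlinarith [h2]
  have hqsymm : ∀ a b, orbital G a b = q → orbital G b a = q := by
    intro a b hab
    have h1 := Finset.card_inter_add_card_union (Q a) (Finset.univ.filter fun c => orbital G c a = q)
    have h2 := Finset.card_le_univ ((Q a) ∪ (Finset.univ.filter fun c => orbital G c a = q))
    have h3 := hq a
    have h4 := hrow_const a
    have : (Q a ∩ (Finset.univ.filter fun c => orbital G c a = q)).Nonempty := by
      rw [← Finset.card_pos]; omega
    obtain ⟨c, hc⟩ := this
    simp only [hQdef, Finset.mem_inter, Finset.mem_filter, Finset.mem_univ, true_and] at hc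
    obtain ⟨g, h1g, h2g⟩ := exists_of_orbital_eq G (hab.trans hc.1.symm)
    calc orbital G b a = orbital G (g • c) (g • a) := by rw [h1g, h2g]
      _ = orbital G c a := orbital_smul G g c a
      _ = q := hc.2
  have hn1 : 1 < n := Fintype.one_lt_card_iff.2 ⟨x, y, hxy⟩
  have hqdiag : ∀ a, orbital G a a ≠ q := by
    intro a ha
    have : Q a ⊆ {a} := fun b hb => by
      simp only [hQdef, Finset.mem_filter, Finset.mem_univ, true_and] at hb
      exact Finset.mem_singleton.2 (orbital_diag G (hb.trans ha.symm)).symm
    have h5 := Finset.card_le_card this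
    rw [Finset.card_singleton, hrow_const] at h5
    omega
  set S : Ω → Finset Ω := fun a => (Finset.univ.filter fun b => orbital G a b ≠ q).erase a with hSdef
  have hScard : ∀ a, (S a).card + 1 + (Q x).card = n := by
    intro a
    rw [hSdef, Finset.card_erase_add_one (by simp [hqdiag a]), ← hrow_const a, hQdef, add_comm,
      Finset.card_filter_add_card_filter_not, Finset.card_univ]
  have hSmem : ∀ a b, b ∈ S a ↔ b ≠ a ∧ orbital G a b ≠ q := fun a b => by
    simp [hSdef]
  have hSsymm : ∀ a b, b ∈ S a → a ∈ S b := fun a b h => by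
    rw [hSmem] at h ⊢
    exact ⟨h.1.symm, fun e => h.2 (hqsymm _ _ e)⟩
  set l := (S x).card with hl
  have hSl : ∀ a, (S a).card = l := fun a => by
    have := hScard a; have := hScard x; omega
  -- some non-dominant orbital exists
  obtain ⟨s₀, hs₀⟩ : ∃ s, s ∈ S x := by
    by_contra hc
    push Not at hc
    apply h2
    rw [is_two_pretransitive_iff]
    intro a b c d hab hcd
    have hall : ∀ a b : Ω, a ≠ b → orbital G a b = q := by
      intro a b hne
      obtain ⟨g, rfl⟩ := exists_smul_eq G x a
      by_contra hbq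
      refine hc (g⁻¹ • b) ((hSmem _ _).2 ⟨fun e => hne (by rw [← e, smul_inv_smul]), fun e => hbq ?_⟩)
      refine Eq.trans ?_ e
      rw [← orbital_smul G g x, smul_inv_smul]
    obtain ⟨g, hg1, hg2⟩ := exists_of_orbital_eq G ((hall c d hcd).trans (hall a b hab).symm)
    exact ⟨g, hg1, hg2⟩
  obtain ⟨hs₀x, hs₀q⟩ := (hSmem _ _).1 hs₀
  -- a path of length two in the complement of the dominant orbital ends in it
  obtain ⟨a, b, c, hbS, hcS, hacq⟩ : ∃ a b c, b ∈ S a ∧ c ∈ S b ∧ orbital G a c = q := by
    by_contra hc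
    push Not at hc
    have hR := closed_eq_univ (G := G) (fun u v => u = v ∨ v ∈ S u)
      ⟨fun u => Or.inl rfl, fun {u v} h => h.elim (fun e => Or.inl e.symm) (fun e => Or.inr (hSsymm _ _ e)),
        fun {u v w} h h' => by
          rcases h with rfl | h
          · exact h'
          rcases h' with rfl | h'
          · exact Or.inr h
          by_cases e : u = w
          · exact Or.inl e
          · exact Or.inr ((hSmem _ _).2 ⟨Ne.symm e, hc u v w h h'⟩)⟩
      (fun g u v h => h.elim (fun e => Or.inl (congrArg (g • ·) e)) (fun e => by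
        right
        rw [hSmem] at e ⊢
        exact ⟨fun h' => e.1 (smul_left_cancel g h'), by rw [orbital_smul]; exact e.2⟩))
      hs₀x.symm (Or.inr hs₀)
    obtain ⟨w, hw⟩ : (Q x).Nonempty := Finset.card_pos.1 (by omega)
    simp only [hQdef, Finset.mem_filter, Finset.mem_univ, true_and] at hw
    rcases hR x w with e | e
    · exact hqdiag x (by rw [← e] at hw; exact hw)
    · exact ((hSmem _ _).1 e).2 hw
  -- common neighbours of a dominant pair
  set μ := (S a ∩ S c).card with hμ
  have hμconst : ∀ a' c', orbital G a' c' = q → (S a' ∩ S c').card = μ := by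
    intro a' c' h
    obtain ⟨g, rfl, rfl⟩ := exists_of_orbital_eq G (h.trans hacq.symm)
    refine Finset.card_bij (fun z _ => g⁻¹ • z) (fun z hz => ?_) (fun z _ w _ e => smul_left_cancel _ e)
      (fun z hz => ⟨g • z, ?_, inv_smul_smul _ _⟩)
    · simp only [Finset.mem_inter, hSmem] at hz ⊢
      rw [← orbital_smul G g a, ← orbital_smul G g c, smul_inv_smul]
      exact ⟨⟨fun e => hz.1.1 (by rw [← e, smul_inv_smul]), hz.1.2⟩,
        ⟨fun e => hz.2.1 (by rw [← e, smul_inv_smul]), hz.2.2⟩⟩
    · simp only [Finset.mem_inter, hSmem, orbital_smul] at hz ⊢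
      exact ⟨⟨fun e => hz.1.1 (smul_left_cancel g e), hz.1.2⟩,
        ⟨fun e => hz.2.1 (smul_left_cancel g e), hz.2.2⟩⟩
  have hμ1 : 1 ≤ μ :=
    Finset.card_pos.2 ⟨b, Finset.mem_inter.2 ⟨hbS, hSsymm _ _ hcS⟩⟩
  have hKμ : (Q x).card * μ ≤ l * l := by
    have h1 : ∑ w ∈ Q x, (S x ∩ S w).card = (Q x).card * μ := by
      rw [Finset.sum_congr rfl (fun w hw => hμconst x w (by simpa [hQdef] using hw)), Finset.sum_const,
        smul_eq_mul]
    rw [← h1]
    calc ∑ w ∈ Q x, (S x ∩ S w).card = ∑ w ∈ Q x, ∑ u ∈ S x, (if u ∈ S w then 1 else 0) := by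
          refine Finset.sum_congr rfl fun w _ => ?_
          rw [Finset.sum_boole, Nat.cast_id, ← Finset.filter_mem_eq_inter]
      _ = ∑ u ∈ S x, ∑ w ∈ Q x, (if u ∈ S w then 1 else 0) := Finset.sum_comm
      _ ≤ ∑ u ∈ S x, l := Finset.sum_le_sum fun u _ => by
          rw [Finset.sum_boole, Nat.cast_id, ← hSl u]
          exact Finset.card_le_card fun w hw => hSsymm _ _ (Finset.mem_filter.1 hw).2
      _ = l * l := by rw [Finset.sum_const, smul_eq_mul]
  have hl4 : 4 * l < n ∧ 3 * l < (Q x).card := by have := hScard x; omega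
  have hμl : 3 * μ ≤ l := by
    by_contra hc
    have h1 : l * (Q x).card ≤ 3 * μ * (Q x).card := Nat.mul_le_mul_right _ (by omega)
    have h3 : l * (3 * l) < l * (Q x).card :=
      Nat.mul_lt_mul_of_pos_left hl4.2 (Finset.card_pos.2 ⟨s₀, hs₀⟩)
    nlinarith [h1, h3, hKμ]
  have hdac : 4 * l ≤ 3 * (distSet G a c).card := by
    have hsub : (S a \ S c) ∪ (S c \ S a) ⊆ distSet G a c := by
      intro z hz
      rw [Finset.mem_union, Finset.mem_sdiff, Finset.mem_sdiff, hSmem, hSmem] at hz
      rw [mem_distSet]
      rcases hz with ⟨⟨h1, h1'⟩, h2'⟩ | ⟨⟨h1, h1'⟩, h2'⟩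
      · intro e
        refine h2' ⟨?_, e ▸ h1'⟩
        intro ez; rw [ez] at h1'; exact h1' hacq
      · intro e
        refine h2' ⟨?_, e.symm ▸ h1'⟩
        intro ez; rw [ez] at h1'; exact h1' (hqsymm _ _ hacq)
    have h1 := Finset.card_le_card hsub
    rw [Finset.card_union_of_disjoint disjoint_sdiff_sdiff] at h1
    have h3 := Finset.card_sdiff_add_card_inter (S a) (S c)
    have h4 := Finset.card_sdiff_add_card_inter (S c) (S a)
    rw [Finset.inter_comm] at h4
    rw [hSl] at h3 h4
    omega
  set Γ := orbGraph G x y hxy with hΓ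
  have hconn : Γ.Connected := orbGraph_connected x y hxy
  set t := Γ.dist a c with ht
  have hDt : (distSet G a c).card ≤ t * D := distSet_le_dist_mul x y hxy a c
  by_cases hqxy : orbital G x y = q
  · have ht1 : (distSet G a c).card = D := card_distSet_of_orbital G (hacq.trans hqxy.symm)
    have hK : (Q x).card ≤ l * l := by
      refine le_trans (Nat.le_mul_of_pos_right _ hμ1) hKμ
    have hlD : l ≤ D := by omega
    have h1 : l * l ≤ D * D := Nat.mul_le_mul hlD hlD
    have := hScard x
    have : l ≤ l * l := Nat.le_mul_self l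
    rw [sq]
    omega
  · -- neighbours avoid the dominant orbital
    have hadj : ∀ u v, Γ.Adj u v → v ∈ S u := by
      intro u v h
      refine (hSmem _ _).2 ⟨h.ne', fun e => hqxy ?_⟩
      rcases h with h | h
      · exact h.symm.trans e
      · exact h.symm.trans (hqsymm _ _ e)
    set k : Ω → Finset Ω := fun u => Finset.univ.filter fun v => Γ.Adj u v with hk
    have hkconst : ∀ u, (k u).card = (k a).card := by
      intro u
      obtain ⟨g, rfl⟩ := exists_smul_eq G a u
      refine Finset.card_bij (fun v _ => g⁻¹ • v) (fun v hv => ?_) (fun v _ w _ e => smul_left_cancel _ e)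
        (fun v hv => ⟨g • v, ?_, inv_smul_smul _ _⟩)
      · simp only [hk, Finset.mem_filter, Finset.mem_univ, true_and] at hv ⊢
        have := orbGraph_adj_smul g⁻¹ hv
        rwa [inv_smul_smul] at this
      · simp only [hk, Finset.mem_filter, Finset.mem_univ, true_and] at hv ⊢
        exact orbGraph_adj_smul g hv
    have hcover : Finset.univ.erase a ⊆ (k a).biUnion fun v => distSet G a v := by
      intro z hz
      have hza := Finset.ne_of_mem_erase hz
      obtain ⟨p, hp⟩ := hconn.exists_walk_length_eq_dist a z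
      cases p with
      | nil => exact absurd rfl hza
      | @cons _ v _ h p =>
        refine Finset.mem_biUnion.2 ⟨v, Finset.mem_filter.2 ⟨Finset.mem_univ _, h⟩, (mem_distSet G).2 fun e => ?_⟩
        have he := orbGraph_dist_eq x y hxy e
        have hle := SimpleGraph.dist_le p
        rw [SimpleGraph.Walk.length_cons] at hp
        rw [← hΓ] at he
        omega
    have hnk : n - 1 ≤ (k a).card * D := by
      have h1 := (Finset.card_le_card hcover).trans (Finset.card_biUnion_le)
      rw [Finset.card_erase_of_mem (Finset.mem_univ _), Finset.card_univ,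
        Finset.sum_congr rfl (fun v hv => show (distSet G a v).card = D by
          rcases (Finset.mem_filter.1 hv).2 with h | h
          · exact card_distSet_of_orbital G h
          · rw [distSet_comm]; exact card_distSet_of_orbital G h),
        Finset.sum_const, smul_eq_mul] at h1
      exact h1
    have ht2 : 2 ≤ t := by
      have hne : a ≠ c := fun e => hqdiag a (by rw [← e] at hacq; exact hacq)
      have h0 : 0 < t := hconn.pos_dist_of_ne hne
      have h1 : t ≠ 1 := fun e => ((hSmem _ _).1 (hadj a c (SimpleGraph.dist_eq_one_iff_adj.1 e))).2 hacq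
      omega
    -- disjoint neighbourhoods along a geodesic, all inside `S a`
    obtain ⟨p, hp⟩ := hconn.exists_walk_length_eq_dist a c
    have hd : ∀ j, j ≤ t → Γ.dist a (p.getVert j) = j := by
      intro j hj
      refine le_antisymm ((SimpleGraph.dist_le (p.take j)).trans_eq ?_) ?_
      · rw [SimpleGraph.Walk.take_length, hp]; omega
      · have h1 := hconn.dist_triangle (u := a) (v := p.getVert j) (w := c)
        have h2 := SimpleGraph.dist_le (p.drop j)
        rw [SimpleGraph.Walk.drop_length, hp] at h2
        omega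
    set s := (t - 2) / 3 + 1 with hs
    let T : ℕ → Finset Ω := fun i => k (p.getVert (3 * i))
    have hrange : ∀ i, i < s → ∀ z ∈ T i, Γ.dist a z ≤ 3 * i + 1 ∧ 3 * i ≤ Γ.dist a z + 1 ∧ z ∈ S a := by
      intro i hi z hz
      have hadjz : Γ.Adj (p.getVert (3 * i)) z := (Finset.mem_filter.1 hz).2
      have h1 := hconn.dist_triangle (u := a) (v := p.getVert (3 * i)) (w := z)
      have h2 := hconn.dist_triangle (u := a) (v := z) (w := p.getVert (3 * i))
      have e1 := SimpleGraph.dist_eq_one_iff_adj.2 hadjz
      have e2 := SimpleGraph.dist_eq_one_iff_adj.2 hadjz.symm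
      rw [hd _ (by omega), e1] at h1
      rw [hd _ (by omega), e2] at h2
      refine ⟨h1, h2, ?_⟩
      rcases Nat.eq_zero_or_pos i with rfl | hi0
      · rw [Nat.mul_zero, SimpleGraph.Walk.getVert_zero] at hadjz
        exact hadj _ _ hadjz
      · refine (hSmem _ _).2 ⟨fun e => ?_, fun e => ?_⟩
        · rw [e, SimpleGraph.dist_self] at h2; omega
        · have := orbGraph_dist_eq x y hxy (e.trans hacq.symm)
          rw [← hΓ] at this
          omega
    have hsum : s * (k a).card ≤ l := by
      rw [← hSl a]
      have hdisj : ∀ i ∈ Finset.range s, ∀ j ∈ Finset.range s, i ≠ j → Disjoint (T i) (T j) := by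
        intro i hi j hj hne
        rw [Finset.disjoint_left]
        intro z hz hz'
        obtain ⟨a1, a2, -⟩ := hrange i (Finset.mem_range.1 hi) z hz
        obtain ⟨b1, b2, -⟩ := hrange j (Finset.mem_range.1 hj) z hz'
        omega
      have : ((Finset.range s).biUnion T).card = s * (k a).card := by
        rw [Finset.card_biUnion (by exact hdisj), Finset.sum_congr rfl (fun i _ => hkconst _),
          Finset.sum_const, Finset.card_range, smul_eq_mul]
      rw [← this]
      exact Finset.card_le_card fun z hz => by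
        obtain ⟨i, hi, hz⟩ := Finset.mem_biUnion.1 hz
        exact (hrange i (Finset.mem_range.1 hi) z hz).2.2
    have h4s : t * (k a).card ≤ 4 * s * (k a).card := Nat.mul_le_mul_right _ (by omega)
    have hkD : (k a).card ≤ 3 * D := by
      refine Nat.le_of_mul_le_mul_left (show t * (k a).card ≤ t * (3 * D) from ?_) (by omega)
      calc t * (k a).card ≤ 4 * s * (k a).card := h4s
        _ = 4 * (s * (k a).card) := mul_assoc _ _ _
        _ ≤ 3 * (t * D) := by omega
        _ = t * (3 * D) := by ring
    have : (k a).card * D ≤ 3 * D * D := Nat.mul_le_mul_right D hkD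
    rw [sq]
    rw [mul_assoc] at this
    omega

/-- Doubly transitive groups: two conjugates meeting in one point. -/
theorem exists_meet_once [Finite G] (h2 : IsMultiplyPretransitive G Ω 2) (M : Finset Ω) (x : Ω) (hx : x ∈ M)
    (hsmall : (M.card - 1) * (M.card - 1) + 1 < Fintype.card Ω) :
    ∃ h : G, ∀ z, (z ∈ M ∧ h⁻¹ • z ∈ M) ↔ z = x := by
  classical
  haveI := Fintype.ofFinite G
  by_contra hc
  push Not at hc
  rw [is_two_pretransitive_iff] at h2
  set n := Fintype.card Ω
  -- elements with a prescribed action on an ordered pair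
  let W : Ω → Ω → Ω → Finset G := fun a b u =>
    Finset.univ.filter fun h => h • a = x ∧ h • b = u
  obtain ⟨x', hx'⟩ : ∃ x', x' ≠ x := Fintype.exists_ne_of_one_lt_card (by omega) x
  set c := (W x x' x').card with hcdef
  have hW : ∀ a b u, a ≠ b → u ≠ x → (W a b u).card = c := by
    intro a b u hab hu
    obtain ⟨α, hα1, hα2⟩ := h2 hx'.symm hab
    obtain ⟨β, hβ1, hβ2⟩ := h2 hx'.symm hu.symm
    refine Finset.card_bij (fun h _ => β⁻¹ * h * α) (fun h hh => ?_) (fun h _ k _ e => by simpa using e)
      (fun h hh => ⟨β * h * α⁻¹, ?_, by simp [mul_assoc]⟩)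
    · simp only [W, Finset.mem_filter, Finset.mem_univ, true_and] at hh ⊢
      simp only [mul_smul, hα1, hα2, hh.1, hh.2]
      exact ⟨inv_smul_eq_iff.2 hβ1.symm, inv_smul_eq_iff.2 hβ2.symm⟩
    · simp only [W, Finset.mem_filter, Finset.mem_univ, true_and] at hh ⊢
      have e1 : α⁻¹ • a = x := inv_smul_eq_iff.2 hα1.symm
      have e2 : α⁻¹ • b = x' := inv_smul_eq_iff.2 hα2.symm
      simp only [mul_smul, e1, e2, hh.1, hh.2, hβ1, hβ2, and_self]
  have hcpos : 0 < c := Finset.card_pos.2 ⟨1, by simp [W]⟩
  set H0 := Finset.univ.filter fun h : G => h⁻¹ • x ∈ M with hH0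
  have hfib : ∀ u, u ≠ x → ∀ (P : Finset Ω), ((H0.filter fun h => h⁻¹ • u ∈ P)).card =
      ∑ a ∈ M, (P.erase a).card * c := by
    intro u hu P
    rw [Finset.card_eq_sum_card_fiberwise (f := fun h : G => (h⁻¹ • x, h⁻¹ • u))
      (t := M.biUnion fun a => (P.erase a).image fun b => (a, b))]
    · rw [Finset.sum_biUnion]
      · refine Finset.sum_congr rfl fun a ha => ?_
        rw [Finset.sum_image (fun b _ b' _ e => congrArg Prod.snd e)]
        rw [Finset.sum_congr rfl (fun b hb => ?_), Finset.sum_const, smul_eq_mul]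
        obtain ⟨hba, hbP⟩ := Finset.mem_erase.1 hb
        rw [← hW a b u hba.symm hu]
        congr 1
        ext h
        simp only [W, hH0, Finset.mem_filter, Finset.mem_univ, true_and, Prod.mk.injEq]
        constructor
        · rintro ⟨-, e1, e2⟩
          rw [← e1, ← e2]; simp
        · rintro ⟨e1, e2⟩
          have d1 : h⁻¹ • x = a := by rw [← e1]; simp
          have d2 : h⁻¹ • u = b := by rw [← e2]; simp
          rw [d1, d2]
          exact ⟨⟨ha, hbP⟩, rfl, rfl⟩
      · intro a _ a' _ hne
        rw [Function.onFun, Finset.disjoint_left]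
        intro z hz hz'
        obtain ⟨b, -, rfl⟩ := Finset.mem_image.1 hz
        obtain ⟨b', -, e⟩ := Finset.mem_image.1 hz'
        exact hne (congrArg Prod.fst e).symm
    · intro h hh
      rw [Finset.mem_coe, Finset.mem_filter, hH0, Finset.mem_filter] at hh
      refine Finset.mem_biUnion.2 ⟨_, hh.1.2, Finset.mem_image.2 ⟨_, Finset.mem_erase.2 ⟨?_, hh.2⟩, rfl⟩⟩
      exact fun e => hu (smul_left_cancel _ e)
  have hH0card : H0.card = M.card * ((n - 1) * c) := by
    have := hfib x' hx' Finset.univ
    rw [Finset.filter_true_of_mem (fun h _ => Finset.mem_univ _)] at this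
    rw [this, Finset.sum_congr rfl (fun a _ => by
      rw [Finset.card_erase_of_mem (Finset.mem_univ _), Finset.card_univ]), Finset.sum_const, smul_eq_mul]
  have hMf : ∀ u ∈ M.erase x, (H0.filter fun h => h⁻¹ • u ∈ M).card = M.card * ((M.card - 1) * c) := by
    intro u hu
    rw [hfib u (Finset.ne_of_mem_erase hu) M, Finset.sum_congr rfl (fun a ha => by
      rw [Finset.card_erase_of_mem ha]), Finset.sum_const, smul_eq_mul]
  have hcov : H0 ⊆ (M.erase x).biUnion fun u => H0.filter fun h => h⁻¹ • u ∈ M := by
    intro h hh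
    obtain ⟨z, hz⟩ := hc h
    rcases hz with ⟨hz1, hz2⟩ | ⟨hz1, hz2⟩
    · exact Finset.mem_biUnion.2 ⟨z, Finset.mem_erase.2 ⟨hz2, hz1.1⟩, Finset.mem_filter.2 ⟨hh, hz1.2⟩⟩
    · subst hz2
      exact absurd (Finset.mem_filter.1 hh).2 (hz1 hx)
  have hle := (Finset.card_le_card hcov).trans Finset.card_biUnion_le
  rw [Finset.sum_congr rfl hMf, Finset.sum_const, Finset.card_erase_of_mem hx, smul_eq_mul, hH0card,
    ← mul_assoc (M.card - 1), mul_comm (M.card - 1) M.card, mul_assoc, ← mul_assoc (M.card - 1)] at hle
  have h3 : (n - 1) * c ≤ (M.card - 1) * (M.card - 1) * c :=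
    Nat.le_of_mul_le_mul_left hle (Finset.card_pos.2 ⟨x, hx⟩)
  have := Nat.le_of_mul_le_mul_right h3 hcpos
  omega

/-- Minimal degree of a primitive group without the alternating group. -/
theorem card_le_moved_sq [Finite G] [FaithfulSMul G Ω] [IsPreprimitive G Ω]
    (hA : ¬ alternatingGroup Ω ≤ (toPermHom G Ω).range) (g : G) (hg : g ≠ 1) :
    Fintype.card Ω ≤ 4 * (toPerm g : Equiv.Perm Ω).support.card ^ 2 + 1 := by
  set M := (toPerm g : Equiv.Perm Ω).support with hM
  obtain ⟨x, hx⟩ : M.Nonempty := by
    rw [Finset.nonempty_iff_ne_empty]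
    intro e
    rw [hM, Equiv.Perm.support_eq_empty_iff] at e
    exact hg (FaithfulSMul.eq_of_smul_eq_smul fun z : Ω => by
      rw [one_smul]; exact DFunLike.congr_fun e z)
  by_cases h2 : IsMultiplyPretransitive G Ω 2
  · by_contra hlt
    have h1 : (M.card - 1) * (M.card - 1) ≤ M.card * M.card :=
      Nat.mul_le_mul (Nat.sub_le _ _) (Nat.sub_le _ _)
    rw [sq] at hlt
    obtain ⟨h, hh⟩ := exists_meet_once (G := G) h2 M x hx (by omega)
    apply hA
    let φ : G →* Equiv.Perm Ω := toPermHom G Ω
    have hmem : ∀ k, φ k ∈ φ.range := fun k => ⟨k, rfl⟩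
    haveI : IsPreprimitive φ.range Ω := by
      let f : Ω →ₑ[φ.rangeRestrict] Ω := { toFun := id, map_smul' := fun _ _ => rfl }
      exact IsPreprimitive.of_surjective (f := f) Function.surjective_id
    refine Equiv.Perm.alternatingGroup_le_of_isPreprimitive_of_isThreeCycle_mem inferInstance
      (isThreeCycle_commutator (φ g) (φ (h * g * h⁻¹)) x ?_)
      (φ.range.mul_mem (φ.range.mul_mem (φ.range.mul_mem (hmem g) (hmem _)) (φ.range.inv_mem (hmem g)))
        (φ.range.inv_mem (hmem _)))
    have hsup : ∀ z, z ∈ (φ (h * g * h⁻¹)).support ↔ h⁻¹ • z ∈ M := by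
      intro z
      rw [hM, Equiv.Perm.mem_support, Equiv.Perm.mem_support]
      show (h * g * h⁻¹) • z ≠ z ↔ g • h⁻¹ • z ≠ h⁻¹ • z
      rw [mul_smul, mul_smul, ne_eq, ne_eq, eq_inv_smul_iff]
    ext z
    rw [Finset.mem_inter, hsup, Finset.mem_singleton]
    exact hh z
  · have hxne : x ≠ g • x := fun e => (Equiv.Perm.mem_support.1 hx) e.symm
    refine (card_le_distSet_sq h2 x (g • x) hxne).trans ?_
    gcongr
    intro z hz
    rw [mem_distSet] at hz
    rw [Equiv.Perm.mem_support]
    intro e
    have e' : g • z = z := e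
    apply hz
    conv_rhs => rw [← e', orbital_smul]

end H46
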