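import Mathlib
import Cfsg.Agent.H45.NondegFinal
import Cfsg.Agent.H46.OrthEightBlock

/-!
# Stabilisers of non-degenerate three- and four-spaces in eight dimensions

The first mixed vector: an element outside the stabiliser is conjugated into a pair of reflections
which fixes a non-singular vector of one side.
-/

set_option autoImplicit false
set_option linter.unusedSectionVars false

namespace H46
namespace Eight

open H43 H45

variable {F : Type*} [Field F] [Finite F] {V : Type*} [AddCommGroup V] [Module F V]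
  [FiniteDimensional F V] {Q : QuadraticForm F V}

variable (hQ : (polB Q).Nondegenerate) {W : Submodule F V}
  (hW : W ⊓ (polB Q).orthogonal W = ⊥) (hgen : ReflGenerates F V)
  (hd : (2 : F) ≠ 0 ∨
    Module.finrank F W = 4 ∧ Module.finrank F ((polB Q).orthogonal W) = 4)
  (hm : 4 ≤ Module.finrank F ((polB Q).orthogonal W))
  (hts : 5 ≤ Module.finrank F ((polB Q).orthogonal W) ∨
    ∀ U ≤ (polB Q).orthogonal W, Module.finrank F U = 2 → ∃ u ∈ U, Q u ≠ 0)

include hQ hW hd hm hts

/-- The large side has no totally singular hyperplane of a hyperplane. -/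
lemma exists_fixed (u v : V) :
    ∃ s ∈ (polB Q).orthogonal W, Q s ≠ 0 ∧ polB Q s u = 0 ∧ polB Q s v = 0 := by
  set W' := (polB Q).orthogonal W with hW'
  let L : W' →ₗ[F] F × F := (((polB Q).flip u).prod ((polB Q).flip v)).comp W'.subtype
  have h3 : Module.finrank F (LinearMap.range L) ≤ 2 := (Submodule.finrank_le _).trans (by simp)
  have h4 := L.finrank_range_add_finrank_ker
  by_contra hcon
  push Not at hcon
  have hzero : ∀ y ∈ LinearMap.ker L, Q (y : V) = 0 := fun y hy => by
    by_contra h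
    exact hcon y y.2 h (congrArg Prod.fst hy) (congrArg Prod.snd hy)
  have h5 := two_mul_finrank_singular_le (H45.restrict_nondeg (orth_inf hQ hW hd hm))
    (LinearMap.ker L) (fun y hy => by simpa using hzero y hy)
  have h5' : 2 * Module.finrank F (LinearMap.ker L) ≤ Module.finrank F W' := h5
  rcases hts with h | h
  · omega
  · have hdim : 2 ≤ Module.finrank F ((LinearMap.ker L).map W'.subtype) := by
      rw [Submodule.finrank_map_subtype_eq]
      omega
    obtain ⟨U, hU, hU2⟩ : ∃ U ≤ (LinearMap.ker L).map W'.subtype, Module.finrank F U = 2 := by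
      obtain ⟨f, hf⟩ := exists_linearIndependent_of_le_finrank hdim
      refine ⟨((Submodule.span F (Set.range f)).map ((LinearMap.ker L).map W'.subtype).subtype), ?_, ?_⟩
      · exact Submodule.map_subtype_le _ _
      · rw [Submodule.finrank_map_subtype_eq, finrank_span_eq_card hf, Fintype.card_fin]
    obtain ⟨w, hw, hw0⟩ := h U (hU.trans (Submodule.map_subtype_le _ _)) hU2
    obtain ⟨y, hy, rfl⟩ := hU hw
    exact hw0 (hzero y hy)

/-- A value split between two orthogonal parts of the large side. -/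
lemma exists_split {T T' : Submodule F V} (hle : T ≤ (polB Q).orthogonal W)
    (hle' : T' ≤ (polB Q).orthogonal W) (hT : T ⊓ (polB Q).orthogonal T = ⊥)
    (hT' : T' ⊓ (polB Q).orthogonal T' = ⊥) (horth : ∀ x ∈ T, ∀ y ∈ T', polB Q x y = 0)
    (hne : T' ≠ ⊥) (h : (2 ≤ Module.finrank F T ∧ 2 ≤ Module.finrank F T') ∨
      3 ≤ Module.finrank F T) {δ : F} (hδ : δ ≠ 0) :
    ∃ x ∈ T, ∃ y ∈ T', x ≠ 0 ∧ y ≠ 0 ∧ Q (x + y) = δ := by
  have hrad : Module.finrank F ↥(T ⊓ (polB Q).orthogonal T) = 0 := by rw [hT, finrank_bot]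
  have hrad' : Module.finrank F ↥(T' ⊓ (polB Q).orthogonal T') = 0 := by rw [hT', finrank_bot]
  have hsum : ∀ x ∈ T, ∀ y ∈ T', Q (x + y) = Q x + Q y := fun x hx y hy => by
    rw [qmap_add, horth x hx y hy, add_zero]
  rcases h with ⟨h3, h4⟩ | h3
  · by_cases hc : ∃ c : F, c ≠ 0 ∧ δ - c ≠ 0
    · obtain ⟨c, hc0, hc1⟩ := hc
      obtain ⟨y, hy, hy', hyc⟩ := exists_value' (Q := Q) T' (by omega) c (Or.inl hc0)
      obtain ⟨x, hx, hx', hxc⟩ := exists_value' (Q := Q) T (by omega) (δ - c) (Or.inl hc1)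
      exact ⟨x, hx, y, hy, fun e => hx' (e ▸ zero_mem _), fun e => hy' (e ▸ zero_mem _),
        by rw [hsum x hx y hy, hxc, hyc]; ring⟩
    -- the field has two elements
    push Not at hc
    have hF : ∀ c : F, c = 0 ∨ c = δ := fun c =>
      or_iff_not_imp_left.mpr fun h => (sub_eq_zero.mp (hc c h)).symm
    have h2 : (2 : F) = 0 := by
      rcases hF (-δ) with h | h
      · exact absurd (neg_eq_zero.mp h) hδ
      · refine (mul_eq_zero.mp (show (2 : F) * δ = 0 by linear_combination -h)).resolve_right hδ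
    by_contra hcon
    push Not at hcon
    have hval : ∀ x ∈ T, ∀ y ∈ T', x ≠ 0 → y ≠ 0 → Q x = Q y := by
      intro x hx y hy hx0 hy0
      have hne' := hcon x hx y hy hx0 hy0
      rw [hsum x hx y hy] at hne'
      rcases hF (Q x) with a | a <;> rcases hF (Q y) with b | b <;> rw [a, b] at hne' ⊢
      · exact absurd (zero_add δ) hne'
      · exact absurd (add_zero δ) hne'
    have hfour : Module.finrank F ((polB Q).orthogonal W) = 4 :=
      ((hd.resolve_left (not_not.mpr h2))).2
    have hdisj : T ⊓ T' = ⊥ := by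
      rw [eq_bot_iff, ← hT]
      exact fun x hx => ⟨hx.1, fun t ht => horth t ht x hx.2⟩
    have heq : Module.finrank F T = Module.finrank F T' := by
      have h5 := Submodule.finrank_sup_add_finrank_inf_eq T T'
      rw [hdisj, finrank_bot] at h5
      have h6 := Submodule.finrank_mono (sup_le hle hle')
      omega
    have hd2 : Module.finrank F T = 2 := by
      have h5 := Submodule.finrank_sup_add_finrank_inf_eq T T'
      rw [hdisj, finrank_bot] at h5
      have h6 := Submodule.finrank_mono (sup_le hle hle')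
      omega
    let φ := LinearEquiv.ofFinrankEq T T' heq
    let G : T →ₗ[F] V := T.subtype + T'.subtype ∘ₗ (φ : T →ₗ[F] T')
    have hG : ∀ x, G x = (x : V) + (φ x : V) := fun _ => rfl
    have hinj : Function.Injective G := by
      rw [← LinearMap.ker_eq_bot, eq_bot_iff]
      intro x hx
      rw [LinearMap.mem_ker, hG] at hx
      have hmem : (x : V) ∈ T ⊓ T' :=
        ⟨x.2, by rw [eq_neg_of_add_eq_zero_left hx]; exact neg_mem (φ x).2⟩
      rw [hdisj, Submodule.mem_bot] at hmem
      simpa using hmem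
    rcases hts with h5 | h5
    · omega
    obtain ⟨u, ⟨x, rfl⟩, hu⟩ := h5 (LinearMap.range G) (by
        rintro _ ⟨x, rfl⟩
        exact add_mem (hle x.2) (hle' (φ x).2))
      (by rw [LinearMap.finrank_range_of_inj hinj, hd2])
    apply hu
    rw [hG, hsum _ x.2 _ (φ x).2]
    by_cases hx0 : x = 0
    · simp [hx0]
    rw [hval _ x.2 _ (φ x).2 (by simpa using hx0) (by simpa using hx0)]
    linear_combination Q (φ x : V) * h2
  · obtain ⟨y, hy, hy0⟩ := Submodule.exists_mem_ne_zero_of_ne_bot hne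
    obtain ⟨x, hx, hx', hxc⟩ := exists_value (Q := Q) T (by omega) (δ - Q y)
    exact ⟨x, hx, y, hy, fun e => hx' (e ▸ zero_mem _), hy0, by rw [hsum x hx y hy, hxc]; ring⟩

variable {M : Subgroup (orthGroup Q)} (hHM : commutator (orthGroup Q) ⊓ orthStab Q W ≤ M)

include hgen hHM

/-- An element of `M` outside the stabiliser keeping one non-singular vector on a side yields a
mixed vector in the block. -/
lemma exists_seed_of_pure {g : orthGroup Q} (hg : g ∈ M)
    (hswap : ¬ ∀ x ∈ (polB Q).orthogonal W, g.1 x ∈ W) (hgs : g ∉ orthStab Q W) {s : V}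
    (hs : s ∈ W ∨ s ∈ (polB Q).orthogonal W) (hs0 : Q s ≠ 0)
    (hgside : g.1 s ∈ W ∨ g.1 s ∈ (polB Q).orthogonal W) :
    ∃ a ∈ W, ∃ b ∈ (polB Q).orthogonal W, a ≠ 0 ∧ b ≠ 0 ∧ InB Q W M (a + b) := by
  set W' := (polB Q).orthogonal W with hW'
  set δ := Q s with hδdef
  by_cases hmix : ∃ x ∈ W', Q x = δ ∧ g.1 x ∉ W ∧ g.1 x ∉ W'
  · obtain ⟨x, hx, hxQ, hxW, hxW'⟩ := hmix
    have hx0 : Q x ≠ 0 := by rw [hxQ]; exact hs0
    set a := cmp hQ hW (g.1 x) with hadef
    have ha : a ∈ W := cmp_mem hQ hW _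
    set b := g.1 x - a with hbdef
    have hb : b ∈ W' := sub_cmp_mem hQ hW _
    have hsplit : g.1 x = a + b := by rw [hbdef]; abel
    refine ⟨a, ha, b, hb, fun h => hxW' (by rw [hsplit, h, zero_add]; exact hb),
      fun h => hxW (by rw [hsplit, h, add_zero]; exact ha), ?_⟩
    rw [← hsplit]
    refine ⟨g.1 s, hgside, sameCls_of_eq (by rw [orth_qmap]; exact hx0)
      (by rw [orth_qmap, orth_qmap, hxQ]), ?_⟩
    rw [← refl_conj, ← refl_conj, conj_mul]
    exact mul_mem (mul_mem hg (side_pair hQ hW hgen hd hm hHM (Or.inr hx) hs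
      (sameCls_of_eq hx0 (by rw [hxQ])))) (inv_mem hg)
  exfalso
  push Not at hmix
  have hside : ∀ x ∈ W', Q x = δ → g.1 x ∈ W ∨ g.1 x ∈ W' := fun x hx hxQ =>
    or_iff_not_imp_left.mpr (hmix x hx hxQ)
  have hzero : ∀ x, x ∈ W → x ∈ W' → x = 0 := fun x h h' => by
    have : x ∈ W ⊓ W' := ⟨h, h'⟩
    rwa [hW, Submodule.mem_bot] at this
  set T₁ := W' ⊓ W.comap (g.1 : V →ₗ[F] V) with hT₁
  set T₂ := W' ⊓ W'.comap (g.1 : V →ₗ[F] V) with hT₂
  have horth : ∀ x ∈ T₁, ∀ y ∈ T₂, polB Q x y = 0 := fun x hx y hy => by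
    rw [← orth_polB_map g]; exact polB_side hx.2 hy.2
  have hperp : ∀ r ∈ W', (∀ x ∈ T₁, polB Q x r = 0) → (∀ x ∈ T₂, polB Q x r = 0) → r = 0 := by
    intro r hr h1 h3
    by_contra hr0
    obtain ⟨x, hx, hxr, hxQ, -⟩ := exists_big_pair hQ hW hd hm hr hr0 1 δ (Or.inl one_ne_zero)
    rcases hside x hx hxQ with h | h
    · rw [h1 x ⟨hx, h⟩] at hxr; exact zero_ne_one hxr
    · rw [h3 x ⟨hx, h⟩] at hxr; exact zero_ne_one hxr
  have htop : W' ≤ T₁ ⊔ T₂ := by
    intro y hy
    have hall : W ⊔ (T₁ ⊔ T₂) = ⊤ := by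
      refine Submodule.eq_top_of_finrank_eq ?_
      have h1 := finrank_orth_add hQ (W ⊔ (T₁ ⊔ T₂))
      have h0 : (polB Q).orthogonal (W ⊔ (T₁ ⊔ T₂)) = ⊥ := by
        rw [eq_bot_iff]
        intro r hr
        rw [Submodule.mem_bot]
        exact hperp r (fun w hw => hr w (Submodule.mem_sup_left hw))
          (fun x hx => hr x (Submodule.mem_sup_right (Submodule.mem_sup_left hx)))
          (fun x hx => hr x (Submodule.mem_sup_right (Submodule.mem_sup_right hx)))
      rw [h0, finrank_bot] at h1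
      omega
    obtain ⟨w, hw, t, ht, rfl⟩ := Submodule.mem_sup.mp (hall ▸ Submodule.mem_top : y ∈ W ⊔ (T₁ ⊔ T₂))
    have ht' : t ∈ W' := (sup_le inf_le_left inf_le_left : T₁ ⊔ T₂ ≤ W') ht
    rw [hzero w hw (by simpa using sub_mem hy ht'), zero_add]
    exact ht
  have hT₁0 : T₁ ≠ ⊥ := by
    intro e
    refine hgs (orthStab_of_orthStab_orth hQ (mem_orthStab fun x hx => ?_))
    have := htop hx
    rw [e, bot_sup_eq] at this
    exact this.2
  have hT₂0 : T₂ ≠ ⊥ := by
    intro e
    refine hswap fun x hx => ?_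
    have := htop hx
    rw [e, sup_bot_eq] at this
    exact this.2
  have hnd₁ : T₁ ⊓ (polB Q).orthogonal T₁ = ⊥ := by
    rw [eq_bot_iff]
    rintro r ⟨hr, hr'⟩
    rw [Submodule.mem_bot]
    exact hperp r hr.1 hr' fun x hx => by rw [polB_comm]; exact horth r hr x hx
  have hnd₂ : T₂ ⊓ (polB Q).orthogonal T₂ = ⊥ := by
    rw [eq_bot_iff]
    rintro r ⟨hr, hr'⟩
    rw [Submodule.mem_bot]
    exact hperp r hr.1 (fun x hx => horth x hx r hr) hr'
  have hdim : Module.finrank F W' ≤ Module.finrank F T₁ + Module.finrank F T₂ :=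
    (Submodule.finrank_mono htop).trans (Submodule.finrank_add_le_finrank_add_finrank _ _)
  obtain ⟨x, hx, y, hy, hx0, hy0, hxy⟩ : ∃ x ∈ T₁, ∃ y ∈ T₂, x ≠ 0 ∧ y ≠ 0 ∧ Q (x + y) = δ := by
    rcases Nat.lt_or_ge (Module.finrank F T₁) 2 with h1 | h1
    · obtain ⟨y, hy, x, hx, hy0, hx0, he⟩ := exists_split hQ hW hd hm hts (T := T₂) (T' := T₁) inf_le_left
        inf_le_left hnd₂ hnd₁
        (fun x hx y hy => by rw [polB_comm]; exact horth y hy x hx) hT₁0 (Or.inr (by omega)) hs0
      exact ⟨x, hx, y, hy, hx0, hy0, by rw [add_comm]; exact he⟩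
    rcases Nat.lt_or_ge (Module.finrank F T₂) 2 with h3 | h3
    · exact exists_split hQ hW hd hm hts (T := T₁) (T' := T₂) inf_le_left inf_le_left hnd₁ hnd₂ horth hT₂0
        (Or.inr (by omega)) hs0
    · exact exists_split hQ hW hd hm hts (T := T₁) (T' := T₂) inf_le_left inf_le_left hnd₁ hnd₂ horth hT₂0
        (Or.inl ⟨h1, h3⟩) hs0
  rcases hside (x + y) (add_mem hx.1 hy.1) hxy with h | h <;> rw [map_add] at h
  · exact hy0 (g.1.injective (by
      rw [map_zero]; exact hzero _ (by simpa using sub_mem h hx.2) hy.2))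
  · exact hx0 (g.1.injective (by
      rw [map_zero]; exact hzero _ hx.2 (by simpa using sub_mem h hy.2)))

/-- An element outside the stabiliser yields a mixed vector in the block. -/
lemma exists_seed (hMC : M ≤ commutator (orthGroup Q))
    (hswap : ∀ g ∈ commutator (orthGroup Q), ¬ ∀ x ∈ (polB Q).orthogonal W, g.1 x ∈ W)
    {g : orthGroup Q} (hg : g ∈ M) (hgs : g ∉ orthStab Q W) :
    ∃ a ∈ W, ∃ b ∈ (polB Q).orthogonal W, a ≠ 0 ∧ b ≠ 0 ∧ InB Q W M (a + b) := by
  set W' := (polB Q).orthogonal W with hW'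
  by_cases hA : ∃ s, (s ∈ W ∨ s ∈ W') ∧ Q s ≠ 0 ∧ (g.1 s ∈ W ∨ g.1 s ∈ W')
  · obtain ⟨s, hs, hs0, hgside⟩ := hA
    exact exists_seed_of_pure hQ hW hgen hd hm hts hHM hg (hswap g (hMC hg)) hgs hs hs0 hgside
  push Not at hA
  obtain ⟨x, hx, -, -, hxQ⟩ := exists_one hQ hW hd hm 0 (one_ne_zero (α := F))
  obtain ⟨y, hy, hyout, hyx, hyQ⟩ := exists_one hQ hW hd hm x (one_ne_zero (α := F))
  have hx0 : Q x ≠ 0 := by rw [hxQ]; exact one_ne_zero
  have hy0 : Q y ≠ 0 := by rw [hyQ]; exact one_ne_zero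
  set h := refl Q (g.1 x) * refl Q (g.1 y) with hhdef
  have hhM : h ∈ M := by
    rw [hhdef, ← refl_conj, ← refl_conj, conj_mul]
    exact mul_mem (mul_mem hg (side_pair hQ hW hgen hd hm hHM (Or.inr hx) (Or.inr hy)
      (sameCls_of_eq hx0 (by rw [hyQ, hxQ])))) (inv_mem hg)
  have hhs : h ∉ orthStab Q W := by
    intro hh
    set a := cmp hQ hW (g.1 x) with hadef
    set a' := cmp hQ hW (g.1 y) with ha'def
    have ha : a ∈ W := cmp_mem hQ hW _
    have ha' : a' ∈ W := cmp_mem hQ hW _
    set b := g.1 x - a with hbdef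
    set b' := g.1 y - a' with hb'def
    have hb : b ∈ W' := sub_cmp_mem hQ hW _
    have hb' : b' ∈ W' := sub_cmp_mem hQ hW _
    have ha0 : a ≠ 0 := fun e => (hA x (Or.inr hx) hx0).2 (by
      rw [hbdef, e, sub_zero] at hb; exact hb)
    have hb0 : b ≠ 0 := fun e => (hA x (Or.inr hx) hx0).1 (by
      rw [show g.1 x = a from sub_eq_zero.mp e]; exact ha)
    have hb'0 : b' ≠ 0 := fun e => (hA y (Or.inr hy) hy0).1 (by
      rw [show g.1 y = a' from sub_eq_zero.mp e]; exact ha')
    have hxy : polB Q (g.1 x) (g.1 y) = 0 := by rw [orth_polB_map, polB_comm, hyx]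
    -- the displacement of a vector of `W` lies in `W`
    have hrel : ∀ w ∈ W, polB Q w a • b + polB Q w a' • b' = 0 := by
      intro w hw
      have hhw : h.1 w ∈ W := by
        have hh' : W.map (h.1 : V →ₗ[F] V) = W := hh
        rw [← hh']
        exact ⟨w, hw, rfl⟩
      have e1 : polB Q w (g.1 x) = polB Q w a := by
        rw [show g.1 x = a + b by rw [hbdef]; abel, map_add, polB_side hw hb, add_zero]
      have e2 : polB Q w (g.1 y) = polB Q w a' := by
        rw [show g.1 y = a' + b' by rw [hb'def]; abel, map_add, polB_side hw hb', add_zero]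
      have e : h.1 w = w - polB Q w a • g.1 x - polB Q w a' • g.1 y := by
        rw [hhdef, orth_mul_apply, refl_apply (g.1 y), refl_apply (g.1 x), orth_qmap, orth_qmap, hxQ,
          hyQ]
        simp only [inv_one, one_mul, map_sub, map_smul, LinearMap.sub_apply, LinearMap.smul_apply,
          polB_comm (g.1 y) (g.1 x), hxy, smul_zero, sub_zero, e1, e2]
        abel
      have hmem : polB Q w a • g.1 x + polB Q w a' • g.1 y ∈ W := by
        have := sub_mem hw hhw
        rw [e] at this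
        simpa [sub_sub] using this
      have hmem' : polB Q w a • b + polB Q w a' • b' ∈ W ⊓ W' := by
        refine ⟨?_, add_mem (W'.smul_mem _ hb) (W'.smul_mem _ hb')⟩
        have := sub_mem hmem (add_mem (W.smul_mem (polB Q w a) ha) (W.smul_mem (polB Q w a') ha'))
        simpa [hbdef, hb'def, smul_sub, add_sub_add_comm] using this
      rwa [hW, Submodule.mem_bot] at hmem'
    -- the components outside `W` are proportional
    obtain ⟨c, hc⟩ : ∃ c : F, c • b = b' := by
      by_contra hcon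
      push Not at hcon
      have hli : LinearIndependent F ![b, b'] := (LinearIndependent.pair_iff' hb0).mpr hcon
      refine ha0 ((Submodule.mem_bot F).mp (hW.le ⟨ha, fun w hw => ?_⟩))
      exact (LinearIndependent.pair_iff.mp hli _ _ (hrel w hw)).1
    have hc0 : c ≠ 0 := fun e => hb'0 (by rw [← hc, e, zero_smul])
    have haa' : a + c • a' = 0 := by
      refine (Submodule.mem_bot F).mp (hW.le ⟨add_mem ha (W.smul_mem _ ha'), fun w hw => ?_⟩)
      change polB Q w (a + c • a') = 0
      have := hrel w hw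
      rw [← hc, smul_smul, ← add_smul, smul_eq_zero] at this
      rw [map_add, map_smul, smul_eq_mul, ← this.resolve_right hb0]
      ring
    -- a vector of the plane of `x` and `y` is moved onto a side
    have hu : g.1 (y - c • x) = a' - c • a := by
      rw [map_sub, map_smul, show g.1 x = a + b by rw [hbdef]; abel,
        show g.1 y = a' + c • b by rw [hc, hb'def]; abel, smul_add]
      abel
    have hu' : g.1 (y - c • x) ∈ W := by rw [hu]; exact sub_mem ha' (W.smul_mem _ ha)
    have hQu : Q (y - c • x) = 1 + c * c := by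
      rw [qmap_sub, qmap_smul, map_smul, hyx, hxQ, hyQ]
      simp
    by_cases h0 : 1 + c * c = 0
    · have he : a' - c • a = 0 := by
        rw [show a = -(c • a') from eq_neg_of_add_eq_zero_left haa', smul_neg, sub_neg_eq_add,
          smul_smul]
        calc a' + (c * c) • a' = (1 + c * c) • a' := by rw [add_smul, one_smul]
          _ = 0 := by rw [h0, zero_smul]
      rw [he] at hu
      have hyc : y = c • x := sub_eq_zero.mp (g.1.injective (by rw [hu, map_zero]))
      exact hyout (Submodule.mem_sup_right (hyc ▸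
        Submodule.smul_mem _ c (Submodule.mem_span_singleton_self x)))
    · exact (hA _ (Or.inr (sub_mem hy (W'.smul_mem _ hx))) (by rw [hQu]; exact h0)).1 hu'
  obtain ⟨s, hs, hs0, hsx, hsy⟩ := exists_fixed hQ hW hd hm hts (g.1 x) (g.1 y)
  refine exists_seed_of_pure hQ hW hgen hd hm hts hHM hhM (hswap h (hMC hhM)) hhs (Or.inr hs) hs0 ?_
  rw [hhdef, orth_mul_apply, refl_fix hsy, refl_fix hsx]
  exact Or.inr hs

omit hHM in
/-- Maximality with a complement of dimension four or five. -/
theorem nondeg_stab_maximal_eight (h3 : 3 ≤ Module.finrank F W)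
    (hswap : ∀ g ∈ commutator (orthGroup Q), ¬ ∀ x ∈ (polB Q).orthogonal W, g.1 x ∈ W) :
    orthStab Q W ⊓ commutator (orthGroup Q) < commutator (orthGroup Q) ∧
    ∀ M : Subgroup (orthGroup Q), orthStab Q W ⊓ commutator (orthGroup Q) ≤ M →
      M ≤ commutator (orthGroup Q) →
      M = orthStab Q W ⊓ commutator (orthGroup Q) ∨ M = commutator (orthGroup Q) := by
  have hne : W ≠ ⊥ := fun h => by rw [h, finrank_bot] at h3; omega
  refine ⟨lt_of_le_of_ne inf_le_right fun heq => ?_, fun M hHM hMC => ?_⟩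
  · obtain ⟨a, ha, ha0⟩ := Submodule.exists_mem_ne_zero_of_ne_bot hne
    obtain ⟨b₁, hb₁, hb₁n, -, -⟩ := exists_one hQ hW hd hm a (one_ne_zero (α := F))
    obtain ⟨b, hb, hbb, hbQ, hbout⟩ := exists_big_pair hQ hW hd hm hb₁
      (fun h => hb₁n (h ▸ zero_mem _)) 1 (1 - Q a) (Or.inl one_ne_zero)
    have hb0 : b ≠ 0 := fun h => hbout (h ▸ zero_mem _)
    have hx1 : Q (a + b) = 1 := by rw [qmap_add, hbQ, polB_side ha hb]; ring
    have hx0 : Q (a + b) ≠ 0 := by rw [hx1]; exact one_ne_zero
    obtain ⟨w, hw, hwb, hwQ, hwspan⟩ := exists_big_pair hQ hW hd hm hb hb0 1 1 (Or.inl one_ne_zero)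
    obtain ⟨y, hy, -, hyw, hyQ⟩ := exists_one hQ hW hd hm w (one_ne_zero (α := F))
    have hmem : refl Q (a + b) * refl Q y ∈ commutator (orthGroup Q) :=
      refl_mul_refl_mem_commutator hQ hgen (by have := finrank_orth_add hQ W; omega) hx0
        (by rw [hyQ]; exact one_ne_zero) (by rw [hx1, hyQ])
    rw [← heq] at hmem
    have e : (refl Q (a + b) * refl Q y).1 w = -a + (w - b) := by
      rw [orth_mul_apply, refl_fix (v := y) (x := w) (by rw [polB_comm]; exact hyw), refl_apply,
        hx1, map_add, polB_side' hw ha, hwb, zero_add, inv_one, one_mul, one_smul]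
      abel
    rcases orthStab_side hQ hmem.1 (Or.inr hw) with h | h <;> rw [e] at h
    · have h1 : w - b ∈ W ⊓ (polB Q).orthogonal W :=
        ⟨by simpa using sub_mem h (neg_mem ha), sub_mem hw hb⟩
      rw [hW, Submodule.mem_bot, sub_eq_zero] at h1
      exact hwspan (by rw [h1]; exact Submodule.mem_span_singleton_self b)
    · have h1 : -a ∈ W ⊓ (polB Q).orthogonal W :=
        ⟨neg_mem ha, by simpa using sub_mem h (sub_mem hw hb)⟩
      rw [hW, Submodule.mem_bot, neg_eq_zero] at h1
      exact ha0 h1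
  · by_cases hsub : M ≤ orthStab Q W
    · exact Or.inl (le_antisymm (le_inf hsub hMC) hHM)
    · obtain ⟨g, hg, hgs⟩ := Set.not_subset.mp hsub
      have hHM' : commutator (orthGroup Q) ⊓ orthStab Q W ≤ M := by rwa [inf_comm]
      obtain ⟨a, ha, b, hb, ha0, hb0, hz⟩ :=
        exists_seed hQ hW hgen hd hm hts hHM' hMC hswap hg hgs
      exact Or.inr (le_antisymm hMC (commutator_le_of_seed hQ hW hgen hd hm hHM' (Or.inr h3)
        (fun _ _ _ _ _ => h3) ha hb ha0 hb0 hz))

end Eight
end H46
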