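import Cfsg.Agent.H45.SingFinal
import Cfsg.Agent.H45.PointStab
import Cfsg.Agent.H45.NondegFinal
import Cfsg.Agent.H44.Basic
import Cfsg.Agent.H46.OrthEightNondeg

/-!
# Clauses for the maximal subgroups of the eight-dimensional orthogonal groups of minus type
-/

set_option autoImplicit false
open Cfsg

namespace H46.Eight

open H43 H45

variable {F : Type*} [Field F] [Fintype F] {Q : (Fin 8 → F) → F}

theorem sing_clause (hQ : Cfsg.Geo.IsNondegenerateQuadraticForm Q)
    (hminus : ¬ Cfsg.Geo.IsPlusTypeOn Q ⊤) (W : Submodule F (Fin 8 → F))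
    (hW0 : W ≠ ⊥) (hW : Cfsg.Geo.IsTotallySingularQuad Q W) :
    Cfsg.Geo.IsMaximalIn (Cfsg.Geo.omegaGL Q)
      (Cfsg.Geo.subspaceStabilizer W ⊓ Cfsg.Geo.omegaGL Q) := by
  obtain ⟨q, rfl, hq⟩ := H45.exists_quadForm hQ
  refine H45.singStabilizer_maximal (ι := Fin 8) (by simp) q hq W hW0 hW
    fun U hU hd hU2 => hminus ⟨U, le_top, hU, ?_⟩
  rw [hU2, finrank_top, Module.finrank_pi]

theorem point_clause (hQ : Cfsg.Geo.IsNondegenerateQuadraticForm Q)
    (hchar : ¬ Odd (Fintype.card F)) (v : Fin 8 → F) (hv : Q v ≠ 0) :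
    Cfsg.Geo.IsMaximalIn (Cfsg.Geo.omegaGL Q)
      (Cfsg.Geo.subspaceStabilizer (Submodule.span F {v}) ⊓ Cfsg.Geo.omegaGL Q) := by
  obtain ⟨q, rfl, hq⟩ := H45.exists_quadForm hQ
  have h2 : (2 : F) = 0 := by
    by_contra h
    exact hchar (Nat.odd_iff.mpr (FiniteField.odd_card_of_char_ne_two fun hc => h (by
      haveI := ringChar.of_eq hc
      exact CharTwo.two_eq_zero)))
  obtain ⟨r, hr⟩ := H43.isSquare_of_two_eq_zero h2 (q v)
  have hr0 : r ≠ 0 := fun h => hv (by rw [hr, h, mul_zero])
  have hspan : Submodule.span F {r⁻¹ • v} = Submodule.span F {v} :=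
    Submodule.span_singleton_smul_eq (IsUnit.mk0 _ (inv_ne_zero hr0)) v
  have hv1 : q (r⁻¹ • v) = 1 := by rw [H43.qmap_smul, hr]; field_simp
  rw [← hspan]
  exact H45.isMaximalIn_of_orth q _ _ (fun g _ => H45.toGL_mem_subspaceStabilizer_iff q g _)
    (H45.point_stab_maximal hq (by simp) h2 hv1)

section orth

variable {V : Type*} [AddCommGroup V] [Module F V] [FiniteDimensional F V] {q : QuadraticForm F V}

/-- The two halves of a space of minus type: one of them has no singular plane. -/
lemma exists_minus_half (hn : Module.finrank F V = 8)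
    (hminus : ∀ U : Submodule F V, Module.finrank F U = 4 → ∃ u ∈ U, q u ≠ 0) (W : Submodule F V)
    (hW : W ⊓ (polB q).orthogonal W = ⊥) :
    (∀ U ≤ W, Module.finrank F U = 2 → ∃ u ∈ U, q u ≠ 0) ∨
      ∀ U ≤ (polB q).orthogonal W, Module.finrank F U = 2 → ∃ u ∈ U, q u ≠ 0 := by
  by_contra hcon
  push Not at hcon
  obtain ⟨⟨U₁, hU₁, h₁, hz₁⟩, U₂, hU₂, h₂, hz₂⟩ := hcon
  have hdis : U₁ ⊓ U₂ = ⊥ := by
    rw [eq_bot_iff, ← hW]
    exact inf_le_inf hU₁ hU₂
  have h3 := Submodule.finrank_sup_add_finrank_inf_eq U₁ U₂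
  rw [hdis, finrank_bot] at h3
  obtain ⟨u, hu, hu0⟩ := hminus (U₁ ⊔ U₂) (by omega)
  obtain ⟨a, ha, b, hb, rfl⟩ := Submodule.mem_sup.mp hu
  apply hu0
  rw [qmap_add, hz₁ a ha, hz₂ b hb, polB_side (hU₁ ha) (hU₂ hb)]
  ring

/-- A half of minus type: the stabiliser is maximal. -/
theorem half_maximal (hQ : (polB q).Nondegenerate) (hn : Module.finrank F V = 8)
    (hminus : ∀ U : Submodule F V, Module.finrank F U = 4 → ∃ u ∈ U, q u ≠ 0) {W : Submodule F V}
    (hW : W ⊓ (polB q).orthogonal W = ⊥) (hd : Module.finrank F W = 4) :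
    orthStab q W ⊓ commutator (orthGroup q) < commutator (orthGroup q) ∧
    ∀ M : Subgroup (orthGroup q), orthStab q W ⊓ commutator (orthGroup q) ≤ M →
      M ≤ commutator (orthGroup q) →
      M = orthStab q W ⊓ commutator (orthGroup q) ∨ M = commutator (orthGroup q) := by
  have hgen : ReflGenerates F V := H43.reflGenerates_of_card (Or.inr (by omega))
  -- the complement may be taken without singular planes
  suffices key : ∀ X : Submodule F V, X ⊓ (polB q).orthogonal X = ⊥ → Module.finrank F X = 4 →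
      (∀ U ≤ (polB q).orthogonal X, Module.finrank F U = 2 → ∃ u ∈ U, q u ≠ 0) →
      orthStab q X ⊓ commutator (orthGroup q) < commutator (orthGroup q) ∧
      ∀ M : Subgroup (orthGroup q), orthStab q X ⊓ commutator (orthGroup q) ≤ M →
        M ≤ commutator (orthGroup q) →
        M = orthStab q X ⊓ commutator (orthGroup q) ∨ M = commutator (orthGroup q) by
    rcases exists_minus_half hn hminus W hW with h | h
    · have hWW : (polB q).orthogonal ((polB q).orthogonal W) = W :=
        LinearMap.BilinForm.orthogonal_orthogonal hQ (polB_isRefl q) W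
      have hfin := finrank_orth_add hQ W
      have := key ((polB q).orthogonal W) (by rw [hWW, inf_comm, hW]) (by omega) (by rw [hWW]; exact h)
      rwa [orthStab_orth_eq hQ W] at this
    · exact key W hW hd h
  intro X hX hXd hts
  have hfin := finrank_orth_add hQ X
  refine nondeg_stab_maximal_eight hQ hX hgen (Or.inr ⟨hXd, by omega⟩) (by omega) (Or.inr hts)
    (by omega) fun g _ hg => ?_
  -- otherwise the two halves are isometric
  have hmap : ((polB q).orthogonal X).map (g.1 : V →ₗ[F] V) = X := by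
    refine Submodule.eq_of_le_of_finrank_le ?_ ?_
    · rintro _ ⟨x, hx, rfl⟩
      exact hg x hx
    · rw [LinearEquiv.finrank_map_eq]; omega
  have hinv : X.map ((g⁻¹).1 : V →ₗ[F] V) = (polB q).orthogonal X := by
    conv_lhs => rw [← hmap]
    rw [← Submodule.map_comp]
    convert Submodule.map_id _ using 2
    ext x
    exact orth_inv_apply_self g x
  obtain ⟨U, hU, hU2⟩ := exists_singular_half hQ hX (by rw [hXd]; decide) g⁻¹ hinv
  obtain ⟨u, hu, hu0⟩ := hminus U (by omega)
  exact hu0 (hU u hu)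

/-- A non-degenerate subspace of dimension three or five, odd characteristic. -/
theorem three_five_maximal (hQ : (polB q).Nondegenerate) (h2 : (2 : F) ≠ 0)
    (hn : Module.finrank F V = 8) {W : Submodule F V} (hW : W ⊓ (polB q).orthogonal W = ⊥)
    (hd : Module.finrank F W = 3 ∨ Module.finrank F W = 5) :
    orthStab q W ⊓ commutator (orthGroup q) < commutator (orthGroup q) ∧
    ∀ M : Subgroup (orthGroup q), orthStab q W ⊓ commutator (orthGroup q) ≤ M →
      M ≤ commutator (orthGroup q) →
      M = orthStab q W ⊓ commutator (orthGroup q) ∨ M = commutator (orthGroup q) := by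
  have hgen : ReflGenerates F V := H43.reflGenerates_of_card (Or.inr (by omega))
  have key : ∀ X : Submodule F V, X ⊓ (polB q).orthogonal X = ⊥ → Module.finrank F X = 3 →
      orthStab q X ⊓ commutator (orthGroup q) < commutator (orthGroup q) ∧
      ∀ M : Subgroup (orthGroup q), orthStab q X ⊓ commutator (orthGroup q) ≤ M →
        M ≤ commutator (orthGroup q) →
        M = orthStab q X ⊓ commutator (orthGroup q) ∨ M = commutator (orthGroup q) := by
    intro X hX hXd
    have hfin := finrank_orth_add hQ X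
    refine nondeg_stab_maximal_eight hQ hX hgen (Or.inl h2) (by omega) (Or.inl (by omega))
      (by omega) fun g _ hg => ?_
    have hle : ((polB q).orthogonal X).map (g.1 : V →ₗ[F] V) ≤ X := by
      rintro _ ⟨x, hx, rfl⟩
      exact hg x hx
    have h1 := Submodule.finrank_mono hle
    rw [LinearEquiv.finrank_map_eq] at h1
    omega
  rcases hd with h | h
  · exact key W hW h
  · have hWW : (polB q).orthogonal ((polB q).orthogonal W) = W :=
      LinearMap.BilinForm.orthogonal_orthogonal hQ (polB_isRefl q) W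
    have hfin := finrank_orth_add hQ W
    have := key ((polB q).orthogonal W) (by rw [hWW, inf_comm, hW]) (by omega)
    rwa [orthStab_orth_eq hQ W] at this

/-- A non-degenerate subspace of dimension at most two or at least six. -/
theorem small_maximal (hQ : (polB q).Nondegenerate) (hn : Module.finrank F V = 8)
    {W : Submodule F V} (hW : W ⊓ (polB q).orthogonal W = ⊥)
    (hd : Module.finrank F W = 1 ∨ Module.finrank F W = 2 ∨ Module.finrank F W = 7)
    (hplane : Fintype.card F ≤ 3 → Module.finrank F W = 2 → ∀ a ∈ W, a ≠ 0 → q a ≠ 0) :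
    orthStab q W ⊓ commutator (orthGroup q) < commutator (orthGroup q) ∧
    ∀ M : Subgroup (orthGroup q), orthStab q W ⊓ commutator (orthGroup q) ≤ M →
      M ≤ commutator (orthGroup q) →
      M = orthStab q W ⊓ commutator (orthGroup q) ∨ M = commutator (orthGroup q) := by
  have hgen : ReflGenerates F V := H43.reflGenerates_of_card (Or.inr (by omega))
  have hfin := finrank_orth_add hQ W
  have hWW : (polB q).orthogonal ((polB q).orthogonal W) = W :=
    LinearMap.BilinForm.orthogonal_orthogonal hQ (polB_isRefl q) W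
  have hswap : ∀ X : Submodule F V, Module.finrank F X < Module.finrank F ((polB q).orthogonal X) →
      ∀ g : orthGroup q, ¬ ∀ x ∈ (polB q).orthogonal X, g.1 x ∈ X := by
    intro X hlt g hg
    have hle : ((polB q).orthogonal X).map (g.1 : V →ₗ[F] V) ≤ X := by
      rintro _ ⟨x, hx, rfl⟩
      exact hg x hx
    have h1 := Submodule.finrank_mono hle
    rw [LinearEquiv.finrank_map_eq] at h1
    omega
  rcases hd with h | h | h
  · exact nondeg_stab_maximal hQ hW hgen (Or.inl (by omega)) (fun e => by rw [e, finrank_bot] at h; omega)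
      (fun g _ => hswap W (by omega) g) (fun _ a ha ha0 hQa => by
        have := two_le_of_singular hW ha ha0 hQa; omega)
  · exact nondeg_stab_maximal hQ hW hgen (Or.inl (by omega)) (fun e => by rw [e, finrank_bot] at h; omega)
      (fun g _ => hswap W (by omega) g) (fun hsmall a ha ha0 hQa =>
        absurd hQa (hplane (card_le_three_of_no_elt hsmall) h a ha ha0))
  · have hW' : (polB q).orthogonal W ⊓ (polB q).orthogonal ((polB q).orthogonal W) = ⊥ := by
      rw [hWW, inf_comm, hW]
    have := nondeg_stab_maximal hQ hW' hgen (Or.inl (by rw [hWW]; omega))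
      (fun e => by rw [e, finrank_bot] at hfin; omega)
      (fun g _ => hswap _ (by rw [hWW]; omega) g) (fun _ a ha ha0 hQa => by
        have := two_le_of_singular hW' ha ha0 hQa; omega)
    rwa [orthStab_orth_eq hQ W] at this

end orth

/-- The transfer to matrices. -/
theorem transfer {q : QuadraticForm F (Fin 8 → F)} (W : Submodule F (Fin 8 → F))
    (h : orthStab q W ⊓ commutator (orthGroup q) < commutator (orthGroup q) ∧
      ∀ M : Subgroup (orthGroup q), orthStab q W ⊓ commutator (orthGroup q) ≤ M →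
        M ≤ commutator (orthGroup q) →
        M = orthStab q W ⊓ commutator (orthGroup q) ∨ M = commutator (orthGroup q)) :
    Cfsg.Geo.IsMaximalIn (Cfsg.Geo.omegaGL ⇑q)
      (Cfsg.Geo.subspaceStabilizer W ⊓ Cfsg.Geo.omegaGL ⇑q) :=
  H45.isMaximalIn_of_orth q _ (orthStab q W)
    (fun g _ => H45.toGL_mem_subspaceStabilizer_iff q g W) h

theorem odd_clause (hQ : Cfsg.Geo.IsNondegenerateQuadraticForm Q) (hodd : Odd (Fintype.card F))
    (W : Submodule F (Fin 8 → F)) (hW1 : W ≠ ⊤) (ho : Odd (Module.finrank F W))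
    (hW : Cfsg.Geo.IsNondegenerateOn (QuadraticMap.polar Q) W) :
    Cfsg.Geo.IsMaximalIn (Cfsg.Geo.omegaGL Q)
      (Cfsg.Geo.subspaceStabilizer W ⊓ Cfsg.Geo.omegaGL Q) := by
  obtain ⟨q, rfl, hq⟩ := H45.exists_quadForm hQ
  have h2 : (2 : F) ≠ 0 := Ring.two_ne_zero (H44.ringChar_ne_two_of_odd_card hodd)
  have hlt : Module.finrank F W < 8 := by
    have := Submodule.finrank_lt hW1
    rwa [Module.finrank_fin_fun] at this
  obtain ⟨j, hj⟩ := ho
  have hW' := orth_inf_eq_bot_of_nondegenerateOn hW
  by_cases h : Module.finrank F W = 3 ∨ Module.finrank F W = 5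
  · exact transfer W (three_five_maximal hq h2 (by simp) hW' h)
  · exact transfer W (small_maximal hq (by simp) hW' (by omega) (fun _ h => by omega))

theorem plane_clause (hQ : Cfsg.Geo.IsNondegenerateQuadraticForm Q) (W : Submodule F (Fin 8 → F))
    (hd : Module.finrank F W = 2) (hW : Cfsg.Geo.IsNondegenerateOn (QuadraticMap.polar Q) W)
    (h : Fintype.card F ≤ 3 → ¬ Cfsg.Geo.IsPlusTypeOn Q W) :
    Cfsg.Geo.IsMaximalIn (Cfsg.Geo.omegaGL Q)
      (Cfsg.Geo.subspaceStabilizer W ⊓ Cfsg.Geo.omegaGL Q) := by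
  obtain ⟨q, rfl, hq⟩ := H45.exists_quadForm hQ
  refine transfer W (small_maximal hq (by simp) (orth_inf_eq_bot_of_nondegenerateOn hW)
    (Or.inr (Or.inl hd)) fun hc _ a ha ha0 hQa => h hc ⟨Submodule.span F {a},
      (Submodule.span_singleton_le_iff_mem _ _).mpr ha, ?_, by rw [finrank_span_singleton ha0, hd]⟩)
  intro w hw
  obtain ⟨c, rfl⟩ := Submodule.mem_span_singleton.mp hw
  rw [qmap_smul, hQa, mul_zero]

theorem four_clause (hQ : Cfsg.Geo.IsNondegenerateQuadraticForm Q)
    (hminus : ¬ Cfsg.Geo.IsPlusTypeOn Q ⊤) (W : Submodule F (Fin 8 → F))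
    (hd : Module.finrank F W = 4) (hW : Cfsg.Geo.IsNondegenerateOn (QuadraticMap.polar Q) W) :
    Cfsg.Geo.IsMaximalIn (Cfsg.Geo.omegaGL Q)
      (Cfsg.Geo.subspaceStabilizer W ⊓ Cfsg.Geo.omegaGL Q) := by
  obtain ⟨q, rfl, hq⟩ := H45.exists_quadForm hQ
  refine transfer W (half_maximal hq (by simp) (fun U hU => ?_)
    (orth_inf_eq_bot_of_nondegenerateOn hW) hd)
  by_contra hcon
  push Not at hcon
  exact hminus ⟨U, le_top, hcon, by rw [hU, finrank_top, Module.finrank_fin_fun]⟩

end H46.Eight
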