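import Cfsg.Agent.H49.OrthUnitaryOver
import Cfsg.Agent.H49.OrthExtMatrix
import Cfsg.Agent.H49.PairOmegaMax
import Cfsg.Agent.H45.OrthTransfer
import Cfsg.Agent.H45.SingFinal
import Cfsg.Agent.H45.NondegFinal
import Cfsg.Agent.H45.FrameFinal
import Cfsg.Agent.H45.PlaneFinal
import Cfsg.Agent.H45.PairMax
import Cfsg.Agent.H45.PointStab
import Cfsg.Agent.H38.SubOFinal
import Cfsg.Agent.H44.Basic

/-!
# Clauses for the maximal subgroups of the twelve-dimensional orthogonal groups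
-/

set_option autoImplicit false
open Cfsg

namespace H46.OrthTwelve

open Matrix

/-- The unitary type over the quadratic extension is maximal from dimension ten on. -/
theorem unitaryOver_maximal {F : Type*} [Field F] [Fintype F] {n : ℕ} (hn : 10 ≤ n) (heven : Even n) (Q : (Fin n → F) → F) (hQ : Cfsg.Geo.IsNondegenerateQuadraticForm Q) (K : Subalgebra F (Matrix (Fin n) (Fin n) F)) (hK : Cfsg.Geo.IsFieldSubalgebra 2 K) (hac : Cfsg.Geo.IsAdjointClosedFor (QuadraticMap.polar Q) K) (hnsa : ¬ Cfsg.Geo.IsSelfAdjointFor (QuadraticMap.polar Q) K) (hsc : ∀ k ∈ K, ∃ c : F, ∀ v : (Fin n → F), Q (Matrix.mulVec k v) = c * Q v) : Cfsg.Geo.IsMaximalIn (Cfsg.Geo.omegaGL Q) (Cfsg.Geo.subalgebraNormalizer K ⊓ Cfsg.Geo.omegaGL Q) := by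
  classical
  haveI : Nonempty (Fin n) := ⟨⟨0, by omega⟩⟩
  obtain ⟨q, hqQ, hq⟩ := H45.exists_quadForm hQ
  subst hqQ
  have hpol : ∀ x y, QuadraticMap.polar ⇑q x y = H43.polB q x y := fun x y => rfl
  obtain ⟨j, hjK, u, v, huv⟩ : ∃ j ∈ K, ∃ u v, QuadraticMap.polar ⇑q (j *ᵥ u) v ≠ QuadraticMap.polar ⇑q u (j *ᵥ v) := by
    simpa [Cfsg.Geo.IsSelfAdjointFor] using hnsa
  have hjns : ∀ t : F, j ≠ t • 1 := by
    intro t ht
    apply huv
    rw [ht, smul_mulVec, smul_mulVec, one_mulVec, one_mulVec, hpol, hpol, map_smul, map_smul, LinearMap.smul_apply]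
  have hspan : Submodule.span F {(1 : Matrix (Fin n) (Fin n) F), j} = Subalgebra.toSubmodule K := by
    have hli : LinearIndependent F ![(1 : Matrix (Fin n) (Fin n) F), j] := by
      rw [LinearIndependent.pair_iff' one_ne_zero]
      exact fun t => (hjns t).symm
    refine Submodule.eq_of_le_of_finrank_eq ?_ ?_
    · rw [Submodule.span_le, Set.insert_subset_iff, Set.singleton_subset_iff]
      exact ⟨K.one_mem, hjK⟩
    · have h := finrank_span_eq_card hli
      rw [Matrix.range_cons, Matrix.range_cons, Matrix.range_empty, Set.union_empty, Set.singleton_union,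
        Fintype.card_fin] at h
      rw [h]
      exact hK.finrank_eq.symm
  have hmemK : ∀ x, x ∈ K ↔ ∃ a b : F, a • (1 : Matrix (Fin n) (Fin n) F) + b • j = x := fun x => by
    rw [← Subalgebra.mem_toSubmodule, ← hspan, Submodule.mem_span_pair]
  have hextm : ∀ X Y : Matrix (Fin n) (Fin n) F,
      (∀ x y, H43.polB q x (X *ᵥ y) = H43.polB q x (Y *ᵥ y)) → X = Y := by
    intro X Y h
    refine Matrix.ext_iff_mulVec.2 fun y => sub_eq_zero.1 (hq.2 _ fun x => ?_)
    rw [map_sub, h, sub_self]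
  obtain ⟨j', hj', hadj⟩ := hac j hjK
  simp only [hpol] at hadj huv
  obtain ⟨s, b, hsb⟩ := (hmemK _).1 hj'
  have hadj' : ∀ x y, H43.polB q x (j *ᵥ y) = H43.polB q (j' *ᵥ x) y := fun x y => by
    rw [H43.polB_comm (Q := q) (j' *ᵥ x) y, ← hadj, H43.polB_comm]
  have hbm : b = -1 := by
    have h1 : j = s • (1 : Matrix (Fin n) (Fin n) F) + b • j' := hextm _ _ fun x y => by
      rw [hadj']
      conv_lhs => rw [← hsb]
      simp only [add_mulVec, smul_mulVec, one_mulVec, map_add, map_smul, LinearMap.add_apply, LinearMap.smul_apply,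
        hadj]
    have h2 : (s + b * s) • (1 : Matrix (Fin n) (Fin n) F) + (b * b - 1) • j = 0 := by
      rw [← hsb] at h1
      linear_combination (norm := module) -h1
    obtain ⟨k1, k2⟩ : s + b * s = 0 ∧ b * b - 1 = 0 := by
      have hb : b * b - 1 = 0 := by
        by_contra hne
        refine hjns (-((b * b - 1)⁻¹ * (s + b * s))) ?_
        rw [neg_smul, ← smul_smul, ← smul_neg, eq_inv_smul_iff₀ hne]
        linear_combination (norm := module) h2
      rw [hb, zero_smul, add_zero, smul_eq_zero] at h2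
      exact ⟨h2.resolve_right one_ne_zero, hb⟩
    rcases mul_self_eq_one_iff.1 (sub_eq_zero.1 k2) with e | e
    · subst e
      by_cases h2' : (2 : F) = 0
      · linear_combination h2'
      · exfalso
        have hs : s = 0 := (mul_eq_zero.1 (show (2 : F) * s = 0 by linear_combination k1)).resolve_left h2'
        rw [hs, zero_smul, one_smul, zero_add] at hsb
        exact huv (by rw [hadj, ← hsb])
    · exact e
  subst hbm
  let L : (Fin n → F) →ₗ[F] (Fin n → F) := Matrix.toLin' j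
  have hL : ∀ w, L w = j *ᵥ w := fun w => rfl
  obtain ⟨c, hc⟩ := hsc j hjK
  obtain ⟨c', hc'⟩ := hsc _ (K.add_mem K.one_mem hjK)
  have hjj : j' * j = c • (1 : Matrix (Fin n) (Fin n) F) := hextm _ _ fun x y => by
    have e : H43.polB q (j *ᵥ x) (j *ᵥ y) = c * H43.polB q x y := by
      simp only [H43.polB_apply, QuadraticMap.polar, ← mulVec_add, hc]
      ring
    rw [← mulVec_mulVec, ← hadj, e, smul_mulVec, one_mulVec, map_smul, smul_eq_mul]
  have hsq : j * j = s • j - c • (1 : Matrix (Fin n) (Fin n) F) := by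
    rw [← hjj, ← hsb, add_mul, smul_mul_assoc, smul_mul_assoc, one_mul]
    module
  have hadjL : ∀ x y, H43.polB q (L x) y = H43.polB q x (s • y - L y) := fun x y => by
    rw [hL, hL, hadj, ← hsb, add_mulVec, smul_mulVec, smul_mulVec, one_mulVec, neg_one_smul, ← sub_eq_add_neg]
  have h' : ∀ x, H43.polB q x (L x) = (c' - 1 - c) * q x := fun x => by
    have := hc' x
    rw [add_mulVec, one_mulVec, H43.qmap_add, hc] at this
    rw [hL]
    linear_combination this
  have hs' : c' - 1 - c = s := by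
    obtain ⟨x, hx⟩ := exists_ne (0 : Fin n → F)
    obtain ⟨y, hy⟩ := H43.exists_polB_ne_zero hq hx
    have h0 := h' (x + y)
    rw [map_add L, map_add (H43.polB q), LinearMap.add_apply, map_add (H43.polB q x), map_add (H43.polB q y), h',
      h', H43.qmap_add, H43.polB_comm y (L x), hadjL, map_sub, map_smul, smul_eq_mul] at h0
    exact mul_right_cancel₀ hy (by linear_combination -h0)
  have d : H49.UOStr q L s c := by
    refine ⟨hq, fun x => ?_, hadjL, fun x => hc x, fun x => by rw [h', hs'], fun t ht => ?_, ?_⟩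
    · rw [hL, hL, mulVec_mulVec, hsq, sub_mulVec, smul_mulVec, smul_mulVec, one_mulVec]
    · have hne : j - t • 1 ≠ 0 := sub_ne_zero.2 (hjns t)
      obtain ⟨y, -, hy⟩ := hK.inv _ (sub_mem hjK (K.smul_mem K.one_mem t)) hne
      have hprod : (j - (s - t) • (1 : Matrix (Fin n) (Fin n) F)) * (j - t • 1) = 0 := by
        simp only [sub_mul, mul_sub, mul_smul_comm, smul_mul_assoc, one_mul, mul_one, hsq, smul_smul]
        have hc0 : c = (s - t) * t := by linear_combination ht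
        rw [hc0]
        module
      have : (j - (s - t) • (1 : Matrix (Fin n) (Fin n) F)) * ((j - t • 1) * y) = 0 := by
        rw [← mul_assoc, hprod, zero_mul]
      rw [hy, mul_one, sub_eq_zero] at this
      exact hjns _ this
    · obtain ⟨k, hk⟩ := heven
      rw [Module.finrank_pi, Fintype.card_fin]
      omega
  set N := (Cfsg.Geo.subalgebraNormalizer K).comap (H45.toGL q) with hN
  have hcrit : ∀ g : H43.orthGroup q, ∀ a b : F, b ≠ 0 → (∀ x, g.1 (L x) = a • g.1 x + b • L (g.1 x)) → g ∈ N := by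
    intro g a b hb hg k
    set U := H45.toGL q g
    have hU : U.1 * j = (a • (1 : Matrix (Fin n) (Fin n) F) + b • j) * U.1 := Matrix.ext_iff_mulVec.2 fun x => by
      rw [← mulVec_mulVec, ← mulVec_mulVec, H45.toGL_apply, H45.toGL_apply, add_mulVec, smul_mulVec, smul_mulVec,
        one_mulVec]
      exact hg x
    have hUj : U.1 * j * (U⁻¹ : GL (Fin n) F).1 = a • (1 : Matrix (Fin n) (Fin n) F) + b • j := by
      rw [hU, mul_assoc, Units.mul_inv, mul_one]
    constructor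
    · intro hk
      obtain ⟨p, r, rfl⟩ := (hmemK _).1 hk
      refine (hmemK _).2 ⟨p + r * a, r * b, ?_⟩
      rw [mul_add, mul_smul_comm, mul_smul_comm, mul_one, add_mul, smul_mul_assoc, smul_mul_assoc, Units.mul_inv, hUj]
      module
    · intro hk
      obtain ⟨p, r, hpr⟩ := (hmemK _).1 hk
      refine (hmemK _).2 ⟨p - b⁻¹ * r * a, b⁻¹ * r, ?_⟩
      rw [← Units.mul_right_inj U, ← Units.mul_left_inj U⁻¹, ← hpr, mul_add, mul_smul_comm, mul_smul_comm, mul_one,
        add_mul, smul_mul_assoc, smul_mul_assoc, Units.mul_inv, hUj]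
      match_scalars <;> field_simp <;> ring
  refine H45.isMaximalIn_of_orth q _ N (fun g _ => Iff.rfl) ⟨lt_of_le_of_ne inf_le_right fun heq => ?_,
    fun M hHM hMC => ?_⟩
  · obtain ⟨g, hg, hgn⟩ := d.exists_not_normal
    apply hgn
    have hgN : g ∈ N := by
      rw [← heq] at hg
      exact hg.1
    obtain ⟨a, b, hab⟩ := (hmemK _).1 ((hgN j).1 hjK)
    refine ⟨a, b, fun x => ?_⟩
    have h := congrArg (fun X => X *ᵥ ((H45.toGL q g).1 *ᵥ x)) hab
    simp only [add_mulVec, smul_mulVec, one_mulVec] at h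
    conv at h => rhs; rw [mulVec_mulVec, mul_assoc, Units.inv_mul, mul_one, ← mulVec_mulVec]
    rw [H45.toGL_apply, H45.toGL_apply] at h
    exact h.symm
  by_cases hle : M ≤ N
  · exact Or.inl (le_antisymm (le_inf hle hMC) hHM)
  obtain ⟨g, hgM, hgN⟩ := SetLike.not_le_iff_exists.mp hle
  refine Or.inr (le_antisymm hMC ?_)
  obtain ⟨v, hv, hmove⟩ : ∃ v, q v = 0 ∧ g.1 (L v) ∉ d.line (g.1 v) := by
    by_contra hcon
    simp only [not_exists, not_and, not_not] at hcon
    obtain ⟨a, b, hb, hg⟩ := d.normal_of_lines hcon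
    exact hgN (hcrit g a b hb hg)
  exact d.commutator_le_of_moves
    (fun x hx hcom => hHM ⟨hcrit x 0 1 one_ne_zero fun y => by rw [zero_smul, zero_add, one_smul]; exact hcom y, hx⟩)
    hgM hv hmove


theorem isometryGroup_smul {F : Type*} [Field F] {n : ℕ} {ζ : F} (hζ : ζ ≠ 0)
    (q : QuadraticForm F (Fin n → F)) :
    Cfsg.isometryGroup F ⇑(ζ • q) = Cfsg.isometryGroup F ⇑q := by
  ext g
  simp only [Cfsg.isometryGroup, Cfsg.preserving]
  constructor <;> intro h <;> intro u v <;> have h' := h u v <;>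
    simp_all [QuadraticMap.smul_apply, mul_right_inj' hζ]

theorem omegaGL_smul {F : Type*} [Field F] {n : ℕ} {ζ : F} (hζ : ζ ≠ 0)
    (q : QuadraticForm F (Fin n → F)) :
    Cfsg.Geo.omegaGL ⇑(ζ • q) = Cfsg.Geo.omegaGL ⇑q := by
  rw [Cfsg.Geo.omegaGL, Cfsg.Geo.omegaGL, Cfsg.Omega, Cfsg.Omega, Subgroup.map_subtype_commutator,
    Subgroup.map_subtype_commutator, isometryGroup_smul hζ q]

variable {F : Type*} [Field F] [Fintype F] {Q : (Fin 12 → F) → F}

theorem nondeg_clause (hQ : Cfsg.Geo.IsNondegenerateQuadraticForm Q) (W : Submodule F (Fin 12 → F))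
    (hW0 : W ≠ ⊥) (hW1 : W ≠ ⊤) (hW : Cfsg.Geo.IsNondegenerateOn (QuadraticMap.polar Q) W)
    (hhalf : 2 * Module.finrank F W = 12 → Even (Module.finrank F W) ∧
      ¬ Cfsg.Geo.IsPlusTypeOn Q ⊤)
    (hplane : Module.finrank F W ≠ 10 ∧ (Module.finrank F W = 2 → Fintype.card F ≤ 3 →
      ¬ Cfsg.Geo.IsPlusTypeOn Q W)) :
    Cfsg.Geo.IsMaximalIn (Cfsg.Geo.omegaGL Q) (Cfsg.Geo.subspaceStabilizer W ⊓ Cfsg.Geo.omegaGL Q) := by
  obtain ⟨q, rfl, hq⟩ := H45.exists_quadForm hQ
  have hfin := H43.finrank_orth_add hq W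
  rw [Module.finrank_pi, Fintype.card_fin] at hfin
  refine H45.subspaceStabilizer_maximal (by rw [Fintype.card_fin]; omega) q hq W hW0 hW1 hW
    (fun g hg => ?_) fun hc U hU hU2 hpl => ?_
  · have h := congrArg (fun X : Submodule F _ => Module.finrank F X) hg
    simp only [LinearEquiv.finrank_map_eq] at h
    obtain ⟨hk, hminus⟩ := hhalf (by omega)
    obtain ⟨U, hU, hU2⟩ :=
      H45.exists_singular_half hq (H45.orth_inf_eq_bot_of_nondegenerateOn hW) hk g hg
    exact hminus ⟨U, le_top, hU, by rw [hU2, finrank_top]⟩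
  · rcases hU with rfl | rfl
    · exact hplane.2 hU2 hc hpl
    · exact hplane.1 (by omega)

theorem sing_clause (hQ : Cfsg.Geo.IsNondegenerateQuadraticForm Q) (W : Submodule F (Fin 12 → F))
    (hW0 : W ≠ ⊥) (hW : Cfsg.Geo.IsTotallySingularQuad Q W)
    (h : Module.finrank F W ≠ 5 ∨ ¬ Cfsg.Geo.IsPlusTypeOn Q ⊤) :
    Cfsg.Geo.IsMaximalIn (Cfsg.Geo.omegaGL Q) (Cfsg.Geo.subspaceStabilizer W ⊓ Cfsg.Geo.omegaGL Q) := by
  obtain ⟨q, rfl, hq⟩ := H45.exists_quadForm hQ
  refine H45.singStabilizer_maximal (by rw [Fintype.card_fin]; omega) q hq W hW0 hW fun U hU hd hU2 => ?_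
  rcases h with h | h
  · rw [Fintype.card_fin] at hU2; omega
  · exact h ⟨U, le_top, hU, by rw [hU2, finrank_top, Module.finrank_pi]⟩

theorem point_clause (hQ : Cfsg.Geo.IsNondegenerateQuadraticForm Q) (hchar : ¬ Odd (Fintype.card F))
    (v : Fin 12 → F) (hv : Q v ≠ 0) :
    Cfsg.Geo.IsMaximalIn (Cfsg.Geo.omegaGL Q)
      (Cfsg.Geo.subspaceStabilizer (Submodule.span F {v}) ⊓ Cfsg.Geo.omegaGL Q) := by
  obtain ⟨q, rfl, hq⟩ := H45.exists_quadForm hQ
  have h2 : (2 : F) = 0 := by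
    by_contra h
    exact hchar (Nat.odd_iff.mpr (FiniteField.odd_card_of_char_ne_two fun hc => h (by
      haveI := ringChar.of_eq hc
      exact CharTwo.two_eq_zero)))
  obtain ⟨r, hr⟩ := H43.isSquare_of_two_eq_zero h2 (q v)
  have hr0 : r ≠ 0 := fun h => hv (by rw [hr, h, mul_zero])
  have hspan : Submodule.span F {r⁻¹ • v} = Submodule.span F {v} :=
    Submodule.span_singleton_smul_eq (IsUnit.mk0 _ (inv_ne_zero hr0)) v
  have hv1 : q (r⁻¹ • v) = 1 := by rw [H43.qmap_smul, hr]; field_simp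
  rw [← hspan]
  exact H45.isMaximalIn_of_orth q _ _ (fun g _ => H45.toGL_mem_subspaceStabilizer_iff q g _)
    (H45.point_stab_maximal hq (by simp) h2 hv1)

theorem plane_clause (hQ : Cfsg.Geo.IsNondegenerateQuadraticForm Q) (h3 : Fintype.card F ≠ 3)
    (D : Fin 6 → Submodule F (Fin 12 → F)) (hD : Cfsg.Geo.IsOrthogonalMDecomposition Q 2 D)
    (h : 7 ≤ Fintype.card F ∨ ¬ ∀ i, Cfsg.Geo.IsPlusTypeOn Q (D i)) :
    Cfsg.Geo.IsMaximalIn (Cfsg.Geo.omegaGL Q) (Cfsg.Geo.decompositionStabilizer D ⊓ Cfsg.Geo.omegaGL Q) := by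
  obtain ⟨q, rfl, hq⟩ := H45.exists_quadForm hQ
  exact H45.decomposition_maximal_two (by simp) hq hD h3 h

theorem wreath_clause (hQ : Cfsg.Geo.IsNondegenerateQuadraticForm Q) {t : ℕ} (k : ℕ) (hk : 3 ≤ k)
    (D : Fin t → Submodule F (Fin 12 → F)) (hD : Cfsg.Geo.IsOrthogonalMDecomposition Q k D)
    (h33 : ¬ (k = 3 ∧ Fintype.card F = 3))
    (h42 : k = 4 → Fintype.card F = 2 → ¬ ∀ i, Cfsg.Geo.IsPlusTypeOn Q (D i)) :
    Cfsg.Geo.IsMaximalIn (Cfsg.Geo.omegaGL Q) (Cfsg.Geo.decompositionStabilizer D ⊓ Cfsg.Geo.omegaGL Q) := by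
  obtain ⟨q, rfl, hq⟩ := H45.exists_quadForm hQ
  exact H45.decomposition_maximal (by simp) hq hk hD h33 h42

theorem ext_clause (hQ : Cfsg.Geo.IsNondegenerateQuadraticForm Q) (hodd : Odd (Fintype.card F))
    (r : ℕ) (hr : r.Prime) (hr4 : 3 * r ≤ 12)
    (K : Subalgebra F (Matrix (Fin 12) (Fin 12) F)) (hK : Cfsg.Geo.IsFieldSubalgebra r K)
    (hsa : Cfsg.Geo.IsSelfAdjointFor (QuadraticMap.polar Q) K) :
    Cfsg.Geo.IsMaximalIn (Cfsg.Geo.omegaGL Q) (Cfsg.Geo.subalgebraNormalizer K ⊓ Cfsg.Geo.omegaGL Q) := by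
  obtain ⟨q, rfl, hq⟩ := H45.exists_quadForm hQ
  exact H49.extension_normalizer_maximal q hq (Ring.two_ne_zero (H44.ringChar_ne_two_of_odd_card hodd))
    (by rw [Fintype.card_fin]; omega) r hr (by rw [Fintype.card_fin]; exact hr4) K hK hsa

theorem subfield_clause (hQ : Cfsg.Geo.IsNondegenerateQuadraticForm Q) (F₀ : Subfield F) (r : ℕ)
    (hr : r.Prime) (hcard : Fintype.card F = Nat.card F₀ ^ r)
    (P : Matrix.GeneralLinearGroup (Fin 12) F) (ζ : F) (hζ : ζ ≠ 0)
    (hP : Cfsg.Geo.IsQuadFormRationalStructure (fun v : Fin 12 → F => ζ * Q v) F₀ P) :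
    Cfsg.Geo.IsMaximalIn (Cfsg.Geo.omegaGL Q) (Cfsg.Geo.subfieldSubgroup F₀ P ⊓ Cfsg.Geo.omegaGL Q) := by
  haveI : Nonempty (Fin 12) := ⟨0⟩
  obtain ⟨q, rfl, hq⟩ := H45.exists_quadForm hQ
  have hnd : (H43.polB (ζ • q)).Nondegenerate := by
    have key : ∀ x, (∀ y, H43.polB (ζ • q) x y = 0) → x = 0 := fun x hx =>
      H43.eq_zero_of_polB_eq_zero hq fun y => by
        have h := hx y
        rw [H43.polB_apply, QuadraticMap.polar] at h
        simp only [QuadraticMap.smul_apply, smul_eq_mul, ← mul_sub] at h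
        rw [H43.polB_apply, QuadraticMap.polar]
        exact (mul_eq_zero.1 h).resolve_left hζ
    exact ⟨key, fun x hx => key x fun y => by rw [H43.polB_comm]; exact hx y⟩
  have D : H38.SubO.Dat (ζ • q) F₀ P :=
    ⟨hnd, by rw [Fintype.card_fin]; omega, fun u => by
      rw [QuadraticMap.smul_apply, smul_eq_mul]
      exact hP _ fun i => (u i).2⟩
  have hmax := H38.SubO.subfield_maximal D hr (by rw [Nat.card_eq_fintype_card]; exact hcard)
  rwa [omegaGL_smul hζ q] at hmax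

end H46.OrthTwelve
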