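import Cfsg.Agent.H46.AschSmall
import Cfsg.Agent.H49.Transvec

/-!
In dimension three over the field with four elements the normaliser of a cubic field subalgebra in
the special linear group lies in a subfield group.
-/

set_option autoImplicit false
set_option linter.style.haveILetI false
set_option maxHeartbeats 1000000

open Cfsg.Geo
open scoped Matrix Kronecker MatrixGroups

namespace H46

variable {ι : Type} [Fintype ι] [DecidableEq ι] {F : Type*} [Field F]

theorem mem_subfieldSubgroup_of_entries (F₀ : Subfield F) (P g : GL ι F) {c : F} (hc : c ≠ 0)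
    (h : ∀ i j, c * ((P⁻¹ * g * P : GL ι F) : Matrix ι ι F) i j ∈ F₀) :
    g ∈ subfieldSubgroup F₀ P := by
  have hg : g = P * (P⁻¹ * g * P) * P⁻¹ := by group
  generalize P⁻¹ * g * P = k at h hg
  let M : Matrix ι ι F₀ := fun i j => ⟨c * (k : Matrix ι ι F) i j, h i j⟩
  have hMmap : M.map (F₀.subtype : F₀ →+* F) = c • (k : Matrix ι ι F) := rfl
  have hMdet : IsUnit M.det := by
    rw [isUnit_iff_ne_zero]
    intro h0
    have := congrArg (F₀.subtype : F₀ →+* F) h0
    rw [RingHom.map_det, map_zero, RingHom.mapMatrix_apply, hMmap, Matrix.det_smul] at this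
    rcases mul_eq_zero.1 this with h' | h'
    · exact pow_ne_zero _ hc h'
    · exact ((Matrix.isUnit_iff_isUnit_det _).1 k.isUnit).ne_zero h'
  refine ⟨k, ?_, hg.symm⟩
  have hsplit : k = scl ι (Units.mk0 c hc)⁻¹ *
      Matrix.GeneralLinearGroup.map (F₀.subtype : F₀ →+* F)
        ((Matrix.isUnit_iff_isUnit_det M).2 hMdet).unit := by
    apply Units.ext
    rw [scl_mul_val]
    show _ = _ • M.map (F₀.subtype : F₀ →+* F)
    rw [hMmap, smul_smul, Units.val_inv_eq_inv_val, Units.val_mk0, inv_mul_cancel₀ hc, one_smul]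
  rw [SetLike.mem_coe, hsplit]
  exact mul_mem (Subgroup.mem_sup_right (scl_mem _)) (Subgroup.mem_sup_left ⟨_, rfl⟩)

/-- A basis of a cubic extension of the field with four elements out of the field with eight
elements: the elements of the latter have coordinates in the prime field. -/
theorem exists_basis_eight [Fintype F] {K : Type*} [Field K] [Algebra F K] [Fintype K]
    (hq : Fintype.card F = 4) (hd : Module.finrank F K = 3) (hc3 : ∀ c : F, c ≠ 0 → c ^ 3 = 1)
    (h2F : (2 : F) = 0) :
    ∃ bK : Module.Basis (Fin 3) F K, (∀ i, bK i ^ 8 = bK i) ∧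
      ∀ y : K, y ^ 8 = y → ∀ i, bK.repr y i ^ 2 = bK.repr y i := by
  classical
  haveI : FiniteDimensional F K := Module.finite_of_finrank_eq_succ hd
  have hcK : Fintype.card K = 64 := by
    have h1 := Module.card_eq_pow_finrank (K := F) (V := K)
    rw [hq, hd] at h1
    simpa using h1
  -- a generator of the field with eight elements
  obtain ⟨w, hw⟩ := IsCyclic.exists_generator (α := Kˣ)
  have hwo : orderOf w = 63 := by
    rw [orderOf_eq_card_of_forall_mem_zpowers hw, Nat.card_units, Nat.card_eq_fintype_card, hcK]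
  obtain ⟨l, hl⟩ : ∃ l : K, l = ((w ^ 9 : Kˣ) : K) := ⟨_, rfl⟩
  have hl8 : l ^ 8 = l := by
    subst hl
    rw [← Units.val_pow_eq_pow_val, ← pow_mul,
      show 9 * 8 = orderOf w + 9 by rw [hwo], pow_add, pow_orderOf_eq_one, one_mul]
  have hlF : l ∉ (algebraMap F K).range := by
    rintro ⟨c, hc⟩
    have hc0 : c ≠ 0 := fun h => (w ^ 9).ne_zero (show ((w ^ 9 : Kˣ) : K) = 0 by rw [← hl, ← hc, h, map_zero])
    have h3 : (w ^ 9) ^ 3 = 1 := by
      apply Units.ext
      rw [Units.val_pow_eq_pow_val, Units.val_one]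
      rw [← hl, ← hc, ← map_pow, hc3 c hc0, map_one]
    rw [← pow_mul] at h3
    have := orderOf_dvd_of_pow_eq_one h3
    rw [hwo] at this
    norm_num at this
  have hlint : IsIntegral F l := IsIntegral.of_finite F l
  have hdeg : (minpoly F l).natDegree = 3 := by
    have h1 : (minpoly F l).natDegree ∣ 3 := by
      have := minpoly.degree_dvd (K := F) (L := K) hlint
      rwa [hd] at this
    rcases (Nat.dvd_prime Nat.prime_three).1 h1 with h | h
    · exact absurd ((minpoly.natDegree_eq_one_iff).1 h) hlF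
    · exact h
  have hli : LinearIndependent F (fun i : Fin 3 => l ^ (i : ℕ)) := by
    have := linearIndependent_pow (K := F) l
    exact this.comp (Fin.cast hdeg.symm) (Fin.cast_injective _)
  let bK : Module.Basis (Fin 3) F K := basisOfLinearIndependentOfCardEqFinrank hli (by
    rw [hd]; rfl)
  have hbK : ∀ i : Fin 3, bK i = l ^ (i : ℕ) := fun i => by
    simp [bK, coe_basisOfLinearIndependentOfCardEqFinrank]
  refine ⟨bK, fun i => by rw [hbK, ← pow_mul, mul_comm, pow_mul, hl8], fun y hy i => ?_⟩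
  have h8 : ∀ a : F, a ^ 8 = a ^ 2 := fun a => by
    rcases eq_or_ne a 0 with rfl | ha
    · simp
    · calc a ^ 8 = (a ^ 3) ^ 2 * a ^ 2 := by ring
        _ = a ^ 2 := by rw [hc3 a ha]; ring
  haveI : CharP K 2 := by
    have h2K : (2 : K) = 0 := by
      have := congrArg (algebraMap F K) h2F
      rwa [map_ofNat, map_zero] at this
    exact CharTwo.of_one_ne_zero_of_two_eq_zero one_ne_zero h2K
  haveI : Fact (Nat.Prime 2) := ⟨Nat.prime_two⟩
  have hy' : y = ∑ j, (bK.repr y j ^ 2) • bK j := by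
    conv_lhs => rw [← hy, ← bK.sum_repr y, show (8 : ℕ) = 2 ^ 3 from rfl, sum_pow_char_pow]
    refine Finset.sum_congr rfl fun j _ => ?_
    rw [smul_pow, show (2 : ℕ) ^ 3 = 8 from rfl, h8, hbK, ← pow_mul, mul_comm, pow_mul, hl8]
  have := congrArg (fun z => bK.repr z i) hy'
  simp [Finsupp.single_apply] at this
  exact this.symm

theorem pow_seven_mem_range [Fintype F] {K : Type*} [Field K] [Algebra F K]
    (hq : Fintype.card F = 4) (hc3 : ∀ c : F, c ≠ 0 → c ^ 3 = 1) {k : K} (hnorm : k ^ 21 = 1) :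
    k ^ 7 ∈ (algebraMap F K).range := by
  classical
  have hk3 : (k ^ 7) ^ 3 = 1 := by rw [← pow_mul]; exact hnorm
  obtain ⟨c0, hc0, hc01⟩ : ∃ c : F, c ≠ 0 ∧ c ≠ 1 := by
    by_contra hcon
    have h1 : Fintype.card F ≤ 2 := by
      rw [← Finset.card_univ]
      refine (Finset.card_le_card (t := {0, 1}) fun x _ => ?_).trans Finset.card_le_two
      simp only [Finset.mem_insert, Finset.mem_singleton]
      by_contra h
      simp only [not_or] at h
      exact hcon ⟨x, h⟩
    omega
  have hprim : IsPrimitiveRoot (algebraMap F K c0) 3 := by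
    refine (IsPrimitiveRoot.iff_orderOf).2 (orderOf_eq_prime ?_ ?_)
    · rw [← map_pow, hc3 c0 hc0, map_one]
    · intro h
      exact hc01 ((algebraMap F K).injective (h.trans (map_one _).symm))
  haveI : NeZero (3 : ℕ) := ⟨by norm_num⟩
  obtain ⟨i, -, hi⟩ := hprim.eq_pow_of_pow_eq_one hk3
  exact ⟨c0 ^ i, by rw [map_pow, hi]⟩

theorem exists_line_equiv [Nonempty ι] {K : Subalgebra F (Matrix ι ι F)}
    (hK : IsFieldSubalgebra (Fintype.card ι) K) :
    ∃ e : K ≃ₗ[F] (ι → F), ∀ y z : K, e (y * z) = (y : Matrix ι ι F) *ᵥ e z := by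
  classical
  -- the vector space as a line over K
  obtain ⟨i0⟩ := ‹Nonempty ι›
  set v0 : ι → F := Pi.single i0 1 with hv0def
  have hv0 : v0 ≠ 0 := by simp [hv0def]
  let ev : K →ₗ[F] (ι → F) :=
    { toFun := fun y => (y : Matrix ι ι F) *ᵥ v0
      map_add' := fun y z => by simp [Matrix.add_mulVec]
      map_smul' := fun c y => by simp [Matrix.smul_mulVec] }
  have hevi : Function.Injective ev := by
    rw [injective_iff_map_eq_zero]
    intro y hy
    by_contra h0
    apply hv0
    obtain ⟨z, hz, hzy⟩ := hK.inv y.1 y.2 (fun h => h0 (Subtype.ext h))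
    have h1 := congrArg (fun w => z *ᵥ w) (show (y : Matrix ι ι F) *ᵥ v0 = 0 from hy)
    simp only [Matrix.mulVec_mulVec, Matrix.mulVec_zero] at h1
    rwa [← hK.comm _ y.2 _ hz, hzy, Matrix.one_mulVec] at h1
  let evE : K ≃ₗ[F] (ι → F) := LinearEquiv.ofBijective ev ⟨hevi,
    (LinearMap.injective_iff_surjective_of_finrank_eq_finrank (by
      rw [hK.finrank_eq, Module.finrank_fintype_fun_eq_card])).1 hevi⟩
  refine ⟨evE, fun y z => ?_⟩
  show ((y * z : K) : Matrix ι ι F) *ᵥ v0 = (y : Matrix ι ι F) *ᵥ ((z : Matrix ι ι F) *ᵥ v0)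
  rw [MulMemClass.coe_mul, Matrix.mulVec_mulVec]

theorem field_le_subfield_four [Fintype F] (hι : Fintype.card ι = 3) (hq : Fintype.card F = 4)
    {K : Subalgebra F (Matrix ι ι F)} (hK : IsFieldSubalgebra 3 K) :
    ∃ (F₀ : Subfield F) (P : GL ι F), Fintype.card F = Nat.card F₀ ^ 2 ∧
      subalgebraNormalizer K ⊓ specialLinear ι F ≤ subfieldSubgroup F₀ P := by
  classical
  haveI : Nonempty ι := Fintype.card_pos_iff.1 (by omega)
  haveI : Nontrivial K := ⟨⟨0, 1, fun h => zero_ne_one (α := Matrix ι ι F) (congrArg Subtype.val h)⟩⟩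
  have hfld : IsField K :=
    { exists_pair_ne := exists_pair_ne _
      mul_comm := fun a b => Subtype.ext (hK.comm _ a.2 _ b.2)
      mul_inv_cancel := fun {a} ha => by
        obtain ⟨y, hy, h⟩ := hK.inv a.1 a.2 (fun h => ha (Subtype.ext h))
        exact ⟨⟨y, hy⟩, Subtype.ext h⟩ }
  letI : Field K := hfld.toField
  haveI : Finite K := inferInstance
  haveI : Fintype K := Fintype.ofFinite K
  have hcK : Fintype.card K = 64 := by
    have h1 := Module.card_eq_pow_finrank (K := F) (V := K)
    rw [hq, hK.finrank_eq] at h1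
    simpa using h1
  have hc3 : ∀ c : F, c ≠ 0 → c ^ 3 = 1 := fun c hc => by
    have := FiniteField.pow_card_sub_one_eq_one c hc
    rwa [hq] at this
  -- the subfield with two elements
  have h2F : (2 : F) = 0 := by
    by_contra h
    have := two_ne_zero_iff_odd.1 h
    rw [hq] at this
    exact absurd this (by decide)
  let F₀ : Subfield F :=
    { carrier := {c | c = 0 ∨ c = 1}
      mul_mem' := by rintro a b (rfl | rfl) (rfl | rfl) <;> simp
      one_mem' := Or.inr rfl
      add_mem' := by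
        rintro a b (rfl | rfl) (rfl | rfl)
        · exact Or.inl (add_zero 0)
        · exact Or.inr (zero_add 1)
        · exact Or.inr (add_zero 1)
        · exact Or.inl (by linear_combination h2F)
      zero_mem' := Or.inl rfl
      neg_mem' := by
        rintro a (rfl | rfl)
        · exact Or.inl neg_zero
        · exact Or.inr (by linear_combination -h2F)
      inv_mem' := by rintro a (rfl | rfl) <;> simp }
  have hF₀card : Nat.card F₀ = 2 := by
    have : (F₀ : Set F) = {0, 1} := rfl
    rw [← SetLike.coe_sort_coe, this, Nat.card_coe_set_eq, Set.ncard_pair zero_ne_one]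
  have hF₀mem : ∀ c : F, c ^ 2 = c → c ∈ F₀ := fun c h => by
    have : c * (c - 1) = 0 := by linear_combination h
    rcases mul_eq_zero.1 this with h | h
    · exact Or.inl h
    · exact Or.inr (sub_eq_zero.1 h)
  obtain ⟨bK, hb8, hF₀coord'⟩ := exists_basis_eight (K := K) hq hK.finrank_eq hc3 h2F
  have hF₀coord : ∀ y : K, y ^ 8 = y → ∀ i, bK.repr y i ∈ F₀ := fun y hy i =>
    hF₀mem _ (hF₀coord' y hy i)
  -- the vector space as a line over K
  obtain ⟨evE, hev⟩ := exists_line_equiv (K := K) (hι.symm ▸ hK)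
  let eι : Fin 3 ≃ ι := (Fintype.equivFinOfCardEq hι).symm
  let bv : Module.Basis ι F (ι → F) := (bK.map evE).reindex eι
  haveI := (Pi.basisFun F ι).invertibleToMatrix bv
  let P : GL ι F := unitOfInvertible ((Pi.basisFun F ι).toMatrix bv)
  have hPcol : ∀ j, (P : Matrix ι ι F) *ᵥ Pi.single j 1 = bv j := fun j => by
    ext i
    simp [P, Module.Basis.toMatrix_apply]
  refine ⟨F₀, P, by rw [hq, hF₀card]; rfl, fun g hg => ?_⟩
  obtain ⟨hgK, hgS⟩ := hg
  -- the automorphism induced on K
  let α : K →ₐ[F] K := (((glConj g).toAlgHom).comp K.val).codRestrict K fun y => (hgK y.1).1 y.2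
  obtain ⟨k, hk⟩ : ∃ k : K, evE k = (g : Matrix ι ι F) *ᵥ evE 1 := ⟨_, evE.apply_symm_apply _⟩
  have hgev : ∀ y : K, (g : Matrix ι ι F) *ᵥ evE y = evE (k * α y) := by
    intro y
    have h1 := hk
    have hg := (glConj_eq_iff g (y : Matrix ι ι F) _).1 rfl
    rw [mul_comm k, hev]
    show _ = glConj g (y : Matrix ι ι F) *ᵥ _
    rw [h1, Matrix.mulVec_mulVec, ← hg, ← Matrix.mulVec_mulVec, ← hev, mul_one]
  have hαent : ∀ i j, bK.repr (α (bK j)) i ∈ F₀ := fun i j => by
    refine hF₀coord _ ?_ i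
    rw [← map_pow, hb8]
  have hdetα : LinearMap.det α.toLinearMap = 1 := by
    rw [← LinearMap.det_toMatrix bK]
    let M : Matrix (Fin 3) (Fin 3) F₀ := fun i j => ⟨_, hαent i j⟩
    have hM : LinearMap.toMatrix bK bK α.toLinearMap = (F₀.subtype : F₀ →+* F).mapMatrix M := by
      ext i j
      rw [LinearMap.toMatrix_apply]
      rfl
    rw [hM, ← RingHom.map_det]
    have hne : ((F₀.subtype : F₀ →+* F) M.det) ≠ 0 := by
      rw [RingHom.map_det, ← hM, LinearMap.det_toMatrix]
      intro h0
      obtain ⟨z, hz, hz0⟩ := (LinearMap.ker α.toLinearMap).exists_mem_ne_zero_of_ne_bot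
        (LinearMap.bot_lt_ker_of_det_eq_zero h0).ne'
      exact hz0 (α.toRingHom.injective ((show α z = 0 from hz).trans (map_zero α).symm))
    exact M.det.2.resolve_left hne
  have hnorm : k ^ 21 = 1 := by
    have hdet : LinearMap.det (Matrix.toLin' (g : Matrix ι ι F)) = Algebra.norm F k := by
      have h1 : Matrix.toLin' (g : Matrix ι ι F) = evE.toLinearMap ∘ₗ
          ((Algebra.lmul F K k) ∘ₗ α.toLinearMap) ∘ₗ evE.symm.toLinearMap := by
        apply LinearMap.ext
        intro v
        obtain ⟨y, rfl⟩ := evE.surjective v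
        simp only [Matrix.toLin'_apply, LinearMap.comp_apply, LinearEquiv.coe_coe,
          LinearEquiv.symm_apply_apply, hgev]
        rfl
      rw [h1, LinearMap.det_conj, LinearMap.det_comp, hdetα, mul_one, Algebra.norm_apply]
    rw [LinearMap.det_toLin', ← Matrix.GeneralLinearGroup.val_det_apply,
      (show Matrix.GeneralLinearGroup.det g = 1 from hgS), Units.val_one] at hdet
    have h2 := FiniteField.algebraMap_norm_eq_pow (K := F) (K' := K) (x := k)
    rw [← hdet, map_one, Nat.card_eq_fintype_card, Nat.card_eq_fintype_card, hcK, hq] at h2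
    simpa using h2.symm
  have hk7 := pow_seven_mem_range (K := K) hq hc3 hnorm
  obtain ⟨c, hc⟩ := hk7
  have hk0 : k ≠ 0 := fun h => by rw [h] at hnorm; simp at hnorm
  have hc0 : c ≠ 0 := fun h => pow_ne_zero 7 hk0 (by rw [← hc, h, map_zero])
  refine mem_subfieldSubgroup_of_entries F₀ P g (inv_ne_zero hc0) fun i j => ?_
  have hcol : ((P⁻¹ * g * P : GL ι F) : Matrix ι ι F) i j =
      bK.repr (k * α (bK (eι.symm j))) (eι.symm i) := by
    have h1 : ((P⁻¹ * g * P : GL ι F) : Matrix ι ι F) *ᵥ Pi.single j 1 =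
        fun a => bK.repr (k * α (bK (eι.symm j))) (eι.symm a) := by
      apply H49.gl_mulVec_injective P
      show (P : Matrix ι ι F) *ᵥ (((P⁻¹ * g * P : GL ι F) : Matrix ι ι F) *ᵥ Pi.single j 1) =
        (P : Matrix ι ι F) *ᵥ _
      rw [Matrix.mulVec_mulVec, ← Units.val_mul, show P * (P⁻¹ * g * P) = g * P by group,
        Units.val_mul, ← Matrix.mulVec_mulVec, hPcol,
        show (P : Matrix ι ι F) = (Pi.basisFun F ι).toMatrix bv from rfl]
      have h2 : bv.repr ((g : Matrix ι ι F) *ᵥ bv j) =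
          fun a => bK.repr (k * α (bK (eι.symm j))) (eι.symm a) := by
        funext a
        simp [bv, hgev]
      rw [← h2, Module.Basis.toMatrix_mulVec_repr]
      ext a; rw [Pi.basisFun_repr]
    have := congrFun h1 i
    rwa [Matrix.mulVec_single_one] at this
  rw [hcol, ← smul_eq_mul, ← Finsupp.smul_apply, ← map_smul]
  refine hF₀coord _ ?_ _
  have hkl : c⁻¹ • k = k ^ 15 := by
    rw [inv_smul_eq_iff₀ hc0, Algebra.smul_def, hc, ← pow_add,
      show 7 + 15 = 21 + 1 from rfl, pow_add, hnorm, one_mul, pow_one]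
  have hk120 : (k ^ 15) ^ 8 = k ^ 15 := by
    rw [← pow_mul, show 15 * 8 = 21 * 5 + 15 from rfl, pow_add, pow_mul k 21 5, hnorm, one_pow,
      one_mul]
  rw [← smul_mul_assoc, hkl, mul_pow, ← map_pow α, hb8, hk120]

end H46
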