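import Cfsg.Agent.H46.AschSmall

/-!
Two exceptional cases in dimension four: planes over the field with three elements preserve a
symplectic form, and the monomial group over the field with five elements is not maximal, being
inside the normaliser of a group of symplectic type.
-/

set_option autoImplicit false
set_option linter.style.haveILetI false
set_option linter.unusedSectionVars false
set_option maxHeartbeats 800000

open Cfsg.Geo
open scoped Matrix MatrixGroups

namespace H46

variable {F : Type*} [Field F] [Fintype F]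

/-- Two planes over the field with three elements: the two determinants agree. -/
theorem planes_three (hq : Fintype.card F = 3) {D : Fin 2 → Submodule F (Fin 4 → F)}
    (hD : IsMDecomposition 2 D) {H : Subgroup (GL (Fin 4) F)}
    (hH : H ≤ decompositionStabilizer D ⊓ specialLinear (Fin 4) F) :
    ∃ f : (Fin 4 → F) → (Fin 4 → F) → F, IsSymplecticForm f ∧ H ≤ similarityGroup f := by
  classical
  obtain ⟨-, b, -, hb⟩ := decomp_basis hD
  refine ⟨fun u v => ∑ i, (b.repr u (i, 0) * b.repr v (i, 1) - b.repr u (i, 1) * b.repr v (i, 0)),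
    ⟨⟨?_, ?_, ?_, ?_⟩, fun v w => ?_, fun v => ?_, fun v hv => ?_⟩, fun g hg => ?_⟩
  all_goals first
    | (intro x y z; simp only [map_add, map_smul, Finsupp.add_apply, Finsupp.smul_apply, smul_eq_mul,
        Finset.mul_sum, ← Finset.sum_add_distrib]; exact Finset.sum_congr rfl fun i _ => by ring)
    | skip
  · rw [← Finset.sum_neg_distrib]
    exact Finset.sum_congr rfl fun i _ => by ring
  · exact Finset.sum_eq_zero fun i _ => by ring
  · obtain ⟨⟨i, j⟩, hij⟩ : ∃ q, b.repr v q ≠ 0 := by
      by_contra hcon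
      simp only [not_exists, not_not] at hcon
      exact hv (b.repr.injective (by ext q; simp [hcon q]))
    refine ⟨⟨b (i, j + 1), ?_⟩, ⟨b (i, j + 1), ?_⟩⟩ <;> fin_cases j <;>
      simp [Finsupp.single_apply] <;> simpa [ite_and, Prod.ext_iff] using hij
  obtain ⟨hgD, hgS⟩ := hH hg
  obtain ⟨π, A, hA, hgb, hr⟩ := hb g hgD
  -- the determinant
  have hdet : (A 0).det * (A 1).det = 1 := by
    set M := LinearMap.toMatrix b b (Matrix.toLin' (g : Matrix (Fin 4) (Fin 4) F)) with hM
    have hMdet : M.det = 1 := by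
      rw [hM, LinearMap.det_toMatrix, LinearMap.det_toLin', ← Matrix.GeneralLinearGroup.val_det_apply,
        (show Matrix.GeneralLinearGroup.det g = 1 from hgS), Units.val_one]
    have hsub : M.submatrix (π.prodCongr (Equiv.refl (Fin 2))) id =
        (Matrix.blockDiagonal A).submatrix (Equiv.prodComm _ _) (Equiv.prodComm _ _) := by
      ext ⟨i, k⟩ ⟨i', j⟩
      simp only [hM, Matrix.submatrix_apply, LinearMap.toMatrix_apply, Matrix.toLin'_apply, id_eq]
      show b.repr ((g : Matrix (Fin 4) (Fin 4) F) *ᵥ b (i', j)) (π i, k) =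
        Matrix.blockDiagonal A (k, i) (j, i')
      rw [hr, Matrix.blockDiagonal_apply]
      by_cases h : i = i'
      · subst h
        simp [Matrix.mulVec, dotProduct, Finsupp.single_apply]
      · simp [Matrix.mulVec, dotProduct, Finsupp.single_apply, h, Ne.symm h]
    have hsign : ∀ σ : Equiv.Perm (Fin 2),
        Equiv.Perm.sign (σ.prodCongr (Equiv.refl (Fin 2))) = 1 := by decide
    have h1 := congrArg Matrix.det hsub
    rw [Matrix.det_permute, hsign, hMdet, Matrix.det_submatrix_equiv_self, Matrix.det_blockDiagonal,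
      Fin.prod_univ_two] at h1
    simpa using h1.symm
  have hsq : (A 0).det * (A 0).det = 1 := by
    have h := FiniteField.pow_card_sub_one_eq_one _ (hA 0)
    rw [hq] at h
    rw [← h]; ring
  have heq : ∀ i, (A i).det = (A 0).det := by
    intro i
    fin_cases i
    · rfl
    · show (A 1).det = _
      linear_combination (A 0).det * hdet - (A 1).det * hsq
  refine ⟨Units.mk0 _ (hA 0), fun u v => ?_⟩
  simp only [Units.val_mk0, Finset.mul_sum]
  rw [← Equiv.sum_comp π]
  refine Finset.sum_congr rfl fun i _ => ?_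
  have hdet' := heq i
  rw [Matrix.det_fin_two] at hdet'
  simp only [hr, Matrix.mulVec, dotProduct, Fin.sum_univ_two]
  linear_combination (b.repr u (i, 0) * b.repr v (i, 1) - b.repr u (i, 1) * b.repr v (i, 0)) * hdet'

/-! ### Four lines over the field with five elements -/

local instance factPrimeFive : Fact (Nat.Prime 5) := ⟨by norm_num⟩

/-- The monomial matrices with translation v and entries e. -/
def pauliMat (e : Fin 4 → ZMod 5) (v : Fin 4) : Matrix (Fin 4) (Fin 4) (ZMod 5) :=
  Matrix.of fun x y => if y = x ^^^ v then e x else 0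

/-- The conditions on the entries. -/
def PauliCond (e : Fin 4 → ZMod 5) : Prop :=
  (∀ x, e x * e x = e 0 * e 0) ∧ e 0 * e 1 * e 2 * e 3 = 1

instance (e : Fin 4 → ZMod 5) : Decidable (PauliCond e) := by unfold PauliCond; infer_instance

/-- A group of symplectic type of order sixty-four, as a set of matrices. -/
def IsPauliFive (M : Matrix (Fin 4) (Fin 4) (ZMod 5)) : Prop :=
  ∃ e v, PauliCond e ∧ M = pauliMat e v

/-- The elements mapping it into itself under conjugation. -/
def pauliNormalizer : Subgroup (GL (Fin 4) (ZMod 5)) :=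
  let S : Submonoid (GL (Fin 4) (ZMod 5)) :=
    { carrier := {g | ∀ M, IsPauliFive M →
        IsPauliFive ((g : Matrix (Fin 4) (Fin 4) (ZMod 5)) * M * ((g⁻¹ : GL (Fin 4) (ZMod 5)) : Matrix (Fin 4) (Fin 4) (ZMod 5)))}
      one_mem' := fun M h => by simpa using h
      mul_mem' := fun {a b} ha hb M h => by
        have := ha _ (hb M h)
        simpa [mul_assoc, Units.val_mul] using this }
  { S with
    inv_mem' := fun {g} hg => by
      have h : g⁻¹ = g ^ (orderOf g - 1) := by
        apply inv_eq_of_mul_eq_one_right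
        rw [← pow_succ', Nat.sub_add_cancel (orderOf_pos g), pow_orderOf_eq_one]
      show g⁻¹ ∈ S
      rw [h]
      exact S.pow_mem hg _ }

theorem mem_pauliNormalizer (g : GL (Fin 4) (ZMod 5)) {N : Matrix (Fin 4) (Fin 4) (ZMod 5)}
    (hN : (g : Matrix (Fin 4) (Fin 4) (ZMod 5)) * N = 1)
    (h : ∀ e v, PauliCond e →
      IsPauliFive ((g : Matrix (Fin 4) (Fin 4) (ZMod 5)) * pauliMat e v * N)) :
    g ∈ pauliNormalizer := by
  rintro _ ⟨e, v, he, rfl⟩
  rw [show ((g⁻¹ : GL (Fin 4) (ZMod 5)) : Matrix (Fin 4) (Fin 4) (ZMod 5)) = N from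
    Units.inv_eq_of_mul_eq_one_right hN]
  exact h e v he

/-- Diagonal matrices with the product of squares one. -/
theorem diagonal_mem_pauliNormalizer (g : GL (Fin 4) (ZMod 5)) {c : Fin 4 → ZMod 5}
    (hg : (g : Matrix (Fin 4) (Fin 4) (ZMod 5)) = Matrix.diagonal c)
    (hc : (c 0 * c 1 * c 2 * c 3) * (c 0 * c 1 * c 2 * c 3) = 1) : g ∈ pauliNormalizer := by
  have hc0 : ∀ x, c x ≠ 0 := by
    intro x h
    fin_cases x <;> simp_all
  have hs : ∀ s : Fin 4 → Bool, xor (xor (s 0) (s 1)) (xor (s 2) (s 3)) = false → ∀ v x : Fin 4,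
      xor (s x) (s (x ^^^ v)) = xor (s 0) (s (0 ^^^ v)) := by decide
  have hsq : ∀ a : ZMod 5, a ≠ 0 → a * a = if a * a = 1 then 1 else -1 := by decide
  refine mem_pauliNormalizer g (N := Matrix.diagonal fun x => (c x)⁻¹) ?_ fun e v he => ?_
  · rw [hg, Matrix.diagonal_mul_diagonal, ← Matrix.diagonal_one]
    congr 1
    funext x
    exact mul_inv_cancel₀ (hc0 x)
  refine ⟨fun x => c x * e x * (c (x ^^^ v))⁻¹, v, ⟨fun x => ?_, ?_⟩, ?_⟩
  · set s : Fin 4 → Bool := fun y => decide (c y * c y ≠ 1) with hsdef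
    have hval : ∀ y, c y * c y = if s y then -1 else 1 := fun y => by
      rw [hsq _ (hc0 y)]
      by_cases h : c y * c y = 1 <;> simp [hsdef, h]
    have heven : xor (xor (s 0) (s 1)) (xor (s 2) (s 3)) = false := by
      have hprod : c 0 * c 0 * (c 1 * c 1) * (c 2 * c 2) * (c 3 * c 3) = 1 := by rw [← hc]; ring
      rw [hval 0, hval 1, hval 2, hval 3] at hprod
      revert hprod
      cases s 0 <;> cases s 1 <;> cases s 2 <;> cases s 3 <;> decide
    have key := hs s heven v x
    have hinv : ∀ y, (c y)⁻¹ * (c y)⁻¹ = if s y then -1 else 1 := fun y => by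
      rw [← mul_inv, hval y]
      cases s y <;> simp
    calc c x * e x * (c (x ^^^ v))⁻¹ * (c x * e x * (c (x ^^^ v))⁻¹)
        = (c x * c x) * ((c (x ^^^ v))⁻¹ * (c (x ^^^ v))⁻¹) * (e x * e x) := by ring
      _ = (c 0 * c 0) * ((c (0 ^^^ v))⁻¹ * (c (0 ^^^ v))⁻¹) * (e 0 * e 0) := by
        rw [he.1 x, hval, hinv, hval, hinv]
        congr 1
        revert key
        cases s x <;> cases s (x ^^^ v) <;> cases s 0 <;> cases s (0 ^^^ v) <;> simp
      _ = _ := by ring
  · have hperm : ∀ w : Fin 4, c (0 ^^^ w) * c (1 ^^^ w) * c (2 ^^^ w) * c (3 ^^^ w) =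
        c 0 * c 1 * c 2 * c 3 := by
      intro w
      fin_cases w <;> simp <;> ring
    calc _ = (e 0 * e 1 * e 2 * e 3) * ((c 0 * c 1 * c 2 * c 3) *
          (c (0 ^^^ v) * c (1 ^^^ v) * c (2 ^^^ v) * c (3 ^^^ v))⁻¹) := by
            simp only [mul_inv]; ring
      _ = 1 := by
        rw [hperm, he.2, one_mul, mul_inv_cancel₀]
        exact mul_ne_zero (mul_ne_zero (mul_ne_zero (hc0 0) (hc0 1)) (hc0 2)) (hc0 3)
  · ext x y
    rw [hg, Matrix.mul_diagonal, Matrix.diagonal_mul]
    by_cases h : y = x ^^^ v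
    · subst h
      simp [pauliMat]
    · simp [pauliMat, h]

/-- Permutation matrices. -/
theorem perm_mem_pauliNormalizer (g : GL (Fin 4) (ZMod 5)) {π : Equiv.Perm (Fin 4)}
    (hg : (g : Matrix (Fin 4) (Fin 4) (ZMod 5)) = Matrix.of fun x y => if x = π y then 1 else 0) :
    g ∈ pauliNormalizer := by
  have hs : ∀ (π : Equiv.Perm (Fin 4)) (v : Fin 4), ∃ w, ∀ x, π (x ^^^ v) = π x ^^^ w := by decide
  refine mem_pauliNormalizer g (N := Matrix.of fun x y => if π x = y then 1 else 0) ?_ fun e v he => ?_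
  · rw [hg]
    ext x y
    rw [Matrix.mul_apply, Finset.sum_eq_single (π.symm x)]
    · simp [Matrix.one_apply]
    · intro z _ hz
      have : x ≠ π z := fun h => hz (by rw [h, π.symm_apply_apply])
      simp [this]
    · simp
  obtain ⟨w, hw⟩ := hs π v
  refine ⟨fun x => e (π.symm x), w, ⟨fun x => ?_, ?_⟩, ?_⟩
  · rw [he.1, he.1 (π.symm 0)]
  · have h := Equiv.prod_comp π.symm e
    simp only [Fin.prod_univ_four] at h
    rw [h, he.2]
  · ext x y
    have hl : ∀ (B : Matrix (Fin 4) (Fin 4) (ZMod 5)) z,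
        ((g : Matrix (Fin 4) (Fin 4) (ZMod 5)) * B) x z = B (π.symm x) z := by
      intro B z
      rw [hg, Matrix.mul_apply, Finset.sum_eq_single (π.symm x)]
      · simp
      · intro z' _ hz
        have : x ≠ π z' := fun h => hz (by rw [h, π.symm_apply_apply])
        simp [this]
      · simp
    rw [Matrix.mul_apply, Finset.sum_eq_single (π.symm x ^^^ v)]
    · have hx : π (π.symm x ^^^ v) = x ^^^ w := by rw [hw, π.apply_symm_apply]
      rw [hl]
      simp [pauliMat, hx, eq_comm]
    · intro z _ hz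
      rw [hl]
      simp [pauliMat, hz]
    · simp

/-- A reflection acting on one tensor factor. -/
def pauliHad : Matrix (Fin 4) (Fin 4) (ZMod 5) := !![1, 0, 1, 0; 0, 1, 0, 1; 1, 0, 4, 0; 0, 1, 0, 4]

def pauliHadGL : GL (Fin 4) (ZMod 5) :=
  ⟨pauliHad, (3 : ZMod 5) • pauliHad, by decide +kernel, by decide +kernel⟩

set_option maxRecDepth 4000 in
theorem had_mem_pauliNormalizer : pauliHadGL ∈ pauliNormalizer := by
  have key : ∀ a b c d : ZMod 5, PauliCond ![a, b, c, d] → ∀ v, ∃ w : Fin 4,
      let N := pauliHad * pauliMat ![a, b, c, d] v * ((3 : ZMod 5) • pauliHad)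
      PauliCond (fun x => N x (x ^^^ w)) ∧ ∀ x y, y ≠ x ^^^ w → N x y = 0 := by decide +kernel
  refine mem_pauliNormalizer pauliHadGL (N := (3 : ZMod 5) • pauliHad) pauliHadGL.3 fun e v he => ?_
  have hee : e = ![e 0, e 1, e 2, e 3] := by funext i; fin_cases i <;> rfl
  show IsPauliFive (pauliHad * pauliMat e v * ((3 : ZMod 5) • pauliHad))
  rw [hee] at he ⊢
  obtain ⟨w, h1, h2⟩ := key _ _ _ _ he v
  refine ⟨_, w, h1, ?_⟩
  ext x y
  by_cases h : y = x ^^^ w
  · subst h
    simp [pauliMat]
  · simp only [pauliMat, Matrix.of_apply, if_neg h]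
    exact h2 x y h

theorem not_mem_pauliNormalizer (g : GL (Fin 4) (ZMod 5))
    (hg : (g : Matrix (Fin 4) (Fin 4) (ZMod 5)) = Matrix.transvection 0 1 1) :
    g ∉ pauliNormalizer := by
  intro h
  obtain ⟨e, v, -, he⟩ := h (pauliMat ![1, 4, 1, 4] 0) ⟨_, 0, by decide, rfl⟩
  rw [show ((g⁻¹ : GL (Fin 4) (ZMod 5)) : Matrix (Fin 4) (Fin 4) (ZMod 5)) =
      Matrix.transvection (0 : Fin 4) 1 (-1 : ZMod 5) from Units.inv_eq_of_mul_eq_one_right (by rw [hg]; decide +kernel),
    hg] at he
  have h00 := congrFun (congrFun he 0) 0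
  have h01 := congrFun (congrFun he 0) 1
  have c0 : (Matrix.transvection (0 : Fin 4) 1 (1 : ZMod 5) * pauliMat ![1, 4, 1, 4] 0 *
      Matrix.transvection (0 : Fin 4) 1 (-1 : ZMod 5)) 0 0 ≠ 0 := by decide +kernel
  have c1 : (Matrix.transvection (0 : Fin 4) 1 (1 : ZMod 5) * pauliMat ![1, 4, 1, 4] 0 *
      Matrix.transvection (0 : Fin 4) 1 (-1 : ZMod 5)) 0 1 ≠ 0 := by decide +kernel
  rw [h00] at c0
  rw [h01] at c1
  fin_cases v <;> simp [pauliMat] at c0 c1

/-- A permutation matrix as an element of the linear group. -/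
def permUnit (π : Equiv.Perm (Fin 4)) : GL (Fin 4) (ZMod 5) where
  val := Matrix.of fun x y => if x = π y then 1 else 0
  inv := Matrix.of fun x y => if π x = y then 1 else 0
  val_inv := by
    ext x y
    rw [Matrix.mul_apply, Finset.sum_eq_single (π.symm x)]
    · simp [Matrix.one_apply]
    · intro z _ hz
      have : x ≠ π z := fun h => hz (by rw [h, π.symm_apply_apply])
      simp [this]
    · simp
  inv_val := by
    ext x y
    rw [Matrix.mul_apply, Finset.sum_eq_single (π x)]
    · simp [Matrix.one_apply]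
    · intro z _ hz
      simp [Ne.symm hz]
    · simp

/-- Over the field with five elements the stabiliser of four lines is not maximal. -/
theorem monomial_not_maximal (hq : Fintype.card F = 5) {H : Subgroup (GL (Fin 4) F)}
    (hH : IsMaximalIn (specialLinear (Fin 4) F) H) {D : Fin 4 → Submodule F (Fin 4 → F)}
    (hD : IsMDecomposition 1 D) (hHD : H ≤ decompositionStabilizer D) : False := by
  classical
  let φ : ZMod 5 ≃+* F := ZMod.ringEquivOfPrime F (by norm_num) hq
  obtain ⟨-, b', -, hb'⟩ := decomp_basis hD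
  let b : Module.Basis (Fin 4) F (Fin 4 → F) := b'.reindex (Equiv.prodUnique (Fin 4) (Fin 1))
  haveI := (Pi.basisFun F (Fin 4)).invertibleToMatrix b
  let P : GL (Fin 4) F := unitOfInvertible ((Pi.basisFun F (Fin 4)).toMatrix b)
  let mp := Matrix.GeneralLinearGroup.map (n := Fin 4) φ.toRingHom
  let Φ : GL (Fin 4) (ZMod 5) →* GL (Fin 4) F := (MulAut.conj P).toMonoidHom.comp mp
  have hΦ : ∀ A, Φ A = P * mp A * P⁻¹ := fun A => rfl
  have hmp : ∀ A, (mp A : Matrix (Fin 4) (Fin 4) F) =
      ((A : Matrix (Fin 4) (Fin 4) (ZMod 5)).map φ) := fun A => rfl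
  have hΦi : Function.Injective Φ := by
    intro A B h
    rw [hΦ, hΦ, mul_left_inj, mul_right_inj] at h
    apply Units.ext
    have := congrArg (fun z : GL (Fin 4) F => (z : Matrix (Fin 4) (Fin 4) F)) h
    simp only [hmp] at this
    exact Matrix.map_injective φ.injective this
  have hΦdet : ∀ A, Φ A ∈ specialLinear (Fin 4) F ↔
      (A : Matrix (Fin 4) (Fin 4) (ZMod 5)).det = 1 := by
    intro A
    show Matrix.GeneralLinearGroup.det (Φ A) = 1 ↔ _
    rw [hΦ, map_mul, map_mul, mul_right_comm, ← map_mul, mul_inv_cancel, map_one, one_mul,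
      ← Units.val_eq_one, Matrix.GeneralLinearGroup.val_det_apply, hmp,
      show ((A : Matrix (Fin 4) (Fin 4) (ZMod 5)).map φ).det = φ (A : Matrix (Fin 4) (Fin 4) (ZMod 5)).det
        from (RingHom.map_det φ.toRingHom _).symm, EmbeddingLike.map_eq_one_iff]
  -- preimages of monomial matrices
  have hmon : ∀ g ∈ H, ∃ (A : GL (Fin 4) (ZMod 5)) (π : Equiv.Perm (Fin 4)) (c : Fin 4 → ZMod 5),
      (A : Matrix (Fin 4) (Fin 4) (ZMod 5)) = Matrix.of (fun x y => if x = π y then c y else 0) ∧
      Φ A = g := by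
    intro g hg
    obtain ⟨π, A, hA, hgb, -⟩ := hb' g (hHD hg)
    let M : Matrix (Fin 4) (Fin 4) (ZMod 5) :=
      Matrix.of fun x y => if x = π y then φ.symm (A y 0 0) else 0
    have hM : M.map φ = ((P⁻¹ * g * P : GL (Fin 4) F) : Matrix (Fin 4) (Fin 4) F) := by
      apply Matrix.ext_of_mulVec_single
      intro j
      have hPcol : ∀ i, (P : Matrix (Fin 4) (Fin 4) F) *ᵥ Pi.single i 1 = b i := fun i => by
        ext k; simp [P, Module.Basis.toMatrix_apply]
      have hbb : ∀ i, b i = b' (i, 0) := fun i => by simp [b]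
      have h1 : (g : Matrix (Fin 4) (Fin 4) F) *ᵥ b j = A j 0 0 • b (π j) := by
        rw [hbb, hgb]
        simp [hbb]
      rw [Units.val_mul, Units.val_mul, ← Matrix.mulVec_mulVec, ← Matrix.mulVec_mulVec, hPcol, h1,
        Matrix.mulVec_smul, ← hPcol, Matrix.mulVec_mulVec, ← Units.val_mul, inv_mul_cancel,
        Units.val_one, Matrix.one_mulVec]
      ext x
      by_cases h : x = π j <;> simp [M, h, apply_ite φ]
    have hdet : IsUnit M.det := by
      rw [isUnit_iff_ne_zero]
      intro h0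
      have : (M.map φ).det = 0 := by
        rw [show (M.map φ).det = φ M.det from (RingHom.map_det φ.toRingHom _).symm, h0, map_zero]
      rw [hM] at this
      exact ((Matrix.isUnit_iff_isUnit_det _).1 (Units.isUnit _)).ne_zero this
    refine ⟨((Matrix.isUnit_iff_isUnit_det M).2 hdet).unit, π, fun y => φ.symm (A y 0 0), rfl, ?_⟩
    rw [hΦ, show mp ((Matrix.isUnit_iff_isUnit_det M).2 hdet).unit = P⁻¹ * g * P from
      Units.ext hM]
    group
  have hHX : H ≤ pauliNormalizer.map Φ ⊓ specialLinear (Fin 4) F := by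
    refine le_inf (fun g hg => ?_) hH.1.le
    obtain ⟨A, π, c, hA, rfl⟩ := hmon g hg
    refine ⟨A, ?_, rfl⟩
    let Q : Matrix (Fin 4) (Fin 4) (ZMod 5) := Matrix.of fun x y => if x = π y then 1 else 0
    let Q' : Matrix (Fin 4) (Fin 4) (ZMod 5) := Matrix.of fun x y => if π x = y then 1 else 0
    let p : GL (Fin 4) (ZMod 5) := permUnit π
    have hd : ((p⁻¹ * A : GL (Fin 4) (ZMod 5)) : Matrix (Fin 4) (Fin 4) (ZMod 5)) = Matrix.diagonal c := by
      rw [Units.val_mul, hA]
      show Q' * _ = _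
      ext x y
      rw [Matrix.mul_apply, Finset.sum_eq_single (π x)]
      · by_cases h : x = y <;> simp [Q', h, π.injective.eq_iff]
      · intro z _ hz; simp [Q', Ne.symm hz]
      · simp
    have hdetA := (hΦdet A).1 (hH.1.le hg)
    have hcprod : (c 0 * c 1 * c 2 * c 3) * (c 0 * c 1 * c 2 * c 3) = 1 := by
      have h1 := congrArg Matrix.det hd
      rw [Units.val_mul, Matrix.det_mul, hdetA, mul_one, Matrix.det_diagonal, Fin.prod_univ_four] at h1
      rw [← h1]
      show Q'.det * Q'.det = 1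
      have : Q' = π.permMatrix (ZMod 5) := by
        ext x y; simp [Q', Equiv.Perm.permMatrix, PEquiv.toMatrix_apply]
      rw [this, Matrix.det_permutation]
      rcases Int.units_eq_one_or (Equiv.Perm.sign π) with h | h <;> simp [h]
    have := pauliNormalizer.mul_mem (perm_mem_pauliNormalizer p (π := π) rfl)
      (diagonal_mem_pauliNormalizer (p⁻¹ * A) hd hcprod)
    rwa [mul_inv_cancel_left] at this
  let τ : GL (Fin 4) (ZMod 5) := ⟨Matrix.of fun x y => if x = Equiv.swap 0 1 y then 1 else 0,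
    Matrix.of fun x y => if x = Equiv.swap 0 1 y then 1 else 0, by decide +kernel, by decide +kernel⟩
  have hη : pauliHadGL * τ ∈ pauliNormalizer :=
    pauliNormalizer.mul_mem had_mem_pauliNormalizer (perm_mem_pauliNormalizer τ (π := Equiv.swap 0 1) rfl)
  have hηS : Φ (pauliHadGL * τ) ∈ specialLinear (Fin 4) F := by
    rw [hΦdet]; decide +kernel
  rcases hH.2 _ hHX inf_le_right with h | h
  · have hmem : Φ (pauliHadGL * τ) ∈ H := by
      rw [← h]; exact ⟨⟨_, hη, rfl⟩, hηS⟩
    obtain ⟨A, π, c, hA, hAe⟩ := hmon _ hmem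
    rw [hΦi.eq_iff] at hAe
    subst hAe
    have h1 := congrFun (congrFun hA 0) 1
    have h2 := congrFun (congrFun hA 2) 1
    have e1 : ((pauliHadGL * τ : GL (Fin 4) (ZMod 5)) : Matrix (Fin 4) (Fin 4) (ZMod 5)) 0 1 ≠ 0 := by
      decide +kernel
    have e2 : ((pauliHadGL * τ : GL (Fin 4) (ZMod 5)) : Matrix (Fin 4) (Fin 4) (ZMod 5)) 2 1 ≠ 0 := by
      decide +kernel
    rw [h1] at e1
    rw [h2] at e2
    simp only [Matrix.of_apply, ne_eq, ite_eq_right_iff, not_forall] at e1 e2
    obtain ⟨e1, -⟩ := e1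
    obtain ⟨e2, -⟩ := e2
    exact absurd (e1.trans e2.symm) (by decide)
  · let t : GL (Fin 4) (ZMod 5) := ⟨Matrix.transvection 0 1 1, Matrix.transvection 0 1 (-1),
      by decide +kernel, by decide +kernel⟩
    have htS : Φ t ∈ specialLinear (Fin 4) F := by rw [hΦdet]; decide +kernel
    obtain ⟨⟨A, hA, hAe⟩, -⟩ := h.ge htS
    rw [hΦi.eq_iff] at hAe
    exact not_mem_pauliNormalizer t rfl (hAe ▸ hA)

end H46
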