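import Cfsg.Agent.H46.Perm

/-! Subgroups of index 6 of the symmetric group on six points. -/

set_option autoImplicit false

namespace H46

open Equiv Equiv.Perm MulAction

variable {Ω : Type*} [Fintype Ω] [DecidableEq Ω]

/-- An automorphism taking an index-six subgroup to a point stabilizer. -/
theorem exists_aut_map_stabilizer (h6 : Fintype.card Ω = 6) (H : Subgroup (Perm Ω))
    (hH : H.index = 6) (x₀ : Ω) :
    ∃ Φ : Perm Ω ≃* Perm Ω, ∀ h, h ∈ H ↔ Φ h x₀ = x₀ := by
  classical
  have hc : Nat.card (Perm Ω) = 720 := by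
    rw [Nat.card_perm, Nat.card_eq_fintype_card, h6]; rfl
  have : Nontrivial Ω := Fintype.one_lt_card_iff_nontrivial.1 (by omega)
  have hA : IsSimpleGroup (alternatingGroup Ω) :=
    alternatingGroup.isSimpleGroup (by rw [Nat.card_eq_fintype_card]; omega)
  have hcore : H.normalCore = ⊥ := by
    rcases hA.eq_bot_or_eq_top_of_normal (H.normalCore.subgroupOf (alternatingGroup Ω)) inferInstance
      with h | h
    · -- meets the alternating group trivially, hence has order at most 2 and is central
      have h1 : Nat.card H.normalCore ∣ 2 := by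
        have e := Subgroup.relIndex_dvd_of_le_left H.normalCore (bot_le : ⊥ ≤ H.normalCore)
        have e2 : (alternatingGroup Ω).relIndex H.normalCore ∣ 2 := by
          have := Subgroup.relIndex_dvd_index_of_normal (H := alternatingGroup Ω) (K := H.normalCore)
          rwa [alternatingGroup.index_eq_two] at this
        have e3 : (alternatingGroup Ω).subgroupOf H.normalCore = ⊥ := by
          rw [eq_bot_iff]
          intro g hg
          have : (⟨g, hg⟩ : alternatingGroup Ω) ∈ H.normalCore.subgroupOf (alternatingGroup Ω) := g.2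
          rw [h, Subgroup.mem_bot] at this
          rw [Subgroup.mem_bot]
          exact Subtype.ext (congrArg (fun z : alternatingGroup Ω => (z : Perm Ω)) this :)
        rw [Subgroup.relIndex, e3, Subgroup.index_bot] at e2
        exact e2
      by_contra hne
      obtain ⟨⟨z, hz⟩, hz1⟩ : ∃ z : H.normalCore, z ≠ 1 := by
        by_contra hh
        push Not at hh
        exact hne ((Subgroup.eq_bot_iff_forall _).2 fun g hg => congrArg Subtype.val (hh ⟨g, hg⟩))
      have hz1' : z ≠ 1 := fun e => hz1 (Subtype.ext e)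
      obtain ⟨y, hy⟩ : ∃ y, z y ≠ y := by
        by_contra hh
        push Not at hh
        exact hz1' (Equiv.ext hh)
      obtain ⟨w, hwy, hwz⟩ : ∃ w, w ≠ y ∧ w ≠ z y := by
        by_contra hh
        push Not at hh
        have : (Finset.univ : Finset Ω) ⊆ {y, z y} := fun w _ => by
          rw [Finset.mem_insert, Finset.mem_singleton]
          by_cases e : w = y
          · exact Or.inl e
          · exact Or.inr (hh w e)
        have := (Finset.card_le_card this).trans Finset.card_le_two
        rw [Finset.card_univ] at this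
        omega
      -- conjugating by a transposition gives a third element
      have hz' : swap (z y) w * z * (swap (z y) w)⁻¹ ∈ H.normalCore :=
        (H.normalCore_normal).conj_mem _ hz _
      have hne' : swap (z y) w * z * (swap (z y) w)⁻¹ ≠ z := fun e => by
        have := DFunLike.congr_fun e y
        simp [swap_apply_of_ne_of_ne (Ne.symm hy) hwy.symm] at this
        exact hwz this
      have hne1 : swap (z y) w * z * (swap (z y) w)⁻¹ ≠ 1 := fun e => hz1' (by
        rwa [conj_eq_one_iff] at e)
      have : 2 < Nat.card H.normalCore := by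
        have hsub : ({⟨1, H.normalCore.one_mem⟩, ⟨z, hz⟩, ⟨_, hz'⟩} : Finset H.normalCore).card = 3 := by
          rw [Finset.card_eq_three]
          refine ⟨_, _, _, ?_, ?_, ?_, rfl⟩
          · exact fun e => hz1' (congrArg Subtype.val e).symm
          · exact fun e => hne1 (congrArg Subtype.val e).symm
          · exact fun e => hne' (congrArg Subtype.val e).symm
        rw [Nat.card_eq_fintype_card]
        have := Finset.card_le_univ ({⟨1, H.normalCore.one_mem⟩, ⟨z, hz⟩, ⟨_, hz'⟩} : Finset H.normalCore)
        omega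
      have := Nat.le_of_dvd two_pos h1
      omega
    · exfalso
      rw [Subgroup.subgroupOf_eq_top] at h
      have := Subgroup.index_dvd_of_le (h.trans H.normalCore_le)
      rw [hH, alternatingGroup.index_eq_two] at this
      norm_num at this
  let φ := toPermHom (Perm Ω) (Perm Ω ⧸ H)
  have hinj : Function.Injective φ := by
    rw [← MonoidHom.ker_eq_bot_iff, ← Subgroup.normalCore_eq_ker, hcore]
  have hq : Nat.card (Perm Ω ⧸ H) = 6 := hH
  obtain ⟨e₀⟩ : Nonempty ((Perm Ω ⧸ H) ≃ Ω) :=
    Finite.card_eq.1 (by rw [hq, Nat.card_eq_fintype_card, h6])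
  let e := e₀.trans (swap (e₀ (QuotientGroup.mk (1 : Perm Ω))) x₀)
  have he : e (QuotientGroup.mk (1 : Perm Ω)) = x₀ := by simp [e]
  have hbij : Function.Bijective φ :=
    (Nat.bijective_iff_injective_and_card φ).2 ⟨hinj, by rw [hc, Nat.card_perm, hq]; rfl⟩
  refine ⟨(MulEquiv.ofBijective φ hbij).trans e.permCongrHom, fun h => ?_⟩
  show h ∈ H ↔ e (φ h (e.symm x₀)) = x₀
  conv_rhs => rw [← he, Equiv.symm_apply_apply, e.apply_eq_iff_eq]
  show h ∈ H ↔ (QuotientGroup.mk (h * 1) : Perm Ω ⧸ H) = QuotientGroup.mk 1
  rw [QuotientGroup.eq, mul_one, mul_one, H.inv_mem_iff]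

theorem card_of_index_six (h6 : Fintype.card Ω = 6) (H : Subgroup (Perm Ω)) (hH : H.index = 6) :
    Nat.card H = 120 := by
  have := H.card_mul_index
  rw [hH, Nat.card_perm, Nat.card_eq_fintype_card (α := Ω), h6] at this
  norm_num [Nat.factorial] at this
  omega

/-- In a transitive subgroup of index 6, subgroups of order 20 are conjugate. -/
theorem conj_of_card_twenty (h6 : Fintype.card Ω = 6) (H : Subgroup (Perm Ω))
    [IsPretransitive H Ω] (hH : H.index = 6) (K K' : Subgroup H)
    (hK : Nat.card K = 20) (hK' : Nat.card K' = 20) :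
    ∃ h : H, ∀ k, k ∈ K ↔ h * k * h⁻¹ ∈ K' := by
  classical
  have : Fact (Nat.Prime 5) := ⟨by norm_num⟩
  have hc : Nat.card H = 120 := card_of_index_six h6 H hH
  have hnn : ∀ P : Sylow 5 H, ¬ (P : Subgroup H).Normal := by
    intro P hP
    have hPc : Nat.card (P : Subgroup H) = 5 := by
      rw [P.card_eq_multiplicity, hc]
      have : (120 : ℕ).factorization 5 = 1 := by
        apply le_antisymm
        · by_contra hlt
          push Not at hlt
          have := (Nat.Prime.pow_dvd_iff_le_factorization (by norm_num : Nat.Prime 5) (by norm_num : 120 ≠ 0)).2 hlt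
          norm_num at this
        · exact ((Nat.Prime.pow_dvd_iff_le_factorization (by norm_num : Nat.Prime 5) (by norm_num : 120 ≠ 0)).1 (by norm_num))
      rw [this, pow_one]
    have hmod := (P.isPGroup' : IsPGroup 5 (P : Subgroup H)).card_modEq_card_fixedPoints Ω
    rw [Nat.card_eq_fintype_card, h6] at hmod
    have : Nonempty (fixedPoints (P : Subgroup H) Ω) := by
      by_contra hne
      rw [not_nonempty_iff] at hne
      rw [Nat.card_of_isEmpty] at hmod
      simp [Nat.ModEq] at hmod
    obtain ⟨⟨y, hy⟩⟩ := this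
    have hall : ∀ p : (P : Subgroup H), ∀ z : Ω, (p : H) • z = z := by
      intro p z
      obtain ⟨h, rfl⟩ := exists_smul_eq H y z
      have hm : h⁻¹ * p * h ∈ (P : Subgroup H) := by
        have := hP.conj_mem _ p.2 h⁻¹
        rwa [inv_inv] at this
      have := hy ⟨_, hm⟩
      have e : (h⁻¹ * (p : H) * h) • y = y := this
      rw [mul_smul, mul_smul, inv_smul_eq_iff] at e
      exact e
    have : Subsingleton (P : Subgroup H) := ⟨fun p q => by
      apply Subtype.ext
      apply Subtype.ext
      exact Equiv.ext fun z => (hall p z).trans (hall q z).symm⟩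
    rw [Nat.card_of_subsingleton (1 : (P : Subgroup H))] at hPc
    omega
  have key : ∀ K : Subgroup H, Nat.card K = 20 →
      ∃ P : Sylow 5 H, Subgroup.normalizer (P : Set H) = K := by
    intro K hK
    obtain ⟨Q⟩ : Nonempty (Sylow 5 K) := inferInstance
    have hn : Nat.card (Sylow 5 K) = 1 := by
      have h1 := card_sylow_modEq_one 5 K
      have h2 : Nat.card (Sylow 5 K) ∣ 4 := by
        have h3 : Nat.Coprime (Nat.card (Sylow 5 K)) 5 :=
          ((by norm_num : Nat.Prime 5).coprime_iff_not_dvd.2 (not_dvd_card_sylow 5 K)).symm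
        refine h3.dvd_of_dvd_mul_left (show _ ∣ 5 * 4 from ?_)
        have := Q.card_dvd_index.trans (Subgroup.index_dvd_card _)
        rw [hK] at this
        exact this
      have h4 := Nat.le_of_dvd (by norm_num) h2
      unfold Nat.ModEq at h1
      omega
    have hQn : (Q : Subgroup K).Normal := by
      have : Subsingleton (Sylow 5 K) := (Nat.card_eq_one_iff_unique.1 hn).1
      exact Q.normal_of_subsingleton
    have hQc : Nat.card ((Q : Subgroup K).map K.subtype) = 5 := by
      rw [Nat.card_congr ((Q : Subgroup K).equivMapOfInjective _ K.subtype_injective).toEquiv.symm,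
        Q.card_eq_multiplicity, hK]
      have : (20 : ℕ).factorization 5 = 1 := by
        apply le_antisymm
        · by_contra hlt
          push Not at hlt
          have := (Nat.Prime.pow_dvd_iff_le_factorization (by norm_num : Nat.Prime 5) (by norm_num : 20 ≠ 0)).2 hlt
          norm_num at this
        · exact ((Nat.Prime.pow_dvd_iff_le_factorization (by norm_num : Nat.Prime 5) (by norm_num : 20 ≠ 0)).1 (by norm_num))
      rw [this, pow_one]
    obtain ⟨P, hP⟩ := (IsPGroup.of_card (n := 1) (by rw [hQc, pow_one] :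
      Nat.card ((Q : Subgroup K).map K.subtype) = 5 ^ 1)).exists_le_sylow
    have hPc : Nat.card (P : Subgroup H) = 5 := by
      rw [P.card_eq_multiplicity, hc]
      have : (120 : ℕ).factorization 5 = 1 := by
        apply le_antisymm
        · by_contra hlt
          push Not at hlt
          have := (Nat.Prime.pow_dvd_iff_le_factorization (by norm_num : Nat.Prime 5) (by norm_num : 120 ≠ 0)).2 hlt
          norm_num at this
        · exact ((Nat.Prime.pow_dvd_iff_le_factorization (by norm_num : Nat.Prime 5) (by norm_num : 120 ≠ 0)).1 (by norm_num))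
      rw [this, pow_one]
    have hPQ := Subgroup.eq_of_le_of_card_ge hP (by rw [hPc, hQc])
    refine ⟨P, ?_⟩
    have hle : K ≤ Subgroup.normalizer (P : Set H) := by
      show K ≤ Subgroup.normalizer ((P : Subgroup H) : Set H)
      have hh := Subgroup.le_normalizer_map (H := (Q : Subgroup K)) K.subtype
      rw [Subgroup.normalizer_eq_top (H := (Q : Subgroup K)), ← MonoidHom.range_eq_map,
        Subgroup.range_subtype] at hh
      rwa [hPQ] at hh
    symm
    apply Subgroup.eq_of_le_of_card_ge hle
    have h1 := card_sylow_modEq_one 5 H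
    have h2 := P.card_eq_index_normalizer
    have h3 := (Subgroup.normalizer (P : Set H)).card_mul_index
    rw [← h2, hc] at h3
    have h4 := Subgroup.card_dvd_of_le hle
    rw [hK] at h4 ⊢
    have h5 : Nat.card (Sylow 5 H) ≠ 1 := fun e => by
      have : Subsingleton (Sylow 5 H) := (Nat.card_eq_one_iff_unique.1 e).1
      exact hnn P P.normal_of_subsingleton
    obtain ⟨c, hc'⟩ := h4
    rw [hc'] at h3 ⊢
    have hc6 : c * Nat.card (Sylow 5 H) = 6 := by nlinarith
    unfold Nat.ModEq at h1
    have : Nat.card (Sylow 5 H) ∣ 6 := ⟨c, by rw [mul_comm]; exact hc6.symm⟩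
    have := Nat.le_of_dvd (by norm_num) this
    have h56 : Nat.card (Sylow 5 H) = 6 := by omega
    rw [h56] at hc6
    omega
  obtain ⟨P, hP⟩ := key K hK
  obtain ⟨P', hP'⟩ := key K' hK'
  obtain ⟨h, hh⟩ := exists_smul_eq H P P'
  refine ⟨h, fun k => ?_⟩
  rw [← hP, ← hP', ← hh]
  rw [← Sylow.smul_eq_iff_mem_normalizer, ← Sylow.smul_eq_iff_mem_normalizer, mul_smul, mul_smul,
    inv_smul_smul, smul_left_cancel_iff]

/-- Two transitive subgroups of index 6 are conjugate. -/
theorem conj_of_transitive_index_six (h6 : Fintype.card Ω = 6) (H H' : Subgroup (Perm Ω))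
    [IsPretransitive H Ω] [IsPretransitive H' Ω] (hH : H.index = 6) (hH' : H'.index = 6) :
    ∃ g : Perm Ω, Subgroup.map (MulAut.conj g).toMonoidHom H = H' := by
  classical
  obtain ⟨x₀⟩ : Nonempty Ω := Fintype.card_pos_iff.1 (by omega)
  obtain ⟨Φ, hΦ⟩ := exists_aut_map_stabilizer h6 H hH x₀
  obtain ⟨Φ', hΦ'⟩ := exists_aut_map_stabilizer h6 H' hH' x₀
  set A := Φ.trans Φ'.symm with hA
  have hmem : ∀ h, h ∈ H ↔ A h ∈ H' := fun h => by
    rw [hΦ, hΦ', hA, MulEquiv.trans_apply, MulEquiv.apply_symm_apply]
  let B : H ≃* H' :=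
    { toFun := fun h => ⟨A h, (hmem h).1 h.2⟩
      invFun := fun h => ⟨A.symm h, (hmem _).2 (by rw [A.apply_symm_apply]; exact h.2)⟩
      left_inv := fun h => Subtype.ext (A.symm_apply_apply _)
      right_inv := fun h => Subtype.ext (A.apply_symm_apply _)
      map_mul' := fun h k => Subtype.ext (map_mul A _ _) }
  have h20 : ∀ (H : Subgroup (Perm Ω)) [IsPretransitive H Ω], H.index = 6 →
      Nat.card (stabilizer H x₀) = 20 := by
    intro H _ hH
    have := (stabilizer H x₀).card_mul_index
    rw [index_stabilizer_of_transitive, Nat.card_eq_fintype_card (α := Ω), h6,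
      card_of_index_six h6 H hH] at this
    omega
  obtain ⟨c, hc⟩ := conj_of_card_twenty h6 H' hH' ((stabilizer H x₀).map B.toMonoidHom)
    (stabilizer H' x₀)
    (by rw [← Nat.card_congr ((stabilizer H x₀).equivMapOfInjective _ B.injective).toEquiv]
        exact h20 H hH)
    (h20 H' hH')
  set C := B.trans (MulAut.conj c) with hC
  have hCmem : ∀ h : H, h • x₀ = x₀ ↔ C h • x₀ = x₀ := by
    intro h
    have h1 := hc (B h)
    rw [Subgroup.mem_map] at h1
    constructor
    · intro hh
      exact h1.1 ⟨h, hh, rfl⟩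
    · intro hh
      obtain ⟨k, hk, e⟩ := h1.2 hh
      exact B.injective e ▸ hk
  have wd : ∀ h k : H, h • x₀ = k • x₀ ↔ C h • x₀ = C k • x₀ := by
    intro h k
    rw [← inv_smul_eq_iff, ← mul_smul, hCmem, map_mul, map_inv, mul_smul, inv_smul_eq_iff]
  choose r hr using fun z : Ω => exists_smul_eq H x₀ z
  let σ : Ω → Ω := fun z => C (r z) • x₀
  have hσ : ∀ h : H, σ (h • x₀) = C h • x₀ := fun h => ((wd _ _).1 (hr _))
  have hinj : Function.Injective σ := fun z w e => by
    rw [← hr z, ← hr w]
    exact (wd _ _).2 e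
  let g : Perm Ω := Equiv.ofBijective σ (Finite.injective_iff_bijective.1 hinj)
  refine ⟨g, ?_⟩
  have hconj : ∀ h : H, g * (h : Perm Ω) = (C h : Perm Ω) * g := by
    intro h
    apply Equiv.ext
    intro z
    obtain ⟨k, rfl⟩ := exists_smul_eq H x₀ z
    show σ ((h : Perm Ω) (k • x₀)) = (C h : Perm Ω) (σ (k • x₀))
    rw [hσ k, show (h : Perm Ω) (k • x₀) = (h * k) • x₀ from rfl, hσ, map_mul, mul_smul]
    rfl
  apply le_antisymm
  · rintro _ ⟨h, hh, rfl⟩
    show g * h * g⁻¹ ∈ H'
    rw [hconj ⟨h, hh⟩, mul_inv_cancel_right]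
    exact (C ⟨h, hh⟩).2
  · intro k hk
    refine ⟨(C.symm ⟨k, hk⟩ : H), (C.symm ⟨k, hk⟩).2, ?_⟩
    show g * _ * g⁻¹ = k
    rw [hconj, C.apply_symm_apply, mul_inv_cancel_right]

/-- A transitive subgroup of index 6 exists. -/
theorem exists_transitive_index_six (h6 : Fintype.card Ω = 6) :
    ∃ H : Subgroup (Perm Ω), IsPretransitive H Ω ∧ H.index = 6 := by
  classical
  have : Fact (Nat.Prime 5) := ⟨by norm_num⟩
  let S := Perm (Fin 5)
  have hS : Nat.card S = 120 := by
    rw [Nat.card_perm, Nat.card_fin]; rfl
  have hsimp : IsSimpleGroup (alternatingGroup (Fin 5)) := alternatingGroup.isSimpleGroup_five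
  obtain ⟨P⟩ : Nonempty (Sylow 5 S) := inferInstance
  have hPc : Nat.card (P : Subgroup S) = 5 := by
    rw [P.card_eq_multiplicity, hS]
    have : (120 : ℕ).factorization 5 = 1 := by
      apply le_antisymm
      · by_contra hlt
        push Not at hlt
        have := (Nat.Prime.pow_dvd_iff_le_factorization (by norm_num : Nat.Prime 5) (by norm_num : 120 ≠ 0)).2 hlt
        norm_num at this
      · exact ((Nat.Prime.pow_dvd_iff_le_factorization (by norm_num : Nat.Prime 5) (by norm_num : 120 ≠ 0)).1 (by norm_num))
    rw [this, pow_one]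
  have hn : Nat.card (Sylow 5 S) = 6 := by
    have h1 := card_sylow_modEq_one 5 S
    have hi : (P : Subgroup S).index = 24 := by
      have := (P : Subgroup S).card_mul_index
      rw [hPc, hS] at this
      omega
    have h2 := hi ▸ P.card_dvd_index
    have h3 : Nat.card (Sylow 5 S) ≠ 1 := fun e => by
      have : Subsingleton (Sylow 5 S) := (Nat.card_eq_one_iff_unique.1 e).1
      have := P.normal_of_subsingleton
      have hle : (P : Subgroup S) ≤ alternatingGroup (Fin 5) := by
        intro p hp
        have h5 : orderOf (⟨p, hp⟩ : (P : Subgroup S)) ∣ 5 :=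
          (orderOf_dvd_natCard (G := (P : Subgroup S)) ⟨p, hp⟩).trans (dvd_of_eq hPc)
        have hp5 : p ^ 5 = 1 := congrArg Subtype.val (orderOf_dvd_iff_pow_eq_one.1 h5)
        rw [mem_alternatingGroup]
        have := congrArg sign hp5
        rw [map_pow, map_one] at this
        rcases Int.units_eq_one_or (sign p) with e | e
        · exact e
        · rw [e] at this; exact absurd this (by decide)
      rcases hsimp.eq_bot_or_eq_top_of_normal ((P : Subgroup S).subgroupOf _) inferInstance with e | e
      · have := Nat.card_congr (Subgroup.subgroupOfEquivOfLe hle).toEquiv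
        rw [e, Subgroup.card_bot, hPc] at this
        omega
      · rw [Subgroup.subgroupOf_eq_top] at e
        have := Subgroup.card_dvd_of_le e
        rw [hPc, nat_card_alternatingGroup, Nat.card_fin] at this
        norm_num [Nat.factorial] at this
    have h4 := Nat.le_of_dvd (by norm_num) h2
    unfold Nat.ModEq at h1
    interval_cases (Nat.card (Sylow 5 S)) <;> omega
  obtain ⟨e⟩ : Nonempty (Sylow 5 S ≃ Ω) := Finite.card_eq.1 (by rw [hn, Nat.card_eq_fintype_card, h6])
  let φ : S →* Perm Ω := e.permCongrHom.toMonoidHom.comp (toPermHom S (Sylow 5 S))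
  have htr : ∀ x y : Ω, ∃ s : S, φ s x = y := fun x y => by
    obtain ⟨s, hs⟩ := exists_smul_eq S (e.symm x) (e.symm y)
    refine ⟨s, ?_⟩
    show e (s • e.symm x) = y
    rw [hs, e.apply_symm_apply]
  have hinj : Function.Injective φ := by
    rw [← MonoidHom.ker_eq_bot_iff]
    rcases hsimp.eq_bot_or_eq_top_of_normal (φ.ker.subgroupOf _) inferInstance with h | h
    · -- the kernel commutes with the alternating group
      rw [Subgroup.eq_bot_iff_forall]
      intro k hk
      by_contra hk1
      obtain ⟨y, hy⟩ : ∃ y, k y ≠ y := by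
        by_contra hh; push Not at hh; exact hk1 (Equiv.ext hh)
      obtain ⟨u, v, huy, hvy, huk, hvk, huv⟩ : ∃ u v, u ≠ y ∧ v ≠ y ∧ u ≠ k y ∧ v ≠ k y ∧ u ≠ v := by
        have : 1 < (({y, k y} : Finset (Fin 5))ᶜ).card := by
          rw [Finset.card_compl, Finset.card_pair (Ne.symm hy), Fintype.card_fin]; omega
        obtain ⟨u, hu, v, hv, huv⟩ := Finset.one_lt_card.1 this
        simp only [Finset.mem_compl, Finset.mem_insert, Finset.mem_singleton, not_or] at hu hv
        exact ⟨u, v, hu.1, hv.1, hu.2, hv.2, huv⟩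
      set c := swap (k y) u * swap (k y) v with hc
      have hc3 : c ∈ alternatingGroup (Fin 5) :=
        (isThreeCycle_swap_mul_swap_same huk.symm hvk.symm huv).mem_alternatingGroup
      have hm1 : c * k * c⁻¹ * k⁻¹ ∈ φ.ker :=
        φ.ker.mul_mem ((φ.normal_ker).conj_mem _ hk _) (φ.ker.inv_mem hk)
      have hm2 : c * k * c⁻¹ * k⁻¹ ∈ alternatingGroup (Fin 5) := by
        have := (alternatingGroup (Fin 5)).mul_mem hc3
          ((inferInstance : (alternatingGroup (Fin 5)).Normal).conj_mem _
            ((alternatingGroup (Fin 5)).inv_mem hc3) k)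
        simpa [mul_assoc] using this
      have hm : (⟨_, hm2⟩ : alternatingGroup (Fin 5)) ∈ φ.ker.subgroupOf _ := hm1
      rw [h, Subgroup.mem_bot] at hm
      have hcomm : c * k = k * c := by
        have := congrArg Subtype.val hm
        exact mul_inv_eq_iff_eq_mul.1 (mul_inv_eq_one.1 this)
      have := DFunLike.congr_fun hcomm y
      have hcy : c y = y := by
        rw [hc, Perm.mul_apply, swap_apply_of_ne_of_ne hy.symm hvy.symm,
          swap_apply_of_ne_of_ne hy.symm huy.symm]
      have hck : c (k y) = v := by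
        rw [hc, Perm.mul_apply, swap_apply_left, swap_apply_of_ne_of_ne hvk huv.symm]
      rw [Perm.mul_apply, hck, Perm.mul_apply, hcy] at this
      exact hvk this
    · exfalso
      rw [Subgroup.subgroupOf_eq_top] at h
      have hle : φ.ker ≤ Subgroup.normalizer (P : Set S) := by
        intro k hk
        rw [← Sylow.smul_eq_iff_mem_normalizer]
        have := DFunLike.congr_fun (MonoidHom.mem_ker.1 hk) (e P)
        have e' : e (k • e.symm (e P)) = e P := this
        rw [e.symm_apply_apply] at e'
        exact e.injective e'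
      have h1 := Subgroup.index_dvd_of_le (h.trans hle)
      rw [← P.card_eq_index_normalizer, hn, alternatingGroup.index_eq_two] at h1
      norm_num at h1
  refine ⟨φ.range, ⟨fun x y => ?_⟩, ?_⟩
  · obtain ⟨s, hs⟩ := htr x y
    exact ⟨⟨φ s, s, rfl⟩, hs⟩
  · have h1 := φ.range.card_mul_index
    rw [← Nat.card_congr (MonoidHom.ofInjective hinj).toEquiv, hS, Nat.card_perm,
      Nat.card_eq_fintype_card, h6] at h1
    norm_num [Nat.factorial] at h1
    omega

end H46
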