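import Cfsg.Agent.H46.Perm

/-! The stabilizer of a partition into equal blocks (imprimitive wreath product). -/

set_option autoImplicit false

namespace H46

open Equiv Equiv.Perm MulAction
open scoped Pointwise

variable {Ω ι : Type*}

/-- Permutations preserving the partition into fibres of `f`. -/
def partStab (f : Ω → ι) : Subgroup (Perm Ω) where
  carrier := {g | ∀ x y, f x = f y ↔ f (g x) = f (g y)}
  one_mem' := fun _ _ => Iff.rfl
  mul_mem' := fun {g h} hg hh x y => (hh x y).trans (hg (h x) (h y))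
  inv_mem' := fun {g} hg x y => by
    have := hg (g⁻¹ x) (g⁻¹ y)
    simpa [Perm.inv_def] using this.symm

theorem mem_partStab {f : Ω → ι} {g : Perm Ω} :
    g ∈ partStab f ↔ ∀ x y, f x = f y ↔ f (g x) = f (g y) := Iff.rfl

theorem closure_eq_partStab (f : Ω → ι) :
    Subgroup.closure {g : Perm Ω | ∀ x y : Ω, f x = f y ↔ f (g x) = f (g y)} = partStab f :=
  Subgroup.closure_eq (partStab f)

theorem mem_partStab_of_fibre_fixed {f : Ω → ι} {g : Perm Ω} (h : ∀ x, f (g x) = f x) :
    g ∈ partStab f := fun x y => by rw [h, h]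

theorem swap_mem_partStab [DecidableEq Ω] {f : Ω → ι} {u v : Ω} (h : f u = f v) :
    swap u v ∈ partStab f := mem_partStab_of_fibre_fixed fun x => by
  rcases eq_or_ne x u with rfl | hu
  · rw [swap_apply_left, h]
  rcases eq_or_ne x v with rfl | hv
  · rw [swap_apply_right, h]
  rw [swap_apply_of_ne_of_ne hu hv]

variable {a b : ℕ} (f : Ω → Fin b) (hf : ∀ i : Fin b, Nat.card {x : Ω // f x = i} = a)

section
variable [Fintype Ω]

/-- Coordinates adapted to `f`. -/
noncomputable def coord : Ω ≃ Fin b × Fin a :=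
  (Equiv.sigmaFiberEquiv f).symm.trans
    ((Equiv.sigmaCongrRight fun i => (Finite.equivFinOfCardEq (hf i))).trans
      (Equiv.sigmaEquivProd (Fin b) (Fin a)))

theorem coord_fst (x : Ω) : (coord f hf x).1 = f x := rfl

theorem apply_coord_symm (p : Fin b × Fin a) : f ((coord f hf).symm p) = p.1 := by
  rw [← coord_fst f hf, Equiv.apply_symm_apply]

/-- Lift of a permutation of the blocks. -/
noncomputable def blockLift : Perm (Fin b) →* Perm Ω where
  toFun σ := (coord f hf).symm.permCongr (Equiv.prodCongr σ (Equiv.refl _))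
  map_one' := by ext x; simp
  map_mul' σ τ := by ext x; simp [Prod.map]

theorem apply_blockLift (σ : Perm (Fin b)) (x : Ω) : f (blockLift f hf σ x) = σ (f x) := by
  simp [blockLift, apply_coord_symm, coord_fst]

theorem blockLift_fixed (σ : Perm (Fin b)) (x : Ω) (h : σ (f x) = f x) :
    blockLift f hf σ x = x := by
  simp [blockLift]
  rw [Equiv.symm_apply_eq]
  exact Prod.ext (by simpa [coord_fst] using h) rfl

theorem blockLift_mem (σ : Perm (Fin b)) : blockLift f hf σ ∈ partStab f := fun x y => by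
  rw [apply_blockLift f hf, apply_blockLift f hf]; exact σ.injective.eq_iff.symm

include hf in
theorem card_eq_mul : Fintype.card Ω = b * a := by
  rw [Fintype.card_congr (coord f hf)]; simp

include hf in
theorem exists_pair_in_fibre (i : Fin b) (ha : 2 ≤ a) : ∃ u v, u ≠ v ∧ f u = i ∧ f v = i := by
  refine ⟨(coord f hf).symm (i, ⟨0, by omega⟩), (coord f hf).symm (i, ⟨1, by omega⟩), ?_,
    apply_coord_symm f hf _, apply_coord_symm f hf _⟩
  intro h
  simpa using congrArg (fun z => ((coord f hf z).2 : ℕ)) h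

include hf in
theorem ncard_fibre (i : Fin b) : {x | f x = i}.ncard = a := by
  rw [← Nat.card_coe_set_eq]; exact hf i

include hf in
/-- Two points in one fibre avoiding two given points. -/
theorem exists_pair_avoiding (ha : 2 ≤ a) (hb : 2 ≤ b) (x y : Ω)
    (hxy : 3 ≤ a ∨ 3 ≤ b ∨ f x = f y) :
    ∃ u v, u ≠ v ∧ f u = f v ∧ u ≠ x ∧ u ≠ y ∧ v ≠ x ∧ v ≠ y := by
  classical
  by_cases hk : ∃ k : Fin b, k ≠ f x ∧ k ≠ f y
  · obtain ⟨k, hkx, hky⟩ := hk
    obtain ⟨u, v, huv, hu, hv⟩ := exists_pair_in_fibre f hf k ha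
    refine ⟨u, v, huv, hu.trans hv.symm, ?_, ?_, ?_, ?_⟩ <;> rintro rfl <;> simp_all
  · push Not at hk
    have hb' : b ≤ ({f x, f y} : Finset (Fin b)).card := by
      have hs : (Finset.univ : Finset (Fin b)) ⊆ {f x, f y} := fun k _ => by
        rw [Finset.mem_insert, Finset.mem_singleton]
        by_cases h : k = f x
        · exact Or.inl h
        · exact Or.inr (hk k h)
      simpa using Finset.card_le_card hs
    have hne : f x ≠ f y := fun h => by rw [h] at hb'; simp at hb'; omega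
    have hb2 : b ≤ 2 := hb'.trans Finset.card_le_two
    have h3 : 3 ≤ a := by
      rcases hxy with h | h | h
      · exact h
      · omega
      · exact absurd h hne
    have h := ncard_fibre f hf (f x)
    have h2 : 1 < ({z | f z = f x} \ {x}).ncard := by
      have := Set.ncard_le_ncard_sdiff_add_ncard {z | f z = f x} {x} (Set.toFinite _)
      simp only [Set.ncard_singleton] at this
      omega
    obtain ⟨u, hu, v, hv, huv⟩ := (Set.one_lt_ncard (Set.toFinite _)).1 h2
    simp only [Set.mem_sdiff, Set.mem_singleton_iff, Set.mem_setOf_eq] at hu hv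
    refine ⟨u, v, huv, hu.1.trans hv.1.symm, hu.2, ?_, hv.2, ?_⟩ <;> rintro rfl <;> simp_all

/-- The even part of the stabilizer of the partition. -/
def evenPartStab [DecidableEq Ω] : Subgroup (Perm Ω) := partStab f ⊓ alternatingGroup Ω

variable [DecidableEq Ω]

include hf in
theorem exists_map (x y y' : Ω) (h1 : y ≠ x) (h2 : y' ≠ x) (h3 : f y = f x ↔ f y' = f x) :
    ∃ g ∈ partStab f, g x = x ∧ g y = y' := by
  set L := blockLift f hf (swap (f y) (f y')) with hL
  have hz : f (L y) = f y' := by rw [hL, apply_blockLift f hf, swap_apply_left]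
  have hx : L x = x := by
    apply blockLift_fixed
    by_cases h : f y = f x
    · rw [h, h3.1 h, swap_self, Equiv.refl_apply]
    · exact swap_apply_of_ne_of_ne (Ne.symm h) (fun e => h (h3.2 e.symm))
  refine ⟨swap (L y) y' * L, Subgroup.mul_mem _ (swap_mem_partStab hz) (blockLift_mem f hf _), ?_, ?_⟩
  · rw [Perm.mul_apply, hx, swap_apply_of_ne_of_ne _ h2.symm]
    intro e
    exact h1 (L.injective (e.symm.trans hx.symm))
  · rw [Perm.mul_apply, swap_apply_left]

include hf in
theorem exists_evenPartStab_agree (ha : 2 ≤ a) (hb : 2 ≤ b) (x y : Ω)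
    (hxy : 3 ≤ a ∨ 3 ≤ b ∨ f x = f y) (g : Perm Ω) (hg : g ∈ partStab f) :
    ∃ g' ∈ evenPartStab f, g' x = g x ∧ g' y = g y := by
  rcases Int.units_eq_one_or (sign g) with h | h
  · exact ⟨g, ⟨hg, mem_alternatingGroup.2 h⟩, rfl, rfl⟩
  · obtain ⟨u, v, huv, hfuv, hux, huy, hvx, hvy⟩ := exists_pair_avoiding f hf ha hb x y hxy
    refine ⟨g * swap u v, ⟨Subgroup.mul_mem _ hg (swap_mem_partStab hfuv),
      mem_alternatingGroup.2 (by rw [Perm.sign_mul, h, sign_swap huv]; rfl)⟩, ?_, ?_⟩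
    · rw [Perm.mul_apply, swap_apply_of_ne_of_ne hux.symm hvx.symm]
    · rw [Perm.mul_apply, swap_apply_of_ne_of_ne huy.symm hvy.symm]

include hf in
theorem isPreprimitive_of_agree (hb : 2 ≤ b)
    (M : Subgroup (Perm Ω))
    (hag : ∀ x y, ∀ g ∈ partStab f, ∃ g' ∈ M, g' x = g x ∧ g' y = g y)
    (hM : ¬ M ≤ partStab f) :
    IsPreprimitive M Ω := by
  have : IsPretransitive M Ω := ⟨fun y y' => by
    have hz : f (blockLift f hf (swap (f y) (f y')) y) = f y' := by
      rw [apply_blockLift f hf, swap_apply_left]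
    obtain ⟨g, hg, hgy, -⟩ := hag y y (swap _ y' * blockLift f hf (swap (f y) (f y')))
      (Subgroup.mul_mem _ (swap_mem_partStab hz) (blockLift_mem f hf _))
    exact ⟨⟨g, hg⟩, hgy.trans (by rw [Perm.mul_apply, swap_apply_left])⟩⟩
  refine IsPreprimitive.mk ?_
  intro B hB
  by_contra hnt
  unfold IsTrivialBlock at hnt
  push Not at hnt
  apply hM
  -- every non-trivial block is a fibre
  have key : ∀ C : Set Ω, IsBlock M C → C.Nontrivial → C ≠ Set.univ →
      ∀ x ∈ C, C = {z | f z = f x} := by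
    intro C hC hC1 hC2 x hx
    have move : ∀ y ∈ C, y ≠ x → ∀ y', y' ≠ x → (f y = f x ↔ f y' = f x) → y' ∈ C := by
      intro y hy hyx y' hy'x hiff
      obtain ⟨g, hg, hgx, hgy⟩ := exists_map f hf x y y' hyx hy'x hiff
      obtain ⟨g', hg', hg'x, hg'y⟩ := hag x y g hg
      rw [hgx] at hg'x
      rw [hgy] at hg'y
      rcases isBlock_iff_smul_eq_or_disjoint.1 hC ⟨g', hg'⟩ with h | h
      · exact h.subset ⟨y, hy, hg'y⟩
      · exact absurd hx (Set.disjoint_left.1 h ⟨x, hx, hg'x⟩)
    by_cases hout : ∃ y ∈ C, f y ≠ f x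
    · exfalso
      obtain ⟨y, hy, hyx⟩ := hout
      have hsub : insert x {z | f z ≠ f x} ⊆ C := by
        rintro z (rfl | hz)
        · exact hx
        · exact move y hy (fun e => hyx (congrArg f e)) z (fun e => hz (congrArg f e))
            ⟨fun e => absurd e hyx, fun e => absurd e hz⟩
      apply hC2
      apply hC.eq_univ_of_card_lt
      have h1 := Set.ncard_le_ncard hsub (Set.toFinite _)
      rw [Set.ncard_insert_of_notMem (by simp) (Set.toFinite _)] at h1
      have h2 := Set.ncard_add_ncard_compl {z | f z = f x}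
      rw [ncard_fibre f hf, Nat.card_eq_fintype_card, card_eq_mul f hf] at h2
      rw [Nat.card_eq_fintype_card, card_eq_mul f hf]
      have h3 : ({z | f z = f x}ᶜ : Set Ω) = {z | f z ≠ f x} := rfl
      rw [h3] at h2
      have : 2 * a ≤ b * a := Nat.mul_le_mul_right a hb
      omega
    · push Not at hout
      apply Set.Subset.antisymm hout
      obtain ⟨y, hy, hyx⟩ := hC1.exists_ne x
      intro z hz
      by_cases hzx : z = x
      · exact hzx ▸ hx
      · exact move y hy hyx z hzx ⟨fun _ => hz, fun _ => hout y hy⟩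
  have kk : ∀ g ∈ M, ∀ x y, f x = f y → f (g x) = f (g y) := by
    intro g hg x y hxy
    obtain ⟨x₀, hx₀⟩ := hnt.1.nonempty
    obtain ⟨k, hk⟩ := exists_smul_eq M x₀ x
    have hBk := key (k • B) (hB.translate _) (hnt.1.image (MulAction.injective k))
      (fun h => hnt.2 (by rwa [Set.smul_set_eq_univ] at h)) x ⟨x₀, hx₀, hk⟩
    have hy : y ∈ k • B := hBk ▸ hxy.symm
    have hBg := key ((⟨g, hg⟩ * k : M) • B) (hB.translate _)
      (hnt.1.image (MulAction.injective _))
      (fun h => hnt.2 (by rwa [Set.smul_set_eq_univ] at h)) (g x)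
      (by rw [mul_smul]; exact ⟨x, ⟨x₀, hx₀, hk⟩, rfl⟩)
    have : g y ∈ (⟨g, hg⟩ * k : M) • B := by rw [mul_smul]; exact ⟨y, hy, rfl⟩
    rw [hBg] at this
    exact this.symm
  intro g hg x y
  refine ⟨kk g hg x y, fun h => ?_⟩
  have := kk g⁻¹ (M.inv_mem hg) _ _ h
  simpa [Perm.inv_def] using this

include hf in
theorem isPreprimitive_of_gt (ha : 2 ≤ a) (hb : 2 ≤ b) (hab : 3 ≤ a ∨ 3 ≤ b)
    (M : Subgroup (Perm Ω)) (hWM : evenPartStab f ≤ M) (hM : ¬ M ≤ partStab f) :
    IsPreprimitive M Ω :=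
  isPreprimitive_of_agree f hf hb M (fun x y g hg => by
    obtain ⟨g', h1, h2⟩ := exists_evenPartStab_agree f hf ha hb x y
      (hab.elim Or.inl fun h => Or.inr (Or.inl h)) g hg
    exact ⟨g', hWM h1, h2⟩) hM

include hf in
theorem exists_not_mem_partStab (ha : 2 ≤ a) (hb : 2 ≤ b) :
    ∃ g ∈ alternatingGroup Ω, g ∉ partStab f := by
  obtain ⟨u, v, huv, hu, hv⟩ := exists_pair_in_fibre f hf ⟨0, by omega⟩ ha
  obtain ⟨w, -, -, hw, -⟩ := exists_pair_in_fibre f hf ⟨1, by omega⟩ ha
  have hne : f u ≠ f w := by rw [hu, hw]; simp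
  have huw : u ≠ w := fun e => hne (congrArg f e)
  have hvw : v ≠ w := fun e => by
    rw [← e, hv] at hw; simp at hw
  refine ⟨swap u v * swap u w,
    (isThreeCycle_swap_mul_swap_same huv huw hvw).mem_alternatingGroup, fun h => ?_⟩
  have h' := (h u v).1 (hu.trans hv.symm)
  simp only [Perm.mul_apply, swap_apply_left, swap_apply_of_ne_of_ne huv.symm hvw,
    swap_apply_of_ne_of_ne huw.symm hvw.symm, swap_apply_right] at h'
  exact hne h'.symm

include hf in
/-- Action on the blocks. -/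
theorem exists_blockHom (ha : 2 ≤ a) (hb : 2 ≤ b) :
    ∃ ρ : evenPartStab f →* Perm (Fin b),
      Function.Surjective ρ ∧ ∀ g, (ρ g = 1 ↔ ∀ x, f ((g : Perm Ω) x) = f x) := by
  let r : Fin b → Ω := fun i => (coord f hf).symm (i, ⟨0, by omega⟩)
  have hr : ∀ i, f (r i) = i := fun i => apply_coord_symm f hf _
  have val : ∀ g : evenPartStab f, ∀ x, f ((g : Perm Ω) (r (f x))) = f ((g : Perm Ω) x) :=
    fun g x => (g.2.1 _ _).1 (hr _)
  let ρ₀ : evenPartStab f → Fin b → Fin b := fun g i => f ((g : Perm Ω) (r i))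
  have hmul : ∀ g h, ∀ i, ρ₀ (g * h) i = ρ₀ g (ρ₀ h i) := fun g h i => by
    simp only [ρ₀, Subgroup.coe_mul, Perm.mul_apply]
    rw [val]
  have hone : ∀ i, ρ₀ 1 i = i := fun i => by simp [ρ₀, hr]
  let ρ : evenPartStab f →* Perm (Fin b) :=
    { toFun := fun g => ⟨ρ₀ g, ρ₀ g⁻¹, fun i => by rw [← hmul, inv_mul_cancel, hone],
        fun i => by rw [← hmul, mul_inv_cancel, hone]⟩
      map_one' := Equiv.ext hone
      map_mul' := fun g h => Equiv.ext (hmul g h) }
  refine ⟨ρ, fun σ => ?_, fun g => ⟨fun h x => ?_, fun h => ?_⟩⟩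
  · -- lift and repair the parity
    rcases Int.units_eq_one_or (sign (blockLift f hf σ)) with h | h
    · refine ⟨⟨_, blockLift_mem f hf σ, mem_alternatingGroup.2 h⟩, Equiv.ext fun i => ?_⟩
      show f (blockLift f hf σ (r i)) = σ i
      rw [apply_blockLift f hf, hr]
    · obtain ⟨u, v, huv, hu, hv⟩ := exists_pair_in_fibre f hf ⟨0, by omega⟩ ha
      refine ⟨⟨blockLift f hf σ * swap u v,
        Subgroup.mul_mem _ (blockLift_mem f hf σ) (swap_mem_partStab (hu.trans hv.symm)),
        mem_alternatingGroup.2 (by rw [Perm.sign_mul, h, sign_swap huv]; rfl)⟩, Equiv.ext fun i => ?_⟩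
      show f ((blockLift f hf σ * swap u v) (r i)) = σ i
      rw [Perm.mul_apply, apply_blockLift f hf]
      congr 1
      rcases eq_or_ne (r i) u with e | e
      · rw [e, swap_apply_left, hv, ← hu, ← e, hr]
      rcases eq_or_ne (r i) v with e' | e'
      · rw [e', swap_apply_right, hu, ← hv, ← e', hr]
      rw [swap_apply_of_ne_of_ne e e', hr]
  · rw [← val g x]
    exact DFunLike.congr_fun h (f x)
  · exact Equiv.ext fun i => (h (r i)).trans (hr i)

include hf in
theorem double_swap_mem {u v w x : Ω} (huv : u ≠ v) (hwx : w ≠ x) (h1 : f u = f v) (h2 : f w = f x) :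
    swap u v * swap w x ∈ evenPartStab f :=
  ⟨Subgroup.mul_mem _ (swap_mem_partStab h1) (swap_mem_partStab h2),
    mem_alternatingGroup.2 (by rw [Perm.sign_mul, sign_swap huv, sign_swap hwx]; rfl)⟩

include hf in
theorem mate_unique (ha : a = 2) {x y z : Ω} (hy : y ≠ x) (hfy : f y = f x) (hfz : f z = f x) :
    z = x ∨ z = y := by
  by_contra hc
  push Not at hc
  have hsub : ({x, y, z} : Set Ω) ⊆ {w | f w = f x} := by
    rintro w (rfl | rfl | rfl)
    · rfl
    · exact hfy
    · exact hfz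
  have := Set.ncard_le_ncard hsub (Set.toFinite _)
  rw [ncard_fibre f hf, Set.ncard_eq_three.2 ⟨x, y, z, hy.symm, hc.1.symm, hc.2.symm, rfl⟩] at this
  omega

include hf in
theorem two_dvd_card_ker (ha : a = 2) (hb : 2 ≤ b) :
    4 ∣ Nat.card (evenPartStab f) ∧ (b = 3 → 24 ∣ Nat.card (evenPartStab f)) := by
  classical
  obtain ⟨ρ, hρ, hker⟩ := exists_blockHom f hf (by omega) hb
  have hcard : Nat.card (evenPartStab f) = b.factorial * Nat.card ρ.ker := by
    rw [← ρ.ker.card_mul_index, Subgroup.index_ker, MonoidHom.range_eq_top.2 hρ,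
      Subgroup.card_top, Nat.card_perm, Nat.card_fin, mul_comm]
  have hP : IsPGroup 2 ρ.ker := by
    intro g
    refine ⟨1, ?_⟩
    have hfix := (hker g.1).1 g.2
    rw [pow_one, sq]
    refine Subtype.ext (Subtype.ext (Equiv.ext fun x => ?_))
    show (g.1 : Perm Ω) ((g.1 : Perm Ω) x) = x
    by_cases hx : (g.1 : Perm Ω) x = x
    · rw [hx, hx]
    · rcases mate_unique f hf ha hx (hfix x) ((hfix ((g.1 : Perm Ω) x)).trans (hfix x)) with h | h
      · exact h
      · exact absurd ((g.1 : Perm Ω).injective h) hx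
  obtain ⟨j, hj⟩ := hP.exists_card_eq
  obtain ⟨u₀, v₀, h0, hu0, hv0⟩ := exists_pair_in_fibre f hf ⟨0, by omega⟩ (by omega)
  obtain ⟨u₁, v₁, h1, hu1, hv1⟩ := exists_pair_in_fibre f hf ⟨1, by omega⟩ (by omega)
  have mem : ∀ {u v w x : Ω} (huv : u ≠ v) (hwx : w ≠ x) (e1 : f u = f v) (e2 : f w = f x),
      ⟨_, double_swap_mem f hf huv hwx e1 e2⟩ ∈ ρ.ker := fun huv hwx e1 e2 => by
    rw [MonoidHom.mem_ker, hker]
    intro y
    have : ∀ {u v : Ω}, f u = f v → ∀ z, f (swap u v z) = f z := by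
      intro u v e z
      rcases eq_or_ne z u with rfl | hzu
      · rw [swap_apply_left, e]
      rcases eq_or_ne z v with rfl | hzv
      · rw [swap_apply_right, e]
      rw [swap_apply_of_ne_of_ne hzu hzv]
    rw [Perm.mul_apply, this e1, this e2]
  let t : ρ.ker := ⟨_, mem h0 h1 (hu0.trans hv0.symm) (hu1.trans hv1.symm)⟩
  have ne01 : ∀ {z z' : Ω} {i i' : Fin b}, f z = i → f z' = i' → i ≠ i' → z ≠ z' :=
    fun h h' hne e => hne (h.symm.trans ((congrArg f e).trans h'))
  have h01 : (⟨0, by omega⟩ : Fin b) ≠ ⟨1, by omega⟩ := by simp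
  have htv : (t.1 : Perm Ω) u₁ = v₁ := by
    show swap u₀ v₀ (swap u₁ v₁ u₁) = v₁
    rw [swap_apply_left, swap_apply_of_ne_of_ne (ne01 hv1 hu0 h01.symm) (ne01 hv1 hv0 h01.symm)]
  have ht : t ≠ 1 := fun e => by
    rw [e] at htv
    exact h1 htv
  refine ⟨?_, fun hb3 => ?_⟩
  · have hj1 : 1 ≤ j := by
      by_contra h
      have : Nat.card ρ.ker = 1 := by rw [hj]; simp [show j = 0 by omega]
      have := (Nat.card_eq_one_iff_unique.1 this).1
      exact ht (Subsingleton.elim _ _)
    rw [hcard, hj]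
    exact mul_dvd_mul (Nat.dvd_factorial two_pos hb) (dvd_pow_self 2 (by omega))
  · obtain ⟨u₂, v₂, h2, hu2, hv2⟩ := exists_pair_in_fibre f hf ⟨2, by omega⟩ (by omega)
    let t' : ρ.ker := ⟨_, mem h0 h2 (hu0.trans hv0.symm) (hu2.trans hv2.symm)⟩
    have h12 : (⟨1, by omega⟩ : Fin b) ≠ ⟨2, by omega⟩ := by simp
    have htv' : (t'.1 : Perm Ω) u₁ = u₁ := by
      show swap u₀ v₀ (swap u₂ v₂ u₁) = u₁
      rw [swap_apply_of_ne_of_ne (ne01 hu1 hu2 h12) (ne01 hu1 hv2 h12),
        swap_apply_of_ne_of_ne (ne01 hu1 hu0 h01.symm) (ne01 hu1 hv0 h01.symm)]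
    have ht' : t' ≠ 1 := fun e => by
      have e' := congrArg (fun g : ρ.ker => (g.1 : Perm Ω) u₂) e
      have : swap u₀ v₀ (swap u₂ v₂ u₂) = u₂ := e'
      rw [swap_apply_left, swap_apply_of_ne_of_ne (ne01 hv2 hu0 (by simp)) (ne01 hv2 hv0 (by simp))] at this
      exact h2 this.symm
    have htt : t ≠ t' := fun e => by
      rw [e, htv'] at htv
      exact h1 htv
    have : ({1, t, t'} : Finset ρ.ker).card ≤ Nat.card ρ.ker := by
      rw [Nat.card_eq_fintype_card]; exact Finset.card_le_univ _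
    rw [Finset.card_eq_three.2 ⟨1, t, t', ht.symm, ht'.symm, htt, rfl⟩] at this
    have hj2 : 2 ≤ j := by
      by_contra h
      have : 2 ^ j ≤ 2 ^ 1 := Nat.pow_le_pow_right two_pos (by omega)
      omega
    rw [hcard, hj, hb3]
    exact dvd_trans (by decide) (mul_dvd_mul_left (Nat.factorial 3) (pow_dvd_pow 2 hj2))

include hf in
theorem exists_threeCycle_of_two (ha : a = 2) (hb : 5 ≤ b) (M : Subgroup (Perm Ω))
    (hWM : evenPartStab f ≤ M) (g : Perm Ω) (hg : g ∈ M) (hgW : g ∉ partStab f) :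
    ∃ c ∈ M, c.IsThreeCycle := by
  classical
  obtain ⟨p, p', hpp, hfp, hgp⟩ : ∃ p p', p ≠ p' ∧ f p = f p' ∧ f (g p) ≠ f (g p') := by
    by_contra hc
    push Not at hc
    have hmap : ∀ x y, f x = f y → f (g x) = f (g y) := fun x y e => by
      rcases eq_or_ne x y with rfl | h
      · rfl
      · exact hc x y h e
    -- the induced map on blocks is surjective, hence bijective
    obtain ⟨r, hr⟩ : ∃ r : Fin b → Ω, ∀ i, f (r i) = i :=
      ⟨fun i => (coord f hf).symm (i, ⟨0, by omega⟩), fun i => apply_coord_symm f hf _⟩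
    have hbij : Function.Bijective (fun i => f (g (r i))) := by
      refine Finite.surjective_iff_bijective.1 fun j => ?_
      obtain ⟨x, hx⟩ := g.surjective (r j)
      refine ⟨f x, ?_⟩
      show f (g (r (f x))) = j
      rw [hmap _ x (hr _), hx, hr]
    refine hgW fun x y => ⟨hmap x y, fun e => ?_⟩
    apply hbij.1
    show f (g (r (f x))) = f (g (r (f y)))
    rw [hmap _ x (hr _), hmap _ y (hr _), e]
  set u := g p with hu
  set v := g p' with hv
  obtain ⟨u', hu'⟩ : ∃ u', u' ≠ u ∧ f u' = f u := by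
    obtain ⟨c, d, hcd, hc, hd⟩ := exists_pair_in_fibre f hf (f u) (by omega)
    rcases eq_or_ne c u with rfl | h
    · exact ⟨d, hcd.symm, hd⟩
    · exact ⟨c, h, hc⟩
  obtain ⟨k, hk⟩ : ∃ k : Fin b, k ∉ ({f p, f (g.symm u')} : Finset (Fin b)) := by
    by_contra hc
    push Not at hc
    have := Finset.card_le_card (fun k _ => hc k : (Finset.univ : Finset (Fin b)) ⊆ _)
    have := this.trans Finset.card_le_two
    simp at this
    omega
  simp only [Finset.mem_insert, Finset.mem_singleton, not_or] at hk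
  obtain ⟨q, q', hqq, hq, hq'⟩ := exists_pair_in_fibre f hf k (by omega)
  obtain ⟨l, hl⟩ : ∃ l : Fin b, l ∉ ({f u, f v, f (g q), f (g q')} : Finset (Fin b)) := by
    by_contra hc
    push Not at hc
    have := Finset.card_le_card (fun k _ => hc k : (Finset.univ : Finset (Fin b)) ⊆ _)
    have := this.trans Finset.card_le_four
    simp at this
    omega
  simp only [Finset.mem_insert, Finset.mem_singleton, not_or] at hl
  obtain ⟨l₁, l₂, hll, hl₁, hl₂⟩ := exists_pair_in_fibre f hf l (by omega)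
  set s := g * (swap p p' * swap q q') * g⁻¹ with hs
  set t := swap u u' * swap l₁ l₂ with ht
  have hsM : s ∈ M := M.mul_mem (M.mul_mem hg
    (hWM (double_swap_mem f hf hpp hqq hfp (hq.trans hq'.symm)))) (M.inv_mem hg)
  have htM : t ∈ M := hWM (double_swap_mem f hf hu'.1.symm hll hu'.2.symm (hl₁.trans hl₂.symm))
  refine ⟨s * t * s⁻¹ * t⁻¹, M.mul_mem (M.mul_mem (M.mul_mem hsM htM) (M.inv_mem hsM))
    (M.inv_mem htM), isThreeCycle_commutator s t u ?_⟩
  have hs' : s = swap u v * swap (g q) (g q') := by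
    rw [hs, hu, hv, Equiv.swap_apply_apply, Equiv.swap_apply_apply]
    group
  have hpq : p ≠ q ∧ p ≠ q' ∧ p' ≠ q ∧ p' ≠ q' := by
    refine ⟨?_, ?_, ?_, ?_⟩ <;> rintro rfl <;> simp_all
  obtain ⟨n1, n2, n3, n4⟩ := hpq
  have hu'q : u' ≠ g q ∧ u' ≠ g q' := by
    constructor <;> intro e <;> apply hk.2 <;> simp [e, hq, hq']
  have hu'v : u' ≠ v := fun e => hgp (by rw [← hu'.2, e])
  rw [hs', ht]
  ext z
  simp only [Finset.mem_inter, Perm.mem_support, Perm.mul_apply, Finset.mem_singleton]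
  constructor
  · rintro ⟨hz1, hz2⟩
    by_contra hzu
    have hzq : z = v ∨ z = g q ∨ z = g q' := by
      by_contra hc
      push Not at hc
      rw [swap_apply_of_ne_of_ne hc.2.1 hc.2.2, swap_apply_of_ne_of_ne hzu hc.1] at hz1
      exact hz1 rfl
    have hzl : z = u' ∨ z = l₁ ∨ z = l₂ := by
      by_contra hc
      push Not at hc
      rw [swap_apply_of_ne_of_ne hc.2.1 hc.2.2, swap_apply_of_ne_of_ne hzu hc.1] at hz2
      exact hz2 rfl
    rcases hzl with rfl | rfl | rfl
    · rcases hzq with h | h | h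
      exacts [hu'v h, hu'q.1 h, hu'q.2 h]
    · rcases hzq with h | h | h
      exacts [hl.2.1 (by rw [← h, hl₁]), hl.2.2.1 (by rw [← h, hl₁]), hl.2.2.2 (by rw [← h, hl₁])]
    · rcases hzq with h | h | h
      exacts [hl.2.1 (by rw [← h, hl₂]), hl.2.2.1 (by rw [← h, hl₂]), hl.2.2.2 (by rw [← h, hl₂])]
  · rintro rfl
    have e1 : g p ≠ g q := fun e => n1 (g.injective e)
    have e2 : g p ≠ g q' := fun e => n2 (g.injective e)
    have e3 : g p ≠ l₁ := fun e => hl.1 (by rw [hu, e, hl₁])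
    have e4 : g p ≠ l₂ := fun e => hl.1 (by rw [hu, e, hl₂])
    constructor
    · rw [swap_apply_of_ne_of_ne e1 e2, swap_apply_left]
      exact fun e => hpp (g.injective e).symm
    · rw [swap_apply_of_ne_of_ne e3 e4, swap_apply_left]
      exact hu'.1

end

end H46
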